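import Cfsg.Agent.StandardComponent.AltStd
import Cfsg.Agent.StandardComponent.AltAut
import Cfsg.Agent.S1754
set_option linter.all false

/-!
# Existence of the data `AltStd` for a standard subgroup of type `2.A_n`
-/

set_option autoImplicit false

namespace Cfsg.Agent.StandardComponent.AltExists

open Equiv Cfsg.Agent.SporRec.TwoAn
open Cfsg.Agent.SporadicRecognition.AltCover
open Cfsg.Agent.StandardComponent

/-- An automorphism preserving the kernel of a surjection induces an automorphism of the image. -/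
theorem exists_induced {L A : Type*} [Group L] [Group A] (π : L →* A) (hπ : Function.Surjective π)
    (α : MulAut L) (h : ∀ x, π x = 1 ↔ π (α x) = 1) : ∃ β : MulAut A, ∀ x, β (π x) = π (α x) := by
  classical
  have hwd : ∀ x y, π x = π y ↔ π (α x) = π (α y) := by
    intro x y
    have h1 := h (x * y⁻¹)
    rw [map_mul, map_inv, mul_inv_eq_one, map_mul, map_inv, map_mul, map_inv, mul_inv_eq_one] at h1
    exact h1
  have hsec : ∀ a, π (Function.surjInv hπ a) = a := Function.surjInv_eq hπ
  let f : A →* A :=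
    { toFun := fun a => π (α (Function.surjInv hπ a))
      map_one' := (h _).1 (hsec 1)
      map_mul' := by
        intro a b
        rw [← map_mul, ← map_mul]
        apply (hwd _ _).1
        rw [hsec, map_mul, hsec, hsec] }
  have hf : ∀ x, f (π x) = π (α x) := fun x => (hwd _ _).1 (hsec (π x))
  have hinj : Function.Injective f := by
    intro a b hab
    obtain ⟨x, rfl⟩ := hπ a
    obtain ⟨y, rfl⟩ := hπ b
    rw [hf, hf] at hab
    exact (hwd _ _).2 hab
  have hsurj : Function.Surjective f := by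
    intro a
    obtain ⟨x, rfl⟩ := hπ a
    refine ⟨π (α.symm x), ?_⟩
    rw [hf]
    simp
  exact ⟨MulEquiv.ofBijective f ⟨hinj, hsurj⟩, hf⟩

/-- A homomorphism-like argument: if conjugation by `y` is trivial modulo the centre of the
perfect group `L`, then `y` centralizes `L`. -/
theorem comm_of_perfect {G : Type*} [Group G] (L : Subgroup G) (hp : Group.IsPerfect ↥L) (y : G)
    (hy : ∀ x ∈ L, y * x * y⁻¹ ∈ L)
    (hc : ∀ x ∈ L, ∀ u ∈ L, (y * x * y⁻¹ * x⁻¹) * u = u * (y * x * y⁻¹ * x⁻¹)) :
    ∀ x ∈ L, y * x = x * y := by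
  have hmem : ∀ x : L, y * x * y⁻¹ * (x : G)⁻¹ ∈ L := fun x => mul_mem (hy x x.2) (inv_mem x.2)
  have hcen : ∀ x : L, (⟨y * x * y⁻¹ * (x : G)⁻¹, hmem x⟩ : L) ∈ Subgroup.center L := by
    intro x
    rw [Subgroup.mem_center_iff]
    intro u
    exact Subtype.ext (hc x x.2 u u.2).symm
  let f : L →* Subgroup.center L :=
    { toFun := fun x => ⟨⟨y * x * y⁻¹ * (x : G)⁻¹, hmem x⟩, hcen x⟩
      map_one' := by
        apply Subtype.ext; apply Subtype.ext
        simp
      map_mul' := by
        intro a b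
        apply Subtype.ext; apply Subtype.ext
        show y * ((a : G) * b) * y⁻¹ * ((a : G) * b)⁻¹ =
          y * a * y⁻¹ * (a : G)⁻¹ * (y * b * y⁻¹ * (b : G)⁻¹)
        have h1 := hc b b.2 a⁻¹ (inv_mem a.2)
        calc y * ((a : G) * b) * y⁻¹ * ((a : G) * b)⁻¹
            = y * a * y⁻¹ * ((y * b * y⁻¹ * (b : G)⁻¹) * (a : G)⁻¹) := by group
          _ = y * a * y⁻¹ * ((a : G)⁻¹ * (y * b * y⁻¹ * (b : G)⁻¹)) := by rw [h1]
          _ = _ := by group }
  have hker : f.ker = ⊤ := by
    rw [eq_top_iff, ← hp.commutator_eq_top, commutator_def, Subgroup.commutator_le]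
    intro a _ b _
    rw [MonoidHom.mem_ker, map_commutatorElement]
    rw [commutatorElement_eq_one_iff_mul_comm]
    apply Subtype.ext
    exact (Subgroup.mem_center_iff.mp (f b).2 (f a : L))
  intro x hx
  have h1 : f ⟨x, hx⟩ = 1 := by
    rw [← MonoidHom.mem_ker, hker]; trivial
  have h2 : y * x * y⁻¹ * x⁻¹ = 1 := congrArg (fun u : Subgroup.center L => ((u : L) : G)) h1
  rw [mul_inv_eq_one, mul_inv_eq_iff_eq_mul] at h2
  exact h2

/-- The data `AltStd` of a standard subgroup of type `2.A_n`. -/
theorem exists_altStd {G : Type*} [Group G] [Finite G] (L : Subgroup G)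
    (hL : Cfsg.IsStandardSubgroup L) {n : ℕ} (hn : 7 ≤ n)
    (hLX : Cfsg.IsNonsplitDoubleCover ↥L ↥(alternatingGroup (Fin n))) :
    ∃ (z : G) (S : AltStd G n z), S.L = L := by
  classical
  obtain ⟨π, z0, hcov, hcen⟩ := exists_isCover hLX
  obtain ⟨ψ, hψ⟩ := AltAut.exists_autHom n hn
  obtain ⟨hqs, ⟨_, htight⟩, _, hnorm⟩ := id hL
  have hperf : Group.IsPerfect ↥L := hqs.1
  set z : G := (z0 : G) with hz
  have hz1 : z ≠ 1 := fun h => hcov.z_ne (Subtype.ext h)
  have hzz : z * z = 1 := congrArg Subtype.val hcov.z_mul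
  have hzord : orderOf z = 2 := by
    apply orderOf_eq_prime (by rw [pow_two]; exact hzz) hz1
  have hzinv : z⁻¹ = z := inv_eq_of_mul_eq_one_left hzz
  have hzL : z ∈ L := z0.2
  have hzcomm : ∀ x ∈ L, x * z = z * x := fun x hx =>
    congrArg Subtype.val (hcov.z_comm ⟨x, hx⟩)
  have hzC : z ∈ Subgroup.centralizer (L : Set G) := by
    rw [Subgroup.mem_centralizer_iff]
    exact hzcomm
  have hnormMem : ∀ y : G, y ∈ Subgroup.normalizer (L : Set G) → ∀ x ∈ L, y * x * y⁻¹ ∈ L := by
    intro y hy x hx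
    exact (Subgroup.mem_normalizer_iff.mp hy x).1 hx
  -- centre elements of `L`
  have hcen' : ∀ x ∈ L, (∀ u ∈ L, x * u = u * x) → x = 1 ∨ x = z := by
    intro x hx hxu
    have h1 : (⟨x, hx⟩ : L) ∈ Subgroup.center L := by
      rw [Subgroup.mem_center_iff]
      intro u
      exact Subtype.ext (hxu u u.2).symm
    rcases (hcen _).1 h1 with h | h
    · exact Or.inl (congrArg Subtype.val h)
    · exact Or.inr (congrArg Subtype.val h)
  -- normalizing elements commute with z
  have hNz : ∀ y : G, y ∈ Subgroup.normalizer (L : Set G) → y * z = z * y := by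
    intro y hy
    have h1 : y * z * y⁻¹ ∈ L := hnormMem y hy z hzL
    have h2 : y * z * y⁻¹ = 1 ∨ y * z * y⁻¹ = z := by
      apply hcen' _ h1
      intro u hu
      have hu' : y⁻¹ * u * y ∈ L := by
        have := hnormMem y⁻¹ (inv_mem hy) u hu
        rwa [inv_inv] at this
      have h3 := hzcomm _ hu'
      calc y * z * y⁻¹ * u = y * (z * (y⁻¹ * u * y)) * y⁻¹ := by group
        _ = y * ((y⁻¹ * u * y) * z) * y⁻¹ := by rw [h3]
        _ = u * (y * z * y⁻¹) := by group
    rcases h2 with h | h
    · exfalso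
      apply hz1
      have : z = y⁻¹ * (y * z * y⁻¹) * y := by group
      rw [this, h]; group
    · rwa [mul_inv_eq_iff_eq_mul] at h
  -- elements commuting with z normalize L
  have hCN : ∀ y : G, y * z = z * y → y ∈ Subgroup.normalizer (L : Set G) := by
    intro y hy
    apply (Cfsg.Agent.S1754.result L hL z hzord hzC).1
    rw [Subgroup.mem_centralizer_singleton_iff]
    exact hy
  have hmemL : ∀ y : G, y * z = z * y → ∀ x ∈ L, y * x * y⁻¹ ∈ L := fun y hy =>
    hnormMem y (hCN y hy)
  -- the induced automorphisms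
  have hind : ∀ y : G, y * z = z * y → ∃ β : MulAut (alternatingGroup (Fin n)),
      ∀ (x : G) (hx : x ∈ L) (hx' : y * x * y⁻¹ ∈ L), β (π ⟨x, hx⟩) = π ⟨y * x * y⁻¹, hx'⟩ := by
    intro y hy
    let α : MulAut L := Subgroup.normalizerMonoidHom L ⟨y, hCN y hy⟩
    have hα : ∀ x : L, ((α x : L) : G) = y * x * y⁻¹ := fun x => rfl
    obtain ⟨β, hβ⟩ := exists_induced π hcov.surj α (by
      intro x
      rw [hcov.ker, hcov.ker]
      constructor
      · rintro (rfl | rfl)
        · left; exact map_one α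
        · right
          apply Subtype.ext
          rw [hα]
          show y * z * y⁻¹ = z
          rw [hy, mul_inv_cancel_right]
      · rintro (h | h)
        · left
          exact (map_eq_one_iff α α.injective).mp h
        · right
          have h1 := congrArg Subtype.val h
          rw [hα] at h1
          apply Subtype.ext
          show (x : G) = z
          have h2 : y * (x : G) = z * y := mul_inv_eq_iff_eq_mul.mp h1
          rw [← hy] at h2
          exact mul_left_cancel h2)
    refine ⟨β, fun x hx hx' => ?_⟩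
    rw [hβ]
    rfl
  choose! B hB using hind
  -- B is determined
  have hBuniq : ∀ y (hy : y * z = z * y) (γ : MulAut (alternatingGroup (Fin n))),
      (∀ (x : G) (hx : x ∈ L) (hx' : y * x * y⁻¹ ∈ L), γ (π ⟨x, hx⟩) = π ⟨y * x * y⁻¹, hx'⟩) →
      γ = B y := by
    intro y hy γ hγ
    ext a
    obtain ⟨⟨x, hx⟩, rfl⟩ := hcov.surj a
    rw [hγ x hx (hmemL y hy x hx), hB y hy x hx (hmemL y hy x hx)]
  let φ : G → Perm (Fin n) := fun y => ψ (B y)
  have hcommul : ∀ x y : G, x * z = z * x → y * z = z * y → x * y * z = z * (x * y) := by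
    intro x y hx hy
    rw [mul_assoc, hy, ← mul_assoc, hx, mul_assoc]
  have hφmul : ∀ x y, x * z = z * x → y * z = z * y → φ (x * y) = φ x * φ y := by
    intro x y hx hy
    show ψ (B (x * y)) = ψ (B x) * ψ (B y)
    rw [← map_mul]
    congr 1
    symm
    apply hBuniq _ (hcommul x y hx hy)
    intro u hu hu'
    have hyu := hmemL y hy u hu
    rw [MulAut.mul_apply, hB y hy u hu hyu, hB x hx _ hyu (hmemL x hx _ hyu)]
    congr 1
    apply Subtype.ext
    show x * (y * u * y⁻¹) * x⁻¹ = x * y * u * (x * y)⁻¹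
    group
  -- values on L
  have hφL : ∀ (x : G) (hx : x ∈ L), φ x = ((π ⟨x, hx⟩ : alternatingGroup (Fin n)) : Perm (Fin n)) := by
    intro x hx
    obtain ⟨m, rfl⟩ : ∃ m, n = m + 2 := ⟨n - 2, by omega⟩
    apply AltAut.conj_unique (m := m) (by omega)
    intro a
    rw [← hψ (B x) a]
    have h1 : MulAut.conj (π ⟨x, hx⟩) = B x := by
      apply hBuniq x (hzcomm x hx)
      intro u hu hu'
      rw [MulAut.conj_apply, ← map_mul, ← map_inv, ← map_mul]
      rfl
    rw [← h1]
    rfl
  refine ⟨z, ⟨L, φ, hzz, hz1, hzL, hzcomm, hmemL, hφmul, ?_, ?_, ?_, ?_, ?_, ?_, ?_⟩, rfl⟩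
  · -- φ_even
    intro x hx
    rw [hφL x hx]
    exact (π ⟨x, hx⟩).2
  · -- lift
    intro σ hσ
    obtain ⟨⟨x, hx⟩, hxσ⟩ := hcov.surj ⟨σ, hσ⟩
    refine ⟨x, hx, ?_⟩
    rw [hφL x hx, hxσ]
  · -- φ_ker
    intro y hy
    constructor
    · intro h
      apply comm_of_perfect L hperf y (hmemL y hy)
      intro x hx u hu
      have hx' := hmemL y hy x hx
      -- π (y x y⁻¹) = π x
      have h1 : π ⟨y * x * y⁻¹, hx'⟩ = π ⟨x, hx⟩ := by
        rw [← hB y hy x hx hx']
        apply Subtype.ext
        rw [hψ (B y)]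
        show ψ (B y) * _ * (ψ (B y))⁻¹ = _
        have h2 : ψ (B y) = 1 := h
        rw [h2]; simp
      rcases hcov.eq_or_of_map_eq h1 with h3 | h3
      · have h4 : y * x * y⁻¹ = x := congrArg Subtype.val h3
        rw [h4]; group
      · have h4 : y * x * y⁻¹ = x * z := congrArg Subtype.val h3
        have h5 : y * x * y⁻¹ * x⁻¹ = z := by
          rw [h4, hzcomm x hx, mul_inv_cancel_right]
        rw [h5]
        exact (hzcomm u hu).symm
    · intro h
      show ψ (B y) = 1
      have h1 : (1 : MulAut (alternatingGroup (Fin n))) = B y := by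
        apply hBuniq y hy
        intro x hx hx'
        rw [MulAut.one_apply]
        congr 1
        apply Subtype.ext
        show x = y * x * y⁻¹
        rw [h x hx, mul_inv_cancel_right]
      rw [← h1, map_one]
  · -- φ_L
    intro x hx h
    rw [hφL x hx] at h
    have h1 : π ⟨x, hx⟩ = 1 := Subtype.ext h
    rcases (hcov.ker _).1 h1 with h2 | h2
    · exact Or.inl (congrArg Subtype.val h2)
    · exact Or.inr (congrArg Subtype.val h2)
  · -- dbl
    intro a b c d h1 h2 h3 h4 h5 h6 g hg hgφ
    have h7 := (ofIsCover (by omega : 5 ≤ n) hcov).dbl a b c d h1 h2 h3 h4 h5 h6 ⟨g, hg⟩ (by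
      rw [hφL g hg] at hgφ
      exact hgφ)
    exact congrArg Subtype.val h7
  · -- tight
    intro k hk hk2 hk1 y hy
    apply hNz
    have hkord : orderOf k = 2 := orderOf_eq_prime (by rw [pow_two]; exact hk2) hk1
    have hkC : k ∈ Subgroup.centralizer (L : Set G) := by
      rw [Subgroup.mem_centralizer_iff]
      intro x hx
      exact (hk x hx).symm
    apply (Cfsg.Agent.S1754.result L hL k hkord hkC).1
    rw [Subgroup.mem_centralizer_singleton_iff]
    exact hy
  · -- uniq
    intro g hg
    -- z^g lies in K ∩ K^g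
    have hgN : g ∈ Subgroup.normalizer (L : Set G) := by
      rw [hnorm]
      by_contra hcon
      have hodd := htight g hcon
      have hmem : g * z * g⁻¹ ∈ Subgroup.centralizer (L : Set G) ⊓
          (Subgroup.centralizer (L : Set G)).map (MulAut.conj g).toMonoidHom := by
        refine ⟨?_, ⟨z, hzC, ?_⟩⟩
        · show g * z * g⁻¹ ∈ Subgroup.centralizer (L : Set G)
          rw [Subgroup.mem_centralizer_iff]
          intro x hx
          exact (hg x hx).symm
        · simp
      have hdvd : orderOf (⟨g * z * g⁻¹, hmem⟩ : ↥(Subgroup.centralizer (L : Set G) ⊓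
          (Subgroup.centralizer (L : Set G)).map (MulAut.conj g).toMonoidHom)) ∣ _ :=
        orderOf_dvd_natCard _
      have hord : orderOf (g * z * g⁻¹) = 2 := by
        rw [← hzord]
        exact orderOf_injective (MulAut.conj g).toMonoidHom (MulAut.conj g).injective z
      rw [Subgroup.orderOf_mk, hord] at hdvd
      exact (Nat.not_even_iff_odd.mpr hodd) (even_iff_two_dvd.mpr hdvd)
    rw [hNz g hgN, mul_inv_cancel_right]

end Cfsg.Agent.StandardComponent.AltExists
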