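import Cfsg.Prelude.Def_Local
import Cfsg.Agent.Lib.Cores
set_option linter.all false

/-!
# The odd core of the centralizer of an element

Elementary facts on `Cfsg.centralizerPPrimeCore 2 x = O(C_G(x))`: it has odd order, is the largest subgroup of odd
order of `C_G(x)` normalized by `C_G(x)`, and is equivariant under conjugation. (No dependence on signalizer functors.)
-/

set_option autoImplicit false

namespace Cfsg.Agent.StandardComponent.CentCore

open Cfsg

variable {G : Type*} [Group G]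

theorem mem_cent {a x : G} : x ∈ Subgroup.centralizer ({a} : Set G) ↔ x * a = a * x :=
  Subgroup.mem_centralizer_singleton_iff

theorem core_le (a : G) : centralizerPPrimeCore 2 a ≤ Subgroup.centralizer ({a} : Set G) :=
  Subgroup.map_subtype_le _

theorem core_comm {a x : G} (hx : x ∈ centralizerPPrimeCore 2 a) : x * a = a * x := mem_cent.1 (core_le a hx)

theorem core_odd [Finite G] (a : G) : Odd (Nat.card (centralizerPPrimeCore 2 a)) := by
  unfold centralizerPPrimeCore
  rw [Subgroup.card_map_of_injective (Subgroup.subtype_injective _)]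
  exact Nat.Coprime.odd_of_right (Lib.Cores.pPrimeCore_coprime 2)

theorem core_odd_order [Finite G] {a x : G} (hx : x ∈ centralizerPPrimeCore 2 a) : Odd (orderOf x) := by
  have h1 := orderOf_dvd_natCard (⟨x, hx⟩ : centralizerPPrimeCore 2 a)
  rw [Subgroup.orderOf_mk] at h1
  exact Odd.of_dvd_nat (core_odd a) h1

/-- `O(C_G(a))` contains every subgroup of odd order of `C_G(a)` normalised by `C_G(a)`. -/
theorem le_core [Finite G] (a : G) {N : Subgroup G} (hN : ∀ x ∈ N, x * a = a * x)
    (hnorm : ∀ y, y * a = a * y → ∀ x ∈ N, y * x * y⁻¹ ∈ N) (hodd : Odd (Nat.card N)) :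
    N ≤ centralizerPPrimeCore 2 a := by
  have hN' : N ≤ Subgroup.centralizer ({a} : Set G) := fun x hx => mem_cent.2 (hN x hx)
  have h1 : (N.subgroupOf (Subgroup.centralizer ({a} : Set G))).Normal := by
    constructor
    rintro ⟨x, hx⟩ hxN ⟨y, hy⟩
    exact hnorm y (mem_cent.1 hy) x hxN
  have h2 : N.subgroupOf (Subgroup.centralizer ({a} : Set G)) ≤
      pPrimeCore 2 (Subgroup.centralizer ({a} : Set G)) := by
    refine Lib.Cores.le_pPrimeCore h1 ?_
    rw [Nat.card_congr (Subgroup.subgroupOfEquivOfLe hN').toEquiv]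
    exact Nat.coprime_two_right.2 hodd
  have h3 := Subgroup.map_mono (f := (Subgroup.centralizer ({a} : Set G)).subtype) h2
  rwa [Subgroup.subgroupOf_map_subtype, inf_eq_left.2 hN'] at h3

theorem core_conj_mem {a y x : G} (hy : y * a = a * y) (hx : x ∈ centralizerPPrimeCore 2 a) :
    y * x * y⁻¹ ∈ centralizerPPrimeCore 2 a := by
  obtain ⟨x', hx', rfl⟩ := hx
  refine ⟨⟨y, mem_cent.2 hy⟩ * x' * ⟨y, mem_cent.2 hy⟩⁻¹, ?_, rfl⟩
  exact (Lib.Cores.pPrimeCore_normal 2).conj_mem x' hx' _

/-- equivariance -/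
theorem mem_core_conj [Finite G] (g a x : G) :
    x ∈ centralizerPPrimeCore 2 (g * a * g⁻¹) ↔ g⁻¹ * x * g ∈ centralizerPPrimeCore 2 a := by
  have key : ∀ (g a x : G), x ∈ centralizerPPrimeCore 2 a → g * x * g⁻¹ ∈ centralizerPPrimeCore 2 (g * a * g⁻¹) := by
    intro g a x hx
    have h1 : (centralizerPPrimeCore 2 a).map (MulAut.conj g).toMonoidHom ≤ centralizerPPrimeCore 2 (g * a * g⁻¹) := by
      refine le_core _ ?_ ?_ ?_
      · rintro _ ⟨x, hx, rfl⟩
        show g * x * g⁻¹ * (g * a * g⁻¹) = g * a * g⁻¹ * (g * x * g⁻¹)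
        rw [show g * x * g⁻¹ * (g * a * g⁻¹) = g * (x * a) * g⁻¹ by group, core_comm hx]; group
      · rintro y hy _ ⟨x, hx, rfl⟩
        refine ⟨g⁻¹ * y * g * x * (g⁻¹ * y * g)⁻¹, core_conj_mem ?_ hx, ?_⟩
        · rw [show g⁻¹ * y * g * a = g⁻¹ * (y * (g * a * g⁻¹)) * g by group, hy]; group
        · show g * (g⁻¹ * y * g * x * (g⁻¹ * y * g)⁻¹) * g⁻¹ = y * (g * x * g⁻¹) * y⁻¹
          group
      · rw [Subgroup.card_map_of_injective (MulAut.conj g).injective]
        exact core_odd a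
    exact h1 ⟨x, hx, rfl⟩
  constructor
  · intro hx
    have h1 := key g⁻¹ _ x hx
    rw [show g⁻¹ * (g * a * g⁻¹) * g⁻¹⁻¹ = a by group, inv_inv] at h1
    exact h1
  · intro hx
    have h1 := key g a _ hx
    rwa [show g * (g⁻¹ * x * g) * g⁻¹ = x by group] at h1

/-- If `h` commutes with `O(C_G(a))` then `O(C_G(h a h⁻¹)) = O(C_G(a))`. -/
theorem core_eq_of_comm [Finite G] {a h : G} (hh : ∀ x ∈ centralizerPPrimeCore 2 a, x * h = h * x) :
    centralizerPPrimeCore 2 (h * a * h⁻¹) = centralizerPPrimeCore 2 a := by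
  have h1 : centralizerPPrimeCore 2 a ≤ centralizerPPrimeCore 2 (h * a * h⁻¹) := by
    intro x hx
    rw [mem_core_conj, mul_assoc, hh x hx, inv_mul_cancel_left]
    exact hx
  refine le_antisymm ?_ h1
  intro x hx
  have h3 := (mem_core_conj h a x).1 hx
  have h4 := hh _ h3
  have h5 : x = h⁻¹ * x * h := by
    calc x = h * (h⁻¹ * x * h) * h⁻¹ := by group
      _ = h⁻¹ * x * h * h * h⁻¹ := by rw [← h4]
      _ = _ := by group
  rw [h5]
  exact h3

end Cfsg.Agent.StandardComponent.CentCore
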