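import Cfsg.Agent.StandardComponent.AltTransfer
import Cfsg.Agent.StandardComponent.CentCore
import Cfsg.Agent.TwoFusion.ClosingPrime
import Cfsg.Prelude.Def_CaseTheorems
import Cfsg.Agent.StandardComponent.AltStd
import Cfsg.Agent.StandardComponent.AltQuat
import Cfsg.Agent.StandardComponent.AltExists
import Cfsg.Agent.S0215
set_option linter.all false

-- part: StandardComponent/AltClose
section
/-!
# Standard components of type `2.A_n`: `O(C_G(z)) = 1` and `C_G(z) = L`

The odd core `O(C_G(z))` is the same for commuting conjugates of `z`; its normalizer is therefore the whole group or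
strongly embedded.
-/

set_option autoImplicit false

namespace Cfsg.Agent.StandardComponent.AltClose

open Cfsg Equiv Cfsg.Agent.SporRec.TwoAn AltTransfer CentCore

section cover

variable {α : Type*} [Fintype α] [DecidableEq α] {C : Type*} [Group C] (K : Cover α C)

/-- A lift `g` of a non-trivial involution is conjugate to `g z` by an element fixing all fixed points of `g`. -/
theorem exists_conj_mul_z_fix {g : C} (hg : K.π g * K.π g = 1) (h1 : K.π g ≠ 1) :
    ∃ w, w * g * w⁻¹ = g * K.z ∧ ∀ x, K.π g x = x → K.π w x = x := by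
  obtain ⟨a, b, c, d, hab, hac, had, hbc, hbd, hcd, ha, hb, hc, hd, u, g', hu, hgu, hval, hinv, hcard⟩ :=
    K.exists_split hg h1
  obtain ⟨w, hw⟩ := K.exists_lift (Cover.swap_mul_swap_mem a c b d hac hbd)
  have hdis : (K.π w).Disjoint (K.π g') := by
    intro x
    rw [hval x]
    split_ifs with hx
    · right; rfl
    · left
      push Not at hx
      rw [hw, Perm.mul_apply, swap_apply_of_ne_of_ne hx.2.1 hx.2.2.2, swap_apply_of_ne_of_ne hx.1 hx.2.2.1]
  have hcom := K.commute_of_disjoint hdis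
  have hanti := K.anticomm hab hac had hbc hbd hcd hu hw
  refine ⟨w, ?_, ?_⟩
  · rw [mul_inv_eq_iff_eq_mul, hgu]
    calc w * (u * g') = w * u * g' := by group
      _ = u * w * (g' * K.z) := by rw [hanti, mul_assoc (u * w), ← K.z_comm]
      _ = u * (w * g') * K.z := by group
      _ = u * g' * (w * K.z) := by rw [hcom]; group
      _ = u * g' * K.z * w := by rw [K.z_comm w]; group
  · intro x hx
    have hxa : x ≠ a := fun h => hab (by rw [h] at hx; rw [← ha, hx])
    have hxb : x ≠ b := fun h => hab (by rw [h] at hx; rw [← hb, hx])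
    have hxc : x ≠ c := fun h => hcd (by rw [h] at hx; rw [← hc, hx])
    have hxd : x ≠ d := fun h => hcd (by rw [h] at hx; rw [← hd, hx])
    rw [hw, Perm.mul_apply, swap_apply_of_ne_of_ne hxb hxd, swap_apply_of_ne_of_ne hxa hxc]

end cover

variable {G : Type*} [Group G] {n : ℕ} {z : G} {S : AltStd G n z}

/-- For commuting conjugates `z ≠ z'` of `z` the elements of odd order of `C_G(L)` fix the support of `z` in the
action of `C_G(z')` on its component. -/
def FixSupp (S : AltStd G n z) : Prop := ∀ g : G, g * z * g⁻¹ * z = z * (g * z * g⁻¹) → g * z * g⁻¹ ≠ z →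
  ∀ y, (∀ x ∈ S.L, y * x = x * y) → Odd (orderOf y) →
    ∀ i, (S.conj g).φ z i ≠ i → (S.conj g).φ y i = i

/-- `y` of odd order commutes with the elements of the component whose image commutes with that of `y`. -/
theorem commute_of_odd_order {y l : G} (hy : y * z = z * y) (hl : l ∈ S.L) (ho : Odd (orderOf y))
    (hc : S.φ y * S.φ l = S.φ l * S.φ y) : y * l = l * y := by
  have h1 := S.conj_mem y hy l hl
  have h2 : S.cover.π ⟨y * l * y⁻¹, h1⟩ = S.cover.π ⟨l, hl⟩ := by
    show S.φ (y * l * y⁻¹) = S.φ l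
    rw [S.φ_conj hy (S.comm l hl), hc, mul_inv_cancel_right]
  rcases S.cover.lift_eq h2 with h3 | h3
  · have h4 : y * l * y⁻¹ = l := congrArg Subtype.val h3
    rwa [mul_inv_eq_iff_eq_mul] at h4
  · exfalso
    have h4 : y * l * y⁻¹ = l * z := congrArg Subtype.val h3
    have h5 : ∀ j : ℕ, y ^ j * l * (y ^ j)⁻¹ = l * z ^ j := by
      intro j
      induction j with
      | zero => simp
      | succ j ih =>
        rw [pow_succ', pow_succ]
        calc y * y ^ j * l * (y * y ^ j)⁻¹ = y * (y ^ j * l * (y ^ j)⁻¹) * y⁻¹ := by group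
          _ = y * (l * z ^ j) * y⁻¹ := by rw [ih]
          _ = y * l * y⁻¹ * (y * z ^ j * y⁻¹) := by group
          _ = l * z * z ^ j := by
            rw [h4]
            congr 1
            have h6 : Commute y (z ^ j) := (show Commute y z from hy).pow_right j
            rw [h6.eq, mul_inv_cancel_right]
          _ = l * (z ^ j * z) := by rw [mul_assoc, ← pow_succ', ← pow_succ]
    have h6 := h5 (orderOf y)
    rw [pow_orderOf_eq_one] at h6
    obtain ⟨r, hr⟩ := ho
    rw [hr, pow_succ, pow_mul, pow_two, S.z_sq, one_pow, one_mul, one_mul, inv_one, mul_one, left_eq_mul] at h6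
    exact S.z_ne h6

/-- `O(C_G(z))` centralizes the component. -/
theorem core_centralizes [Finite G] (hn : 5 ≤ n) (S : AltStd G n z) {y : G}
    (hy : y ∈ centralizerPPrimeCore 2 z) : ∀ x ∈ S.L, y * x = x * y := by
  have hN : ((centralizerPPrimeCore 2 z).subgroupOf S.L) = ⊥ := by
    refine CoverExtra.odd_normal_eq_bot S.cover (by rwa [Fintype.card_fin]) _ ?_ ?_
    · constructor
      rintro ⟨x, hx⟩ hxN ⟨l, hl⟩
      exact core_conj_mem (S.comm l hl) hxN
    · have h1 : Nat.card ((centralizerPPrimeCore 2 z).subgroupOf S.L) ∣ Nat.card (centralizerPPrimeCore 2 z) := by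
        have h2 : Nat.card ((centralizerPPrimeCore 2 z).subgroupOf S.L) =
            Nat.card ((centralizerPPrimeCore 2 z ⊓ S.L : Subgroup G)) := by
          rw [← Subgroup.subgroupOf_map_subtype, Subgroup.card_map_of_injective (Subgroup.subtype_injective _)]
        rw [h2]
        exact Subgroup.card_dvd_of_le inf_le_left
      exact Odd.of_dvd_nat (core_odd z) h1
  intro x hx
  have hyz := core_comm hy
  have h1 : y * x * y⁻¹ * x⁻¹ ∈ S.L := S.L.mul_mem (S.conj_mem y hyz x hx) (S.L.inv_mem hx)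
  have h2 : y * x * y⁻¹ * x⁻¹ ∈ centralizerPPrimeCore 2 z := by
    have h3 := core_conj_mem (S.comm x hx) ((centralizerPPrimeCore 2 z).inv_mem hy)
    have h4 := (centralizerPPrimeCore 2 z).mul_mem hy h3
    rwa [show y * (x * y⁻¹ * x⁻¹) = y * x * y⁻¹ * x⁻¹ by group] at h4
  have h3 : (⟨y * x * y⁻¹ * x⁻¹, h1⟩ : S.L) ∈ (centralizerPPrimeCore 2 z).subgroupOf S.L := h2
  rw [hN, Subgroup.mem_bot] at h3
  have h4 : y * x * y⁻¹ * x⁻¹ = 1 := congrArg Subtype.val h3
  rwa [mul_inv_eq_one, mul_inv_eq_iff_eq_mul] at h4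

theorem core_mul_eq [Finite G] (hn : 5 ≤ n) (hL : ∀ {z : G} (S : AltStd G n z), InL S)
    (hF : ∀ {z : G} (S : AltStd G n z), FixSupp S) {z : G} (S : AltStd G n z) {g : G}
    (hc : g * z * g⁻¹ * z = z * (g * z * g⁻¹)) (hne : g * z * g⁻¹ ≠ z) :
    centralizerPPrimeCore 2 (z * (g * z * g⁻¹)) = centralizerPPrimeCore 2 z := by
  set S' := S.conj g with hS'
  have hzL : z ∈ S'.L := by
    have h1 := hL S' g⁻¹ (by
      rw [show g⁻¹ * (g * z * g⁻¹) * g⁻¹⁻¹ = z by group]
      exact hc.symm)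
    rwa [show g⁻¹ * (g * z * g⁻¹) * g⁻¹⁻¹ = z by group] at h1
  have hφz : S'.φ z ≠ 1 := by
    intro h1
    rcases S'.φ_L z hzL h1 with h2 | h2
    · exact S.z_ne h2
    · exact hne h2.symm
  obtain ⟨⟨h, hh⟩, hhz, hfix⟩ := exists_conj_mul_z_fix S'.cover (g := ⟨z, hzL⟩) (by
    show S'.φ z * S'.φ z = 1
    rw [← S'.φ_mul z z hc.symm hc.symm, S.z_sq, S'.φ_one]) hφz
  have hhz' : h * z * h⁻¹ = z * (g * z * g⁻¹) := congrArg Subtype.val hhz
  rw [← hhz']
  refine core_eq_of_comm ?_
  intro y hy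
  have hyL := core_centralizes hn S hy
  have hyo := core_odd_order hy
  have hyz' : y * (g * z * g⁻¹) = g * z * g⁻¹ * y := hyL _ (hL S g hc)
  refine commute_of_odd_order (S := S') hyz' hh hyo ?_
  have h1 : (S'.φ y).Disjoint (S'.φ h) := by
    intro i
    by_cases hi : S'.φ z i = i
    · exact Or.inr (hfix i hi)
    · exact Or.inl (hF S g hc hne y hyL hyo i hi)
  exact h1.commute

/-- `O(C_G(z)) = O(C_G(z'))` for commuting conjugates. -/
theorem core_eq [Finite G] (hn : 5 ≤ n) (hL : ∀ {z : G} (S : AltStd G n z), InL S)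
    (hF : ∀ {z : G} (S : AltStd G n z), FixSupp S) {z : G} (S : AltStd G n z) {g : G}
    (hc : g * z * g⁻¹ * z = z * (g * z * g⁻¹)) :
    centralizerPPrimeCore 2 (g * z * g⁻¹) = centralizerPPrimeCore 2 z := by
  by_cases hne : g * z * g⁻¹ = z
  · rw [hne]
  have h1 := core_mul_eq hn hL hF S hc hne
  have e : g⁻¹ * (g * z * g⁻¹) * g⁻¹⁻¹ = z := by group
  have h2 := core_mul_eq hn hL hF (S.conj g) (g := g⁻¹)
    (by rw [e]; exact hc.symm) (by rw [e]; exact fun h => hne h.symm)
  rw [e, hc, h1] at h2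
  exact h2.symm

/-- The normalizer of `O(C_G(z))`. -/
def H (z : G) : Subgroup G := Subgroup.normalizer (centralizerPPrimeCore 2 z : Set G)

theorem cent_le_H (z : G) : Subgroup.centralizer ({z} : Set G) ≤ H z := by
  intro y hy
  rw [H, Subgroup.mem_normalizer_iff]
  intro x
  have hy' := CentCore.mem_cent.1 hy
  constructor
  · exact core_conj_mem hy'
  · intro h
    have h1 := core_conj_mem (AltStd.comm_inv hy') h
    rwa [show y⁻¹ * (y * x * y⁻¹) * y⁻¹⁻¹ = x by group] at h1

theorem mem_H_of_core_eq [Finite G] {z g : G}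
    (h : centralizerPPrimeCore 2 (g * z * g⁻¹) = centralizerPPrimeCore 2 z) : g ∈ H z := by
  rw [H, Subgroup.mem_normalizer_iff]
  intro x
  have h1 := mem_core_conj g z (g * x * g⁻¹)
  rw [show g⁻¹ * (g * x * g⁻¹) * g = x by group, h] at h1
  exact h1.symm

/-- If `G` is simple, `O(C_G(z)) = 1`. -/
theorem core_eq_bot [Finite G] [IsSimpleGroup G] (hn : 6 ≤ n) (hn' : n < 16)
    (hSE : ∀ H : Subgroup G, IsStronglyEmbedded H → (oddCore H).map H.subtype ≤ oddCore G)
    (hL : ∀ {z : G} (S : AltStd G n z), InL S) (hF : ∀ {z : G} (S : AltStd G n z), FixSupp S)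
    {z : G} (S : AltStd G n z) (hK : SmallK S)
    (hz : ∃ g : G, g * z * g⁻¹ ≠ z ∧ g * z * g⁻¹ * z = z * (g * z * g⁻¹)) : centralizerPPrimeCore 2 z = ⊥ := by
  have hz2 : orderOf z = 2 := orderOf_eq_prime (by rw [pow_two, S.z_sq]) S.z_ne
  -- an odd normal subgroup of `G` is trivial
  have hodd : ∀ N : Subgroup G, N.Normal → Odd (Nat.card N) → N = ⊥ := by
    intro N hN ho
    rcases hN.eq_bot_or_eq_top with h | h
    · exact h
    · exfalso
      have h1 := orderOf_dvd_natCard z
      rw [h, Subgroup.card_top] at ho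
      rw [hz2] at h1
      exact (Nat.not_even_iff_odd.2 ho) (even_iff_two_dvd.2 h1)
  have hcore : oddCore G = ⊥ := hodd _ (Lib.Cores.pPrimeCore_normal 2)
    (Nat.Coprime.odd_of_right (Lib.Cores.pPrimeCore_coprime 2))
  have hWH : centralizerPPrimeCore 2 z ≤ H z := Subgroup.le_normalizer
  by_cases htop : H z = ⊤
  · exact hodd _ (Subgroup.normalizer_eq_top_iff.1 htop) (core_odd z)
  · have hone : ∀ x ∈ H z, orderOf x = 2 → ∃ g ∈ H z, g * z * g⁻¹ = x := by
      intro x hx hx2
      have hxx : x * x = 1 := by rw [← pow_two, ← hx2, pow_orderOf_eq_one]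
      obtain ⟨h, hh, hhx⟩ := exists_conj_mem_of_odd (cent_le_H z) (odd_index (hL S)) hx hxx
      have hcomm := CentCore.mem_cent.1 hhx
      have hsq : h⁻¹ * x * h * (h⁻¹ * x * h) = 1 := by
        rw [show h⁻¹ * x * h * (h⁻¹ * x * h) = h⁻¹ * (x * x) * h by group, hxx]; group
      have hne : h⁻¹ * x * h ≠ 1 := by
        intro h1
        have h2 : x = 1 := by
          rw [show x = h * (h⁻¹ * x * h) * h⁻¹ by group, h1]; group
        rw [h2, orderOf_one] at hx2
        exact absurd hx2 (by decide)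
      obtain ⟨k, hk⟩ := isConj_of_even hn' (hL S) hK hz hcomm hsq hne
        (φ_even_of_simple hn hn' (hL S) hK hz hcomm)
      have hkH : k ∈ H z := mem_H_of_core_eq (core_eq (by omega) hL hF S (by rw [hk]; exact hcomm))
      refine ⟨h * k, (H z).mul_mem hh hkH, ?_⟩
      rw [show h * k * z * (h * k)⁻¹ = h * (k * z * k⁻¹) * h⁻¹ by group, hk]
      group
    have hstrong := TwoFusion.ClosingPrime.isStronglyEmbedded_of_one_class hz2 (cent_le_H z) hone htop
    have h1 := hSE _ hstrong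
    rw [hcore] at h1
    refine le_bot_iff.1 (le_trans ?_ h1)
    have h2 : (centralizerPPrimeCore 2 z).subgroupOf (H z) ≤ oddCore (H z) := by
      refine Lib.Cores.le_pPrimeCore ?_ ?_
      · exact Subgroup.normal_in_normalizer
      · rw [Nat.card_congr (Subgroup.subgroupOfEquivOfLe hWH).toEquiv]
        exact Nat.coprime_two_right.2 (core_odd z)
    have h3 := Subgroup.map_mono (f := (H z).subtype) h2
    rwa [Subgroup.subgroupOf_map_subtype, inf_eq_left.2 hWH] at h3

/-- Elements of odd order of `C_G(L)` lie in `O(C_G(z))`. -/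
theorem mem_core_of_centralizes [Finite G] (hK : SmallK S) {k : G} (hk : ∀ x ∈ S.L, k * x = x * k)
    (ho : Odd (orderOf k)) : k ∈ centralizerPPrimeCore 2 z := by
  have : Fact (Nat.Prime 2) := ⟨Nat.prime_two⟩
  set K : Subgroup G := Subgroup.centralizer (S.L : Set G) with hKdef
  have hKmem : ∀ x : G, x ∈ K ↔ ∀ y ∈ S.L, x * y = y * x := by
    intro x
    rw [hKdef, Subgroup.mem_centralizer_iff]
    exact ⟨fun h y hy => (h y hy).symm, fun h y hy => (h y hy).symm⟩
  have hzK : z ∈ K := (hKmem z).2 fun x hx => (S.comm x hx).symm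
  obtain ⟨P⟩ := (inferInstance : Nonempty (Sylow 2 K))
  have hPz : ∀ x : P, x = 1 ∨ ((x : K) : G) = z := by
    intro x
    obtain ⟨j, hj⟩ := P.2 x
    have h1 : ((x : K) : G) ^ 2 ^ j = 1 := by
      have := congrArg (fun y : P => ((y : K) : G)) hj
      simpa using this
    rcases eq_of_pow_two_pow hK j _ ((hKmem _).1 (x : K).2) h1 with h2 | h2
    · exact Or.inl (Subtype.ext (Subtype.ext h2))
    · exact Or.inr h2
  have hcyc : IsCyclic P := by
    by_cases hx : ∃ x : P, x ≠ 1
    · obtain ⟨x, hx⟩ := hx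
      refine ⟨x, fun y => ?_⟩
      rcases hPz y with hy | hy
      · exact ⟨0, by rw [hy]; simp⟩
      · have h2 := (hPz x).resolve_left hx
        have h3 : y = x := Subtype.ext (Subtype.ext (hy.trans h2.symm))
        exact ⟨1, by rw [h3]; simp⟩
    · push Not at hx
      exact ⟨1, fun y => ⟨0, by rw [hx y]; simp⟩⟩
  have hclosed := Classification.TransferSign.oddClosed_of_isCyclic P hcyc
  let N : Subgroup G :=
    { carrier := {x | (∀ y ∈ S.L, x * y = y * x) ∧ Odd (orderOf x)}
      mul_mem' := by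
        rintro a b ⟨ha, ha'⟩ ⟨hb, hb'⟩
        have h1 := hclosed ⟨a, (hKmem a).2 ha⟩ ⟨b, (hKmem b).2 hb⟩ (by rwa [Subgroup.orderOf_mk])
          (by rwa [Subgroup.orderOf_mk])
        rw [MulMemClass.mk_mul_mk, Subgroup.orderOf_mk] at h1
        exact ⟨(hKmem _).1 (K.mul_mem ((hKmem a).2 ha) ((hKmem b).2 hb)), h1⟩
      one_mem' := ⟨fun y _ => by rw [one_mul, mul_one], by rw [orderOf_one]; exact odd_one⟩
      inv_mem' := by
        rintro a ⟨ha, ha'⟩
        exact ⟨(hKmem _).1 (K.inv_mem ((hKmem a).2 ha)), by rwa [orderOf_inv]⟩ }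
  have hNle : N ≤ centralizerPPrimeCore 2 z := by
    refine le_core z ?_ ?_ ?_
    · rintro x ⟨hx, -⟩
      exact hx z S.z_mem
    · rintro y hy x ⟨hx, hx'⟩
      refine ⟨?_, ?_⟩
      · intro l hl
        have h1 := S.conj_mem y⁻¹ (AltStd.comm_inv hy) l hl
        rw [inv_inv] at h1
        have h2 := hx _ h1
        calc y * x * y⁻¹ * l = y * (x * (y⁻¹ * l * y)) * y⁻¹ := by group
          _ = y * (y⁻¹ * l * y * x) * y⁻¹ := by rw [h2]
          _ = l * (y * x * y⁻¹) := by group
      · have : orderOf (y * x * y⁻¹) = orderOf x := by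
          have := orderOf_injective (MulAut.conj y).toMonoidHom (MulAut.conj y).injective x
          simpa using this
        show Odd (orderOf (y * x * y⁻¹))
        rwa [this]
    · rw [← Nat.not_even_iff_odd, even_iff_two_dvd]
      intro h2
      obtain ⟨x, hx⟩ := exists_prime_orderOf_dvd_card' 2 h2
      have h3 : Odd (orderOf (x : G)) := x.2.2
      rw [Subgroup.orderOf_coe, hx] at h3
      exact absurd h3 (by decide)
  exact hNle ⟨hk, ho⟩

/-- **The centralizer of `z` is the component.** -/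
theorem centralizer_eq [Finite G] [IsSimpleGroup G] (hn : 6 ≤ n) (hn' : n < 16)
    (hSE : ∀ H : Subgroup G, IsStronglyEmbedded H → (oddCore H).map H.subtype ≤ oddCore G)
    (hL : ∀ {z : G} (S : AltStd G n z), InL S) (hF : ∀ {z : G} (S : AltStd G n z), FixSupp S)
    {z : G} (S : AltStd G n z) (hK : SmallK S)
    (hz : ∃ g : G, g * z * g⁻¹ ≠ z ∧ g * z * g⁻¹ * z = z * (g * z * g⁻¹)) :
    Subgroup.centralizer ({z} : Set G) = S.L := by
  have hbot := core_eq_bot hn hn' hSE hL hF S hK hz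
  refine le_antisymm ?_ (L_le S)
  intro y hy
  have hy' := CentCore.mem_cent.1 hy
  obtain ⟨l, hl, k, hk, rfl, -⟩ := exists_mul hy' (φ_even_of_simple hn hn' (hL S) hK hz hy')
  refine S.L.mul_mem hl ?_
  -- `k` is `1` or `z` up to odd order
  obtain ⟨j, m, hm, hjm⟩ := Nat.exists_eq_two_pow_mul_odd (orderOf_pos k).ne'
  have hkm : ∀ x ∈ S.L, k ^ m * x = x * k ^ m := fun x hx =>
    ((show Commute k x from hk x hx).pow_left m).eq
  have hodd1 : ∀ x : G, x ^ m = 1 → Odd (orderOf x) := fun x hx => Odd.of_dvd_nat hm (orderOf_dvd_of_pow_eq_one hx)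
  rcases eq_of_pow_two_pow hK j (k ^ m) hkm (by rw [← pow_mul, mul_comm, ← hjm, pow_orderOf_eq_one]) with h1 | h1
  · have h2 := mem_core_of_centralizes hK hk (hodd1 k h1)
    rw [hbot, Subgroup.mem_bot] at h2
    rw [h2]; exact S.L.one_mem
  · have hkz : Commute k z := hk z S.z_mem
    have h3 : (k * z) ^ m = 1 := by
      obtain ⟨r, hr⟩ := hm
      rw [hkz.mul_pow, h1, ← pow_succ', hr, show 2 * r + 1 + 1 = 2 * (r + 1) by ring, pow_mul, pow_two, S.z_sq,
        one_pow]
    have h4 : ∀ x ∈ S.L, k * z * x = x * (k * z) := fun x hx => by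
      rw [mul_assoc, ← S.comm x hx, ← mul_assoc, hk x hx, mul_assoc]
    have h2 := mem_core_of_centralizes hK h4 (hodd1 _ h3)
    rw [hbot, Subgroup.mem_bot] at h2
    have h5 : k = z := by
      rw [mul_eq_one_iff_eq_inv, S.z_inv] at h2
      exact h2
    rw [h5]; exact S.z_mem

end Cfsg.Agent.StandardComponent.AltClose
end

-- part: StandardComponent/AltCycles
section
/-!
# Lifts of 3-cycles and double transpositions in a standard component of type `2.A_n`
-/

set_option autoImplicit false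

namespace Cfsg.Agent.StandardComponent

open Equiv Cfsg.Agent.SporRec.TwoAn

namespace AltStd

variable {G : Type*} [Group G] {n : ℕ} {z : G} (S : AltStd G n z)

theorem comm_conj {x y : G} (h : x * y = y * x) : x * y * x⁻¹ = y := by rw [h, mul_inv_cancel_right]

theorem conj_comm {x y : G} (h : x * y * x⁻¹ = y) : x * y = y * x := by
  rwa [mul_inv_eq_iff_eq_mul] at h

theorem swap_three_mem {a b c : Fin n} (hab : a ≠ b) (hbc : b ≠ c) :
    swap a b * swap b c ∈ alternatingGroup (Fin n) := by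
  rw [Perm.mem_alternatingGroup, map_mul, Perm.sign_swap hab, Perm.sign_swap hbc]
  decide

theorem swap_three_cube {a b c : Fin n} (hab : a ≠ b) (hac : a ≠ c) (hbc : b ≠ c) :
    (swap a b * swap b c) ^ 3 = 1 := by
  have h := Perm.isThreeCycle_swap_mul_swap_same hab.symm hbc hac
  rw [swap_comm b a] at h
  rw [← h.orderOf, pow_orderOf_eq_one]

theorem exists_three {a b c : Fin n} (hab : a ≠ b) (hac : a ≠ c) (hbc : b ≠ c) :
    ∃ x ∈ S.L, S.φ x = swap a b * swap b c ∧ x ^ 3 = 1 := by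
  obtain ⟨x, hx, hx3⟩ := S.cover.exists_odd_lift (swap_three_mem hab hbc) (n := 3) (by decide)
    (swap_three_cube hab hac hbc)
  exact ⟨x, x.2, hx, by simpa using congrArg Subtype.val hx3⟩

open Classical in
/-- The lift of order 3 of the 3-cycle `a → b → c → a`. -/
noncomputable def t (a b c : Fin n) : G :=
  if h : a ≠ b ∧ a ≠ c ∧ b ≠ c then (S.exists_three h.1 h.2.1 h.2.2).choose else 1

theorem t_spec {a b c : Fin n} (hab : a ≠ b) (hac : a ≠ c) (hbc : b ≠ c) :
    S.t a b c ∈ S.L ∧ S.φ (S.t a b c) = swap a b * swap b c ∧ S.t a b c ^ 3 = 1 := by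
  have h : a ≠ b ∧ a ≠ c ∧ b ≠ c := ⟨hab, hac, hbc⟩
  unfold t
  rw [dif_pos h]
  exact (S.exists_three h.1 h.2.1 h.2.2).choose_spec

theorem t_mem (a b c : Fin n) : S.t a b c ∈ S.L := by
  by_cases h : a ≠ b ∧ a ≠ c ∧ b ≠ c
  · exact (S.t_spec h.1 h.2.1 h.2.2).1
  · unfold t
    rw [dif_neg h]
    exact S.L.one_mem

theorem φ_t {a b c : Fin n} (hab : a ≠ b) (hac : a ≠ c) (hbc : b ≠ c) :
    S.φ (S.t a b c) = swap a b * swap b c := (S.t_spec hab hac hbc).2.1

theorem eq_t {a b c : Fin n} (hab : a ≠ b) (hac : a ≠ c) (hbc : b ≠ c) {x : G} (hx : x ∈ S.L)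
    (h1 : S.φ x = swap a b * swap b c) (h3 : x ^ 3 = 1) : x = S.t a b c := by
  have := S.cover.odd_lift_unique (g := ⟨x, hx⟩) (h := ⟨S.t a b c, S.t_mem a b c⟩) (n := 3) (by decide)
    (Subtype.ext (by simpa using h3)) (Subtype.ext (by simpa using (S.t_spec hab hac hbc).2.2))
    (by show S.φ x = S.φ (S.t a b c); rw [h1, S.φ_t hab hac hbc])
  exact congrArg Subtype.val this

/-- Equivariance of the lifts of 3-cycles under the full centralizer of `z`. -/
theorem conj_t {y : G} (hy : y * z = z * y) {a b c : Fin n} (hab : a ≠ b) (hac : a ≠ c) (hbc : b ≠ c) :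
    y * S.t a b c * y⁻¹ = S.t (S.φ y a) (S.φ y b) (S.φ y c) := by
  obtain ⟨h1, h2, h3⟩ := S.t_spec hab hac hbc
  refine S.eq_t ((S.φ y).injective.ne hab) ((S.φ y).injective.ne hac) ((S.φ y).injective.ne hbc)
    (S.conj_mem y hy _ h1) ?_ ?_
  · rw [S.φ_conj hy (S.comm _ h1), h2, swap_apply_apply, swap_apply_apply]
    group
  · rw [conj_pow, h3, mul_one, mul_inv_cancel]

/-- A lift of the double transposition `(a b)(c d)`. -/
noncomputable def D (a b c d : Fin n) : G := S.t a c b * S.t a c d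

theorem D_mem (a b c d : Fin n) : S.D a b c d ∈ S.L := S.L.mul_mem (S.t_mem _ _ _) (S.t_mem _ _ _)

theorem φ_D {a b c d : Fin n} (hab : a ≠ b) (hac : a ≠ c) (had : a ≠ d) (hbc : b ≠ c) (hcd : c ≠ d) (hbd : b ≠ d) :
    S.φ (S.D a b c d) = swap a b * swap c d := by
  unfold D
  rw [S.φ_mul _ _ (S.comm _ (S.t_mem _ _ _)) (S.comm _ (S.t_mem _ _ _)), S.φ_t hac hab hbc.symm,
    S.φ_t hac had hcd]
  ext x
  simp only [Perm.mul_apply, swap_apply_def]
  split_ifs <;> simp_all

theorem D_sq {a b c d : Fin n} (hab : a ≠ b) (hac : a ≠ c) (had : a ≠ d) (hbc : b ≠ c) (hcd : c ≠ d) (hbd : b ≠ d) :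
    S.D a b c d * S.D a b c d = z :=
  S.dbl a b c d hab hac had hbc hbd hcd _ (S.D_mem _ _ _ _) (S.φ_D hab hac had hbc hcd hbd)

theorem conj_D {y : G} (hy : y * z = z * y) {a b c d : Fin n} (hab : a ≠ b) (hac : a ≠ c) (had : a ≠ d)
    (hbc : b ≠ c) (hcd : c ≠ d) :
    y * S.D a b c d * y⁻¹ = S.D (S.φ y a) (S.φ y b) (S.φ y c) (S.φ y d) := by
  unfold D
  rw [← S.conj_t hy hac hab hbc.symm, ← S.conj_t hy hac had hcd]
  group

/-- Flipping both transpositions does not change the lift. -/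
theorem D_flip {a b c d : Fin n} (hab : a ≠ b) (hac : a ≠ c) (had : a ≠ d) (hbc : b ≠ c) (hcd : c ≠ d)
    (hbd : b ≠ d) : S.D b a d c = S.D a b c d := by
  have h1 := S.conj_D (S.comm _ (S.D_mem a b c d)) hab hac had hbc hcd
  rw [mul_inv_cancel_right, S.φ_D hab hac had hbc hcd hbd] at h1
  have e1 : (swap a b * swap c d) a = b := by
    rw [Perm.mul_apply, swap_apply_of_ne_of_ne hac had, swap_apply_left]
  have e2 : (swap a b * swap c d) b = a := by
    rw [Perm.mul_apply, swap_apply_of_ne_of_ne hbc hbd, swap_apply_right]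
  have e3 : (swap a b * swap c d) c = d := by
    rw [Perm.mul_apply, swap_apply_left, swap_apply_of_ne_of_ne had.symm hbd.symm]
  have e4 : (swap a b * swap c d) d = c := by
    rw [Perm.mul_apply, swap_apply_right, swap_apply_of_ne_of_ne hac.symm hbc.symm]
  rw [e1, e2, e3, e4] at h1
  exact h1.symm

/-- Exchanging the two transpositions multiplies the lift by `z`. -/
theorem D_swap {a b c d : Fin n} (hab : a ≠ b) (hac : a ≠ c) (had : a ≠ d) (hbc : b ≠ c) (hcd : c ≠ d)
    (hbd : b ≠ d) : S.D c d a b = z * S.D a b c d := by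
  have h1 := S.conj_D (S.comm _ (S.D_mem a c b d)) hab hac had hbc hcd
  have h2 := S.φ_D hac hab had hbc.symm hbd hcd
  rw [h2] at h1
  have e1 : (swap a c * swap b d) a = c := by
    rw [Perm.mul_apply, swap_apply_of_ne_of_ne hab had, swap_apply_left]
  have e2 : (swap a c * swap b d) b = d := by
    rw [Perm.mul_apply, swap_apply_left, swap_apply_of_ne_of_ne had.symm hcd.symm]
  have e3 : (swap a c * swap b d) c = a := by
    rw [Perm.mul_apply, swap_apply_of_ne_of_ne hbc.symm hcd, swap_apply_right]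
  have e4 : (swap a c * swap b d) d = b := by
    rw [Perm.mul_apply, swap_apply_right, swap_apply_of_ne_of_ne hab.symm hbc]
  rw [e1, e2, e3, e4] at h1
  have h3 := S.cover.anticomm hab hac had hbc hbd hcd (g := ⟨S.D a b c d, S.D_mem _ _ _ _⟩)
    (h := ⟨S.D a c b d, S.D_mem _ _ _ _⟩) (S.φ_D hab hac had hbc hcd hbd) h2
  have h4 : S.D a c b d * S.D a b c d = S.D a b c d * S.D a c b d * z := congrArg Subtype.val h3
  rw [← h1, h4, mul_assoc (S.D a b c d), S.comm _ (S.D_mem a c b d), ← mul_assoc, mul_inv_cancel_right,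
    S.comm _ (S.D_mem a b c d)]

/-- Elements of the component with disjoint supports commute. -/
theorem commute_of_disjoint {x y : G} (hx : x ∈ S.L) (hy : y ∈ S.L) (h : (S.φ x).Disjoint (S.φ y)) :
    x * y = y * x := by
  have := S.cover.commute_of_disjoint (g := ⟨x, hx⟩) (h := ⟨y, hy⟩) h
  exact congrArg Subtype.val this

end AltStd

end Cfsg.Agent.StandardComponent
end

-- part: StandardComponent/AltQ8
section
/-!
# Standard components of type `2.A_n`: quaternion groups and the type of the fused involutions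
-/

set_option autoImplicit false

namespace Cfsg.Agent.StandardComponent

open Equiv Cfsg.Agent.SporRec.TwoAn

namespace AltStd

theorem exists_four {X : Type*} {F : Finset X} (h : 4 ≤ F.card) :
    ∃ p ∈ F, ∃ q ∈ F, ∃ r ∈ F, ∃ s ∈ F, p ≠ q ∧ p ≠ r ∧ p ≠ s ∧ q ≠ r ∧ q ≠ s ∧ r ≠ s := by
  obtain ⟨f⟩ : Nonempty (Fin 4 ↪ F) :=
    Function.Embedding.nonempty_of_card_le (by simpa using h)
  have hf : ∀ i j : Fin 4, i ≠ j → (f i : X) ≠ f j := fun i j hij h => hij (f.injective (Subtype.ext h))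
  exact ⟨f 0, (f 0).2, f 1, (f 1).2, f 2, (f 2).2, f 3, (f 3).2, hf _ _ (by decide), hf _ _ (by decide),
    hf _ _ (by decide), hf _ _ (by decide), hf _ _ (by decide), hf _ _ (by decide)⟩

/-- An involution moving at least 5 points has three transpositions, the first one being prescribed. -/
theorem exists_blocks {n : ℕ} {σ : Perm (Fin n)} (h2 : σ * σ = 1)
    (h5 : 5 ≤ (Finset.univ.filter fun x => σ x ≠ x).card) {i : Fin n} (_hi : σ i ≠ i) :
    ∃ j l : Fin n, σ j ≠ j ∧ σ l ≠ l ∧ i ≠ j ∧ i ≠ σ j ∧ i ≠ l ∧ i ≠ σ l ∧ σ i ≠ j ∧ σ i ≠ σ j ∧ σ i ≠ l ∧ σ i ≠ σ l ∧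
      j ≠ l ∧ j ≠ σ l ∧ σ j ≠ l ∧ σ j ≠ σ l := by
  have hσ : ∀ x, σ (σ x) = x := fun x => by rw [← Perm.mul_apply, h2]; rfl
  obtain ⟨j, hj, hj'⟩ := Finset.exists_mem_notMem_of_card_lt_card (s := {i, σ i})
    (t := Finset.univ.filter fun x => σ x ≠ x) (by
      have := Finset.card_le_two (a := i) (b := σ i); omega)
  obtain ⟨l, hl, hl'⟩ := Finset.exists_mem_notMem_of_card_lt_card (s := {i, σ i, j, σ j})
    (t := Finset.univ.filter fun x => σ x ≠ x) (by
      have := Finset.card_le_four (a := i) (b := σ i) (c := j) (d := σ j); omega)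
  simp only [Finset.mem_filter, Finset.mem_univ, true_and] at hj hl
  simp only [Finset.mem_insert, Finset.mem_singleton, not_or] at hj' hl'
  refine ⟨j, l, hj, hl, Ne.symm hj'.1, ?_, Ne.symm hl'.1, ?_, Ne.symm hj'.2, ?_, Ne.symm hl'.2.1, ?_, Ne.symm hl'.2.2.1,
    ?_, Ne.symm hl'.2.2.2, ?_⟩
  · intro h; apply hj'.2; rw [h, hσ]
  · intro h; apply hl'.2.1; rw [h, hσ]
  · intro h; exact hj'.1 (σ.injective h).symm
  · intro h; exact hl'.1 (σ.injective h).symm
  · intro h; apply hl'.2.2.2; rw [h, hσ]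
  · intro h; exact hl'.2.2.1 (σ.injective h).symm

theorem card_filter_add {n : ℕ} (σ : Perm (Fin n)) : (Finset.univ.filter fun x => σ x = x).card +
    (Finset.univ.filter fun x => σ x ≠ x).card = n := by
  rw [Finset.card_filter_add_card_filter_not, Finset.card_univ, Fintype.card_fin]

variable {G : Type*} [Group G] {n : ℕ} {z : G} (S : AltStd G n z)

/-- Every element of `C(z)` acting as an involution centralizes a quaternion subgroup of the component with
centre `⟨z⟩`. -/
theorem exists_quat (hn : 8 ≤ n) {y : G} (hy : y * z = z * y) (h2 : S.φ y * S.φ y = 1) :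
    ∃ u ∈ S.L, ∃ v ∈ S.L, u * u = z ∧ v * v = z ∧ v * u = u * v * z ∧ y * u = u * y ∧ y * v = v * y := by
  have hadd := card_filter_add (S.φ y)
  by_cases h4 : 4 ≤ (Finset.univ.filter fun x => S.φ y x = x).card
  · obtain ⟨p, hp, q, hq, r, hr, s, hs, hpq, hpr, hps, hqr, hqs, hrs⟩ := exists_four h4
    simp only [Finset.mem_filter, Finset.mem_univ, true_and] at hp hq hr hs
    have hu := S.D_mem p q r s
    have hv := S.D_mem p r q s
    refine ⟨_, hu, _, hv, S.D_sq hpq hpr hps hqr hrs hqs, S.D_sq hpr hpq hps hqr.symm hqs hrs, ?_, ?_, ?_⟩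
    · have h3 := S.cover.anticomm hpq hpr hps hqr hqs hrs (g := ⟨S.D p q r s, hu⟩)
        (h := ⟨S.D p r q s, hv⟩) (S.φ_D hpq hpr hps hqr hrs hqs) (S.φ_D hpr hpq hps hqr.symm hqs hrs)
      exact congrArg Subtype.val h3
    · apply conj_comm
      rw [S.conj_D hy hpq hpr hps hqr hrs, hp, hq, hr, hs]
    · apply conj_comm
      rw [S.conj_D hy hpr hpq hps hqr.symm hqs, hp, hq, hr, hs]
  · obtain ⟨i, hi⟩ : (Finset.univ.filter fun x => S.φ y x ≠ x).Nonempty := by
      rw [← Finset.card_pos]; omega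
    simp only [Finset.mem_filter, Finset.mem_univ, true_and] at hi
    obtain ⟨j, l, hj, hl, hij, hij', hil, hil', hji, hji', hli, hli', hjl, hjl', hlj, hlj'⟩ :=
      exists_blocks h2 (by omega) hi
    have hσ : ∀ x, S.φ y (S.φ y x) = x := fun x => by rw [← Perm.mul_apply, h2]; rfl
    have hu := S.D_mem i (S.φ y i) j (S.φ y j)
    have hv := S.D_mem j (S.φ y j) l (S.φ y l)
    have hu2 := S.D_sq hi.symm hij hij' hji hj.symm hji'
    have hv2 := S.D_sq hj.symm hjl hjl' hlj hl.symm hlj'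
    have φu := S.φ_D hi.symm hij hij' hji hj.symm hji'
    have φv := S.φ_D hj.symm hjl hjl' hlj hl.symm hlj'
    refine ⟨_, hu, _, hv, hu2, hv2, ?_, ?_, ?_⟩
    · have h3 : S.D i (S.φ y i) j (S.φ y j) * S.D j (S.φ y j) l (S.φ y l) *
          (S.D i (S.φ y i) j (S.φ y j) * S.D j (S.φ y j) l (S.φ y l)) = z := by
        apply S.dbl i (S.φ y i) l (S.φ y l) hi.symm hil hil' hli hli' hl.symm _ (S.L.mul_mem hu hv)
        rw [S.φ_mul _ _ (S.comm _ hu) (S.comm _ hv), φu, φv, mul_assoc, ← mul_assoc (swap j (S.φ y j)),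
          swap_mul_self, one_mul]
      have hiz := S.z_sq
      generalize S.D i (S.φ y i) j (S.φ y j) = u at *
      generalize S.D j (S.φ y j) l (S.φ y l) = v at *
      have e1 : u⁻¹ = u * z := by rw [inv_eq_iff_mul_eq_one, ← mul_assoc, hu2, hiz]
      have e2 : v⁻¹ = v * z := by rw [inv_eq_iff_mul_eq_one, ← mul_assoc, hv2, hiz]
      have e3 : v * u = u⁻¹ * (u * v * (u * v)) * v⁻¹ := by group
      rw [e3, h3, e1, e2, mul_assoc u, hiz, mul_one, ← mul_assoc]
    · apply conj_comm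
      rw [S.conj_D hy hi.symm hij hij' hji hj.symm, hσ, hσ, S.D_flip hi.symm hij hij' hji hj.symm hji']
    · apply conj_comm
      rw [S.conj_D hy hj.symm hjl hjl' hlj hl.symm, hσ, hσ, S.D_flip hj.symm hjl hjl' hlj hl.symm hlj']

/-- A pair of commuting distinct conjugate involutions, both with a standard component of type `2.A_n`. -/
structure Pair {z z' : G} (S : AltStd G n z) (S' : AltStd G n z') : Prop where
  comm : z * z' = z' * z
  ne : z ≠ z'
  conj : ∃ g : G, g * z * g⁻¹ = z'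

namespace Pair

variable {S} {z' : G} {S' : AltStd G n z'}

theorem symm (P : Pair S S') : Pair S' S := by
  refine ⟨P.comm.symm, P.ne.symm, ?_⟩
  obtain ⟨g, hg⟩ := P.conj
  exact ⟨g⁻¹, by rw [← hg]; group⟩

/-- `z` does not centralize the component of `z'`. -/
theorem φ_ne (P : Pair S S') : S'.φ z ≠ 1 := by
  intro h
  have h1 := (S'.φ_ker z P.comm).1 h
  obtain ⟨g, hg⟩ := P.symm.conj
  have h2 := S'.uniq g (fun x hx => by rw [hg]; exact h1 x hx)
  exact P.ne (hg.symm.trans h2)

theorem φ_sq (P : Pair S S') : S'.φ z * S'.φ z = 1 := by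
  rw [← S'.φ_mul _ _ P.comm P.comm, S.z_sq, S'.φ_one]

/-- The quaternion group as a group of permutations. -/
theorem exists_perm (P : Pair S S') (hn : 8 ≤ n) : ∃ u ∈ S.L, ∃ v ∈ S.L, u * z' = z' * u ∧ v * z' = z' * v ∧
    u * u = z ∧ v * v = z ∧ v * u = u * v * z ∧
    S'.φ u * S'.φ u = S'.φ z ∧ S'.φ v * S'.φ v = S'.φ z ∧ S'.φ v * S'.φ u = S'.φ u * S'.φ v * S'.φ z := by
  obtain ⟨u, hu, v, hv, hu2, hv2, hvu, hyu, hyv⟩ := S.exists_quat hn P.comm.symm P.symm.φ_sq
  refine ⟨u, hu, v, hv, hyu.symm, hyv.symm, hu2, hv2, hvu, ?_, ?_, ?_⟩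
  · rw [← S'.φ_mul _ _ hyu.symm hyu.symm, hu2]
  · rw [← S'.φ_mul _ _ hyv.symm hyv.symm, hv2]
  · rw [← S'.φ_mul _ _ hyv.symm hyu.symm, hvu, S'.φ_mul _ _ (comm_mul hyu.symm hyv.symm) P.comm,
      S'.φ_mul _ _ hyu.symm hyv.symm]

/-- The involution `z` acts on the component of `z'` as a product of 4 transpositions. -/
theorem card_support (P : Pair S S') (hn : 8 ≤ n) (hn' : n < 16) : (S'.φ z).support.card = 8 := by
  obtain ⟨u, hu, v, hv, -, -, -, -, -, h1, h2, h3⟩ := P.exists_perm hn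
  exact AltQuat.card_support (by simpa using hn') h1 h2 h3 P.φ_sq P.φ_ne

theorem even (P : Pair S S') (hn : 8 ≤ n) : S'.φ z ∈ alternatingGroup (Fin n) := by
  obtain ⟨u, hu, v, hv, -, -, -, -, -, h1, h2, h3⟩ := P.exists_perm hn
  rw [Perm.mem_alternatingGroup, ← h1, map_mul, Int.units_mul_self]

end Pair

end AltStd

end Cfsg.Agent.StandardComponent
end

-- part: StandardComponent/AltInv
section
/-!
# Standard components of type `2.A_n`: involutions of the centralizer of the component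

For a pair `z, z'` of commuting distinct conjugate involutions with standard components `L, L'` of type `2.A_n`,
`8 ≤ n < 16`: `z` is the only involution of `C_G(L)` commuting with `z'`, `z' ∈ L`, and the 2-elements of `C_G(L)` are
`1, z`.
-/

set_option autoImplicit false

namespace Cfsg.Agent.StandardComponent

open Equiv Cfsg.Agent.SporRec.TwoAn

namespace AltStd

variable {G : Type*} [Group G] {n : ℕ} {z : G} (S : AltStd G n z)

theorem commutes_of_conj {x k : G} (h : k * x * k⁻¹ = x) : x * k = k * x := by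
  rw [mul_inv_eq_iff_eq_mul] at h
  exact h.symm

/-- If every element of the component commuting with `k` commutes with `w`, three fixed points of `k` are fixed by
`w`. -/
theorem fix_of_fix {k w : G} (hk : k * z = z * k) (hw : w * z = z * w) (hw2 : S.φ w * S.φ w = 1)
    (H : ∀ x ∈ S.L, x * k = k * x → x * w = w * x) {p q r : Fin n} (hpq : p ≠ q) (hpr : p ≠ r) (hqr : q ≠ r)
    (hp : S.φ k p = p) (hq : S.φ k q = q) (hr : S.φ k r = r) : S.φ w p = p := by
  have h1 : S.t p q r * w = w * S.t p q r := H _ (S.t_mem _ _ _) (commutes_of_conj (by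
    rw [S.conj_t hk hpq hpr hqr, hp, hq, hr]))
  have h2 : S.φ w * (swap p q * swap q r) = swap p q * swap q r * S.φ w := by
    rw [← S.φ_t hpq hpr hqr, ← S.φ_mul _ _ hw (S.comm _ (S.t_mem _ _ _)), ← h1,
      S.φ_mul _ _ (S.comm _ (S.t_mem _ _ _)) hw]
  have hσ : ∀ x, S.φ w (S.φ w x) = x := fun x => by rw [← Perm.mul_apply, hw2]; rfl
  have h3 : ∀ x, S.φ w ((swap p q * swap q r) x) = (swap p q * swap q r) (S.φ w x) := fun x => by
    rw [← Perm.mul_apply, h2, Perm.mul_apply]
  have cp : (swap p q * swap q r) p = q := by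
    rw [Perm.mul_apply, swap_apply_of_ne_of_ne hpq hpr, swap_apply_left]
  have cq : (swap p q * swap q r) q = r := by
    rw [Perm.mul_apply, swap_apply_left, swap_apply_of_ne_of_ne hpr.symm hqr.symm]
  have cr : (swap p q * swap q r) r = p := by
    rw [Perm.mul_apply, swap_apply_right, swap_apply_right]
  by_contra hne
  have h4 := h3 p
  rw [cp] at h4
  by_cases hq' : S.φ w p = q
  · rw [hq', cq] at h4
    rw [← hq', hσ] at h4
    exact hpr h4
  by_cases hr' : S.φ w p = r
  · rw [hr', cr] at h4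
    have : S.φ w (S.φ w q) = S.φ w p := by rw [h4]
    rw [hσ, hr'] at this
    exact hqr this
  · rw [Perm.mul_apply, swap_apply_of_ne_of_ne hq' hr', swap_apply_of_ne_of_ne hne hq'] at h4
    exact hpq ((S.φ w).injective h4).symm

/-- If every element of the component commuting with the involution `k` commutes with `w`, then `w` acts on the
points of the transpositions of `k` as `1` or as `k`. -/
theorem act_of_move {k w : G} (hk : k * z = z * k) (hk2 : S.φ k * S.φ k = 1) (hw : w * z = z * w)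
    (H : ∀ x ∈ S.L, x * k = k * x → x * w = w * x) (h5 : 5 ≤ (Finset.univ.filter fun x => S.φ k x ≠ x).card)
    {i : Fin n} (hi : S.φ k i ≠ i) :
    (S.φ w i = i ∧ ∀ j, S.φ k j ≠ j → S.φ w j = j) ∨ (S.φ w i = S.φ k i ∧ ∀ j, S.φ k j ≠ j → S.φ w j = S.φ k j) := by
  have hκ : ∀ x, S.φ k (S.φ k x) = x := fun x => by rw [← Perm.mul_apply, hk2]; rfl
  have happ : ∀ {σ τ : Perm (Fin n)}, σ * τ = τ * σ → ∀ x, σ (τ x) = τ (σ x) := fun {σ τ} h x => by
    rw [← Perm.mul_apply, h, Perm.mul_apply]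
  -- `w` commutes with `k` modulo the centralizer
  have hD : ∀ a c : Fin n, S.φ k a ≠ a → S.φ k c ≠ c → a ≠ c → a ≠ S.φ k c → S.φ k a ≠ c → S.φ k a ≠ S.φ k c →
      S.φ w * (swap a (S.φ k a) * swap c (S.φ k c)) = swap a (S.φ k a) * swap c (S.φ k c) * S.φ w := by
    intro a c ha hc h1 h2 h3 h4
    have hm := S.D_mem a (S.φ k a) c (S.φ k c)
    have h5 : S.D a (S.φ k a) c (S.φ k c) * w = w * S.D a (S.φ k a) c (S.φ k c) := H _ hm (commutes_of_conj (by
      rw [S.conj_D hk ha.symm h1 h2 h3 hc.symm, hκ, hκ, S.D_flip ha.symm h1 h2 h3 hc.symm h4]))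
    rw [← S.φ_D ha.symm h1 h2 h3 hc.symm h4, ← S.φ_mul _ _ hw (S.comm _ hm), ← h5, S.φ_mul _ _ (S.comm _ hm) hw]
  -- the 3-cycles on blocks
  have hB : ∀ a c e : Fin n, S.φ k a ≠ a → S.φ k c ≠ c → S.φ k e ≠ e → a ≠ c → a ≠ S.φ k c → a ≠ e → a ≠ S.φ k e →
      c ≠ e → c ≠ S.φ k e →
      S.φ w * (swap a c * swap c e * (swap (S.φ k a) (S.φ k c) * swap (S.φ k c) (S.φ k e))) =
      swap a c * swap c e * (swap (S.φ k a) (S.φ k c) * swap (S.φ k c) (S.φ k e)) * S.φ w := by
    intro a c e ha hc he h1 h2 h3 h4 h6 h7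
    have n1 := (S.φ k).injective.ne h1
    have n3 := (S.φ k).injective.ne h3
    have n6 := (S.φ k).injective.ne h6
    have e2 : S.φ k a ≠ c := fun h => h2 (by rw [← h, hκ])
    have e4 : S.φ k a ≠ e := fun h => h4 (by rw [← h, hκ])
    have e7 : S.φ k c ≠ e := fun h => h7 (by rw [← h, hκ])
    have hm1 := S.t_mem a c e
    have hm2 := S.t_mem (S.φ k a) (S.φ k c) (S.φ k e)
    have hcomm : S.t a c e * S.t (S.φ k a) (S.φ k c) (S.φ k e) =
        S.t (S.φ k a) (S.φ k c) (S.φ k e) * S.t a c e := by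
      apply S.commute_of_disjoint hm1 hm2
      rw [S.φ_t h1 h3 h6, S.φ_t n1 n3 n6]
      intro x
      by_cases hx : x = a ∨ x = c ∨ x = e
      · right
        rw [Perm.mul_apply]
        rcases hx with rfl | rfl | rfl
        · rw [swap_apply_of_ne_of_ne h2 h4, swap_apply_of_ne_of_ne ha.symm h2]
        · rw [swap_apply_of_ne_of_ne hc.symm h7, swap_apply_of_ne_of_ne e2.symm hc.symm]
        · rw [swap_apply_of_ne_of_ne e7.symm he.symm, swap_apply_of_ne_of_ne e4.symm e7.symm]
      · left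
        rw [not_or, not_or] at hx
        rw [Perm.mul_apply, swap_apply_of_ne_of_ne hx.2.1 hx.2.2, swap_apply_of_ne_of_ne hx.1 hx.2.1]
    have hm := S.L.mul_mem hm1 hm2
    have h8 : S.t a c e * S.t (S.φ k a) (S.φ k c) (S.φ k e) * w =
        w * (S.t a c e * S.t (S.φ k a) (S.φ k c) (S.φ k e)) := H _ hm (commutes_of_conj (by
      rw [show k * (S.t a c e * S.t (S.φ k a) (S.φ k c) (S.φ k e)) * k⁻¹ =
        (k * S.t a c e * k⁻¹) * (k * S.t (S.φ k a) (S.φ k c) (S.φ k e) * k⁻¹) by group,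
        S.conj_t hk h1 h3 h6, S.conj_t hk n1 n3 n6, hκ, hκ, hκ, hcomm]))
    rw [← S.φ_t h1 h3 h6, ← S.φ_t n1 n3 n6, ← S.φ_mul _ _ (S.comm _ hm1) (S.comm _ hm2),
      ← S.φ_mul _ _ hw (S.comm _ hm), ← h8, S.φ_mul _ _ (S.comm _ hm) hw]
  -- `w` preserves the block of `a`
  have hA : ∀ a c e : Fin n, S.φ k a ≠ a → S.φ k c ≠ c → S.φ k e ≠ e → a ≠ c → a ≠ S.φ k c → a ≠ e → a ≠ S.φ k e →
      c ≠ e → c ≠ S.φ k e → S.φ w a = a ∨ S.φ w a = S.φ k a := by
    intro a c e ha hc he h1 h2 h3 h4 h6 h7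
    have e2 : S.φ k a ≠ c := fun h => h2 (by rw [← h, hκ])
    have e4 : S.φ k a ≠ e := fun h => h4 (by rw [← h, hκ])
    have e7 : S.φ k c ≠ e := fun h => h7 (by rw [← h, hκ])
    have n1 := (S.φ k).injective.ne h1
    have n6 := (S.φ k).injective.ne h6
    have p1 := hD a c ha hc h1 h2 e2 n1
    have p2 := hD c e hc he h6 h7 e7 n6
    have q1 : S.φ w (S.φ k a) = (swap a (S.φ k a) * swap c (S.φ k c)) (S.φ w a) := by
      have := happ p1 a
      rwa [Perm.mul_apply (swap a (S.φ k a)) (swap c (S.φ k c)) a, swap_apply_of_ne_of_ne h1 h2,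
        swap_apply_left] at this
    have q2 : S.φ w a = (swap c (S.φ k c) * swap e (S.φ k e)) (S.φ w a) := by
      have := happ p2 a
      rwa [Perm.mul_apply (swap c (S.φ k c)) (swap e (S.φ k e)) a, swap_apply_of_ne_of_ne h3 h4,
        swap_apply_of_ne_of_ne h1 h2] at this
    by_contra hcon
    rw [not_or] at hcon
    have hwne : S.φ w (S.φ k a) ≠ S.φ w a := (S.φ w).injective.ne ha
    by_cases c1 : S.φ w a = c
    · rw [c1, Perm.mul_apply, swap_apply_of_ne_of_ne h6 h7, swap_apply_left] at q2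
      exact hc q2.symm
    by_cases c2 : S.φ w a = S.φ k c
    · rw [c2, Perm.mul_apply, swap_apply_of_ne_of_ne e7 n6, swap_apply_right] at q2
      exact hc q2
    rw [Perm.mul_apply, swap_apply_of_ne_of_ne c1 c2, swap_apply_of_ne_of_ne hcon.1 hcon.2] at q1
    exact hwne q1
  -- the alternative is the same on two blocks
  have hC : ∀ a c : Fin n, S.φ k a ≠ a → S.φ k c ≠ c →
      (S.φ w a = a → S.φ w c = c) ∧ (S.φ w a = S.φ k a → S.φ w c = S.φ k c) := by
    intro a c ha hc
    obtain ⟨b, l, hb, hl, hab, hab', hal, hal', hba, hba', hla, hla', hbl, hbl', hlb, hlb'⟩ := exists_blocks hk2 h5 ha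
    have hwa := hA a b l ha hb hl hab hab' hal hal' hbl hbl'
    -- `w (k a)`
    have hka : (S.φ w a = a → S.φ w (S.φ k a) = S.φ k a) ∧ (S.φ w a = S.φ k a → S.φ w (S.φ k a) = a) := by
      have p1 := hD a b ha hb hab hab' hba hba'
      have q1 : S.φ w (S.φ k a) = (swap a (S.φ k a) * swap b (S.φ k b)) (S.φ w a) := by
        have := happ p1 a
        rwa [Perm.mul_apply (swap a (S.φ k a)) (swap b (S.φ k b)) a, swap_apply_of_ne_of_ne hab hab',
          swap_apply_left] at this
      constructor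
      · intro h
        rw [h, Perm.mul_apply, swap_apply_of_ne_of_ne hab hab', swap_apply_left] at q1
        exact q1
      · intro h
        rw [h, Perm.mul_apply, swap_apply_of_ne_of_ne hba hba', swap_apply_right] at q1
        exact q1
    by_cases h1 : c = a
    · rw [h1]; exact ⟨id, id⟩
    by_cases h2 : c = S.φ k a
    · rw [h2, hκ]; exact hka
    -- a third block
    obtain ⟨e, he, hae, hae', hce, hce'⟩ : ∃ e, S.φ k e ≠ e ∧ a ≠ e ∧ a ≠ S.φ k e ∧ c ≠ e ∧ c ≠ S.φ k e := by
      obtain ⟨e, he, he'⟩ := Finset.exists_mem_notMem_of_card_lt_card (s := {a, S.φ k a, c, S.φ k c})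
        (t := Finset.univ.filter fun x => S.φ k x ≠ x) (by
          have := Finset.card_le_four (a := a) (b := S.φ k a) (c := c) (d := S.φ k c); omega)
      simp only [Finset.mem_filter, Finset.mem_univ, true_and] at he
      simp only [Finset.mem_insert, Finset.mem_singleton, not_or] at he'
      refine ⟨e, he, Ne.symm he'.1, ?_, Ne.symm he'.2.2.1, ?_⟩
      · intro h; apply he'.2.1; rw [h, hκ]
      · intro h; apply he'.2.2.2; rw [h, hκ]
    have hac : a ≠ c := Ne.symm h1
    have hac' : a ≠ S.φ k c := fun h => h2 (by rw [h, hκ])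
    have e2 : S.φ k a ≠ c := Ne.symm h2
    have e4 : S.φ k a ≠ e := fun h => hae' (by rw [← h, hκ])
    have e7 : S.φ k c ≠ e := fun h => hce' (by rw [← h, hκ])
    have n1 := (S.φ k).injective.ne hac
    have n3 := (S.φ k).injective.ne hae
    have n6 := (S.φ k).injective.ne hce
    have h8 := hB a c e ha hc he hac hac' hae hae' hce hce'
    -- the block cycle maps `a ↦ c` and `k a ↦ k c`
    have g1 : (swap a c * swap c e * (swap (S.φ k a) (S.φ k c) * swap (S.φ k c) (S.φ k e))) a = c := by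
      simp only [Perm.mul_apply]
      rw [swap_apply_of_ne_of_ne hac' hae', swap_apply_of_ne_of_ne ha.symm hac', swap_apply_of_ne_of_ne hac hae,
        swap_apply_left]
    have g2 : (swap a c * swap c e * (swap (S.φ k a) (S.φ k c) * swap (S.φ k c) (S.φ k e))) (S.φ k a) = S.φ k c := by
      simp only [Perm.mul_apply]
      rw [swap_apply_of_ne_of_ne n1 n3, swap_apply_left, swap_apply_of_ne_of_ne hc e7,
        swap_apply_of_ne_of_ne hac'.symm hc]
    have g3 : S.φ w c = (swap a c * swap c e * (swap (S.φ k a) (S.φ k c) * swap (S.φ k c) (S.φ k e))) (S.φ w a) := by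
      rw [← Perm.mul_apply, ← h8, Perm.mul_apply, g1]
    constructor
    · intro h; rw [g3, h, g1]
    · intro h; rw [g3, h, g2]
  obtain ⟨b, l, hb, hl, hab, hab', hal, hal', hba, hba', hla, hla', hbl, hbl', hlb, hlb'⟩ := exists_blocks hk2 h5 hi
  rcases hA i b l hi hb hl hab hab' hal hal' hbl hbl' with h | h
  · exact Or.inl ⟨h, fun j hj => (hC i j hi hj).1 h⟩
  · exact Or.inr ⟨h, fun j hj => (hC i j hi hj).2 h⟩

end AltStd

end Cfsg.Agent.StandardComponent
end

-- part: StandardComponent/AltMain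
section
/-!
# Standard components of type `2.A_n`: the centralizer of the component

For a pair `z, z'` of commuting distinct conjugate involutions with standard components `L, L'` of type `2.A_n`,
`8 ≤ n < 16`: `z` is the only involution of `C_G(L)` commuting with `z'` (`eq_z_of_sq`), `z' ∈ L` (`mem_L`), the
2-elements of `C_G(L)` are `1, z` (`eq_one_or_eq_z`), and elements of odd order of `C_G(L)` act on `L'` fixing all points
moved by `z` (`fix_of_odd`).
-/

set_option autoImplicit false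

namespace Cfsg.Agent.StandardComponent

open Equiv Cfsg.Agent.SporRec.TwoAn

namespace AltStd

variable {G : Type*} [Group G] {n : ℕ} {z : G} {S : AltStd G n z}

namespace Pair

variable {z' : G} {S' : AltStd G n z'}

/-- An involution centralizing `L` and commuting with `z'` does not centralize `L'`. -/
theorem φ_k_ne (P : Pair S S') {k : G} (hk : ∀ x ∈ S.L, k * x = x * k) (hkz' : k * z' = z' * k) (hk2 : k * k = 1)
    (hk1 : k ≠ 1) : S'.φ k ≠ 1 := by
  intro h
  have h1 := (S'.φ_ker k hkz').1 h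
  have h2 : ∀ x ∈ S.L, x * z' = z' * x := fun x hx => S'.tight k h1 hk2 hk1 x (hk x hx).symm
  exact P.symm.φ_ne ((S.φ_ker z' P.comm.symm).2 fun x hx => (h2 x hx).symm)

/-- `z` is the only involution centralizing `L` and commuting with `z'`. -/
theorem eq_z_of_sq (P : Pair S S') (hn : 8 ≤ n) (hn' : n < 16) {k : G} (hk : ∀ x ∈ S.L, k * x = x * k)
    (hkz' : k * z' = z' * k) (hk2 : k * k = 1) : k = 1 ∨ k = z := by
  by_contra hcon
  rw [not_or] at hcon
  obtain ⟨hk1, hkz⟩ := hcon
  have hkzc : k * z = z * k := hk z S.z_mem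
  -- the same for `k z`
  have hk' : ∀ x ∈ S.L, k * z * x = x * (k * z) := fun x hx => by
    rw [mul_assoc, ← S.comm x hx, ← mul_assoc, hk x hx, mul_assoc]
  have hkz' : k * z' = z' * k := hkz'
  have hkzz' : k * z * z' = z' * (k * z) := by rw [mul_assoc, P.comm, ← mul_assoc, hkz', mul_assoc]
  have hkz2 : k * z * (k * z) = 1 := by
    rw [mul_assoc, ← mul_assoc z, ← hkzc, mul_assoc k z z, S.z_sq, mul_one, hk2]
  have hkz1 : k * z ≠ 1 := fun h => hkz (by rw [mul_eq_one_iff_eq_inv] at h; rw [h, S.z_inv])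
  have hκ := P.φ_k_ne hk hkz' hk2 hk1
  have hκz := P.φ_k_ne hk' hkzz' hkz2 hkz1
  have hκz_eq : S'.φ (k * z) = S'.φ k * S'.φ z := S'.φ_mul _ _ hkz' P.comm
  have hκ2 : S'.φ k * S'.φ k = 1 := by rw [← S'.φ_mul _ _ hkz' hkz', hk2, S'.φ_one]
  have H : ∀ x ∈ S'.L, x * k = k * x → x * z = z * x := fun x _ hx => S.tight k hk hk2 hk1 x hx
  have H' : ∀ x ∈ S'.L, x * (k * z) = k * z * x → x * z = z * x := fun x _ hx => S.tight _ hk' hkz2 hkz1 x hx
  have hcard : (Finset.univ.filter fun x => S'.φ z x ≠ x).card = 8 := by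
    rw [← P.card_support hn hn']
    congr 1
  have hκκ : ∀ x, S'.φ k (S'.φ k x) = x := fun x => by rw [← Perm.mul_apply, hκ2]; rfl
  have hadd := card_filter_add (S'.φ k)
  by_cases h3 : 3 ≤ (Finset.univ.filter fun x => S'.φ k x = x).card
  · -- `z` is trivial on the fixed points of `k`
    have hfix : ∀ p, S'.φ k p = p → S'.φ z p = p := by
      intro p hp
      obtain ⟨q, hq, hq'⟩ := Finset.exists_mem_notMem_of_card_lt_card (s := {p})
        (t := Finset.univ.filter fun x => S'.φ k x = x) (by rw [Finset.card_singleton]; omega)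
      obtain ⟨r, hr, hr'⟩ := Finset.exists_mem_notMem_of_card_lt_card (s := {p, q})
        (t := Finset.univ.filter fun x => S'.φ k x = x) (by
          have := Finset.card_le_two (a := p) (b := q); omega)
      simp only [Finset.mem_filter, Finset.mem_univ, true_and] at hq hr
      simp only [Finset.mem_insert, Finset.mem_singleton, not_or] at hq' hr'
      exact S'.fix_of_fix hkz' P.comm P.φ_sq H (Ne.symm hq') (Ne.symm hr'.1) (Ne.symm hr'.2) hp hq hr
    have hsub : (Finset.univ.filter fun x => S'.φ z x ≠ x) ⊆ Finset.univ.filter fun x => S'.φ k x ≠ x := by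
      intro x hx
      simp only [Finset.mem_filter, Finset.mem_univ, true_and] at hx ⊢
      exact fun h => hx (hfix x h)
    have h8 := Finset.card_le_card hsub
    obtain ⟨i, hi⟩ : (Finset.univ.filter fun x => S'.φ z x ≠ x).Nonempty := by
      rw [← Finset.card_pos]; omega
    have hik := hsub hi
    simp only [Finset.mem_filter, Finset.mem_univ, true_and] at hi hik
    rcases S'.act_of_move hkz' hκ2 P.comm H (by omega) hik with h | h
    · exact hi h.1
    · apply hκz
      rw [hκz_eq]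
      ext x
      rw [Perm.mul_apply]
      by_cases hx : S'.φ k x = x
      · rw [hfix x hx, hx]; rfl
      · rw [h.2 x hx, hκκ]; rfl
  · -- `k` has at most two fixed points
    obtain ⟨i, hi⟩ : (Finset.univ.filter fun x => S'.φ k x ≠ x).Nonempty := by
      rw [← Finset.card_pos]; omega
    simp only [Finset.mem_filter, Finset.mem_univ, true_and] at hi
    rcases S'.act_of_move hkz' hκ2 P.comm H (by omega) hi with h | h
    · have hsub : (Finset.univ.filter fun x => S'.φ z x ≠ x) ⊆ Finset.univ.filter fun x => S'.φ k x = x := by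
        intro x hx
        simp only [Finset.mem_filter, Finset.mem_univ, true_and] at hx ⊢
        by_contra hx'
        exact hx (h.2 x hx')
      have := Finset.card_le_card hsub
      omega
    · -- `k z` is trivial on the points moved by `k`
      have hfix : ∀ x, S'.φ k x ≠ x → S'.φ (k * z) x = x := fun x hx => by
        rw [hκz_eq, Perm.mul_apply, h.2 x hx, hκκ]
      obtain ⟨q, hq, hq'⟩ := Finset.exists_mem_notMem_of_card_lt_card (s := {i})
        (t := Finset.univ.filter fun x => S'.φ k x ≠ x) (by rw [Finset.card_singleton]; omega)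
      obtain ⟨r, hr, hr'⟩ := Finset.exists_mem_notMem_of_card_lt_card (s := {i, q})
        (t := Finset.univ.filter fun x => S'.φ k x ≠ x) (by
          have := Finset.card_le_two (a := i) (b := q); omega)
      simp only [Finset.mem_filter, Finset.mem_univ, true_and] at hq hr
      simp only [Finset.mem_insert, Finset.mem_singleton, not_or] at hq' hr'
      have := S'.fix_of_fix hkzz' P.comm P.φ_sq H' (Ne.symm hq') (Ne.symm hr'.1) (Ne.symm hr'.2) (hfix i hi)
        (hfix q hq) (hfix r hr)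
      rw [h.1] at this
      exact hi this

/-- The conjugate `z'` lies in the component of `z`. -/
theorem mem_L (P : Pair S S') (hn : 8 ≤ n) (hn' : n < 16) : z' ∈ S.L := by
  obtain ⟨l, hl, hlφ⟩ := S.lift _ (P.symm.even hn)
  have hlz := S.comm l hl
  have hk0 : S.φ (l⁻¹ * z') = 1 := by
    rw [S.φ_mul _ _ (comm_inv hlz) P.comm.symm, S.φ_inv hlz, hlφ, inv_mul_cancel]
  have hk := (S.φ_ker (l⁻¹ * z') (comm_mul (comm_inv hlz) P.comm.symm)).1 hk0
  have hl2 : l * l = 1 := by
    have h := (S.cover.sq_eq_one_iff (g := ⟨l, hl⟩)).2 ⟨by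
      show S.φ l * S.φ l = 1
      rw [hlφ, P.symm.φ_sq], by
      show 8 ∣ (S.φ l).support.card
      rw [hlφ, P.symm.card_support hn hn']⟩
    exact congrArg Subtype.val h
  have hli : l⁻¹ = l := inv_eq_of_mul_eq_one_left hl2
  have hlk := hk l hl
  have hz'l : z' * l = l * z' := by
    have h1 : l⁻¹ * z' * l = z' := by rw [hlk, mul_inv_cancel_left]
    calc z' * l = l * (l⁻¹ * z' * l) := by group
      _ = l * z' := by rw [h1]
  have hkz' : l⁻¹ * z' * z' = z' * (l⁻¹ * z') := by
    rw [hli, ← mul_assoc, hz'l]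
  have hk2 : l⁻¹ * z' * (l⁻¹ * z') = 1 := by
    rw [hli, mul_assoc, ← mul_assoc z', hz'l, mul_assoc l z' z', S'.z_sq, mul_one, hl2]
  rcases P.eq_z_of_sq hn hn' hk hkz' hk2 with h | h
  · rw [inv_mul_eq_one] at h
    rw [← h]; exact hl
  · rw [inv_mul_eq_iff_eq_mul] at h
    rw [h]; exact S.L.mul_mem hl S.z_mem

/-- An element of `C_G(L')` has no square equal to `z'`. -/
theorem sq_ne (P : Pair S S') (hn : 8 ≤ n) (hn' : n < 16) {y : G} (hy : ∀ x ∈ S'.L, y * x = x * y) :
    y * y ≠ z' := by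
  intro hyy
  have hzL' : z ∈ S'.L := P.symm.mem_L hn hn'
  have hyz : y * z = z * y := hy z hzL'
  have hη2 : S.φ y * S.φ y = S.φ z' := by rw [← S.φ_mul _ _ hyz hyz, hyy]
  have hηη : ∀ x, S.φ y (S.φ y x) = S.φ z' x := fun x => by rw [← Perm.mul_apply, hη2]
  have haa : ∀ x, S.φ z' (S.φ z' x) = x := fun x => by rw [← Perm.mul_apply, P.symm.φ_sq]; rfl
  have hinj : ∀ {x w}, S.φ y x = S.φ y w → x = w := fun h => (S.φ y).injective h
  have hcard : (Finset.univ.filter fun x => S.φ z' x ≠ x).card = 8 := by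
    rw [← P.symm.card_support hn hn']
    congr 1
  obtain ⟨i0, hi⟩ : (Finset.univ.filter fun x => S.φ z' x ≠ x).Nonempty := by
    rw [← Finset.card_pos]; omega
  obtain ⟨j0, hj, hj'⟩ := Finset.exists_mem_notMem_of_card_lt_card
    (s := {i0, S.φ y i0, S.φ y (S.φ y i0), S.φ y (S.φ y (S.φ y i0))})
    (t := Finset.univ.filter fun x => S.φ z' x ≠ x) (by
      have := Finset.card_le_four (a := i0) (b := S.φ y i0) (c := S.φ y (S.φ y i0)) (d := S.φ y (S.φ y (S.φ y i0)))
      omega)
  simp only [Finset.mem_filter, Finset.mem_univ, true_and] at hi hj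
  simp only [Finset.mem_insert, Finset.mem_singleton, not_or] at hj'
  obtain ⟨hj0, hj1, hj2, hj3⟩ := hj'
  have h4 : ∀ x, S.φ y (S.φ y (S.φ y (S.φ y x))) = x := fun x => by rw [hηη, hηη, haa]
  rw [← hηη] at hi hj
  obtain ⟨i1, hi1⟩ : ∃ i1, S.φ y i0 = i1 := ⟨_, rfl⟩
  obtain ⟨i2, hi2⟩ : ∃ i2, S.φ y i1 = i2 := ⟨_, rfl⟩
  obtain ⟨i3, hi3⟩ : ∃ i3, S.φ y i2 = i3 := ⟨_, rfl⟩
  have hi4 : S.φ y i3 = i0 := by rw [← hi3, ← hi2, ← hi1, h4]
  obtain ⟨j1, hj1'⟩ : ∃ j1, S.φ y j0 = j1 := ⟨_, rfl⟩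
  obtain ⟨j2, hj2'⟩ : ∃ j2, S.φ y j1 = j2 := ⟨_, rfl⟩
  obtain ⟨j3, hj3'⟩ : ∃ j3, S.φ y j2 = j3 := ⟨_, rfl⟩
  have hj4 : S.φ y j3 = j0 := by rw [← hj3', ← hj2', ← hj1', h4]
  rw [hi1, hi2] at hi hj2 hj3
  rw [hi1] at hj1
  rw [hi3] at hj3
  rw [hj1', hj2'] at hj
  -- distinctness of the `i`'s
  have i01 : i0 ≠ i1 := fun h => hi (by rw [← hi2, ← h, hi1, ← h])
  have i02 : i0 ≠ i2 := Ne.symm hi
  have i12 : i1 ≠ i2 := fun h => i01 (hinj (by rw [hi1, hi2, h]))
  have i13 : i1 ≠ i3 := fun h => i02 (hinj (by rw [hi1, hi3, h]))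
  have i23 : i2 ≠ i3 := fun h => i12 (hinj (by rw [hi2, hi3, h]))
  have i03 : i0 ≠ i3 := fun h => i01 (by rw [← hi1, h, hi4, h])
  have j01 : j0 ≠ j1 := fun h => hj (by rw [← hj2', ← h, hj1', ← h])
  have j02 : j0 ≠ j2 := Ne.symm hj
  have j12 : j1 ≠ j2 := fun h => j01 (hinj (by rw [hj1', hj2', h]))
  have j13 : j1 ≠ j3 := fun h => j02 (hinj (by rw [hj1', hj3', h]))
  have j23 : j2 ≠ j3 := fun h => j12 (hinj (by rw [hj2', hj3', h]))
  have a00 : i0 ≠ j0 := Ne.symm hj0
  have a10 : i1 ≠ j0 := Ne.symm hj1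
  have a20 : i2 ≠ j0 := Ne.symm hj2
  have a30 : i3 ≠ j0 := Ne.symm hj3
  have a01 : i0 ≠ j1 := fun h => a30 (hinj (by rw [hi4, hj1', h]))
  have a11 : i1 ≠ j1 := fun h => a00 (hinj (by rw [hi1, hj1', h]))
  have a21 : i2 ≠ j1 := fun h => a10 (hinj (by rw [hi2, hj1', h]))
  have a31 : i3 ≠ j1 := fun h => a20 (hinj (by rw [hi3, hj1', h]))
  have a02 : i0 ≠ j2 := fun h => a31 (hinj (by rw [hi4, hj2', h]))
  have a12 : i1 ≠ j2 := fun h => a01 (hinj (by rw [hi1, hj2', h]))
  have a22 : i2 ≠ j2 := fun h => a11 (hinj (by rw [hi2, hj2', h]))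
  have a32 : i3 ≠ j2 := fun h => a21 (hinj (by rw [hi3, hj2', h]))
  have a03 : i0 ≠ j3 := fun h => a32 (hinj (by rw [hi4, hj3', h]))
  have a13 : i1 ≠ j3 := fun h => a02 (hinj (by rw [hi1, hj3', h]))
  have a23 : i2 ≠ j3 := fun h => a12 (hinj (by rw [hi2, hj3', h]))
  have a33 : i3 ≠ j3 := fun h => a22 (hinj (by rw [hi3, hj3', h]))
  -- the two lifts
  have hm1 := S.D_mem i0 j0 i2 j2
  have hm2 := S.D_mem i1 j1 i3 j3
  have e1 : y * S.D i0 j0 i2 j2 * y⁻¹ = S.D i1 j1 i3 j3 := by
    rw [S.conj_D hyz a00 i02 a02 a20.symm a22, hi1, hj1', hi3, hj3']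
  have e2 : y * S.D i1 j1 i3 j3 * y⁻¹ = z * S.D i0 j0 i2 j2 := by
    rw [S.conj_D hyz a11 i13 a13 a31.symm a33, hi2, hj2', hi4, hj4,
      S.D_swap a00 i02 a02 a20.symm a22 j02]
  have hcomm : S.D i0 j0 i2 j2 * S.D i1 j1 i3 j3 = S.D i1 j1 i3 j3 * S.D i0 j0 i2 j2 := by
    apply S.commute_of_disjoint hm1 hm2
    rw [S.φ_D a00 i02 a02 a20.symm a22 j02, S.φ_D a11 i13 a13 a31.symm a33 j13]
    intro x
    by_cases hx : x = i0 ∨ x = j0 ∨ x = i2 ∨ x = j2
    · right
      rw [Perm.mul_apply]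
      rcases hx with rfl | rfl | rfl | rfl
      · rw [swap_apply_of_ne_of_ne i03 a03, swap_apply_of_ne_of_ne i01 a01]
      · rw [swap_apply_of_ne_of_ne a30.symm (fun h => j01 (by rw [← hj1', h, hj4, h])),
          swap_apply_of_ne_of_ne a10.symm j01]
      · rw [swap_apply_of_ne_of_ne i23 a23, swap_apply_of_ne_of_ne i12.symm a21]
      · rw [swap_apply_of_ne_of_ne a32.symm j23, swap_apply_of_ne_of_ne a12.symm j12.symm]
    · left
      rw [not_or, not_or, not_or] at hx
      rw [Perm.mul_apply, swap_apply_of_ne_of_ne hx.2.2.1 hx.2.2.2, swap_apply_of_ne_of_ne hx.1 hx.2.1]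
  have hq : y * (S.D i0 j0 i2 j2 * S.D i1 j1 i3 j3) * y⁻¹ = z * (S.D i0 j0 i2 j2 * S.D i1 j1 i3 j3) := by
    rw [show y * (S.D i0 j0 i2 j2 * S.D i1 j1 i3 j3) * y⁻¹ =
      (y * S.D i0 j0 i2 j2 * y⁻¹) * (y * S.D i1 j1 i3 j3 * y⁻¹) by group, e1, e2, ← mul_assoc,
      S.comm _ hm2, mul_assoc, hcomm]
  have hqm := S.L.mul_mem hm1 hm2
  generalize S.D i0 j0 i2 j2 * S.D i1 j1 i3 j3 = q at hq hqm
  -- `q` commutes with `z' = y²`
  have hqz' : q * z' = z' * q := by
    have h1 : y * q = z * q * y := by rw [← hq]; group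
    have h2 : y * y * q = q * (y * y) := by
      calc y * y * q = y * (y * q) := by rw [mul_assoc]
        _ = y * (z * q * y) := by rw [h1]
        _ = z * (y * q) * y := by rw [← mul_assoc, ← mul_assoc, hyz]; group
        _ = z * (z * q * y) * y := by rw [h1]
        _ = (z * z) * q * (y * y) := by group
        _ = q * (y * y) := by rw [S.z_sq, one_mul]
    rw [← hyy, h2]
  -- `z = [y, q]` centralizes `L'`
  apply P.φ_ne
  have hyz' : y * z' = z' * y := by rw [← hyy, mul_assoc]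
  have h3 : z = y * (q * y⁻¹ * q⁻¹) := by
    calc z = (y * q * y⁻¹) * q⁻¹ := by rw [hq, mul_inv_cancel_right]
      _ = y * (q * y⁻¹ * q⁻¹) := by group
  have hφy : S'.φ y = 1 := (S'.φ_ker y hyz').2 hy
  rw [h3, S'.φ_mul _ _ hyz' (comm_mul (comm_mul hqz' (comm_inv hyz')) (comm_inv hqz')),
    S'.φ_conj hqz' (comm_inv hyz'), S'.φ_inv hyz', hφy, inv_one, mul_one, mul_inv_cancel, one_mul]

/-- The 2-elements of the centralizer of the component. -/
theorem eq_one_or_eq_z (P : Pair S S') (hn : 8 ≤ n) (hn' : n < 16) {y : G} (hy : ∀ x ∈ S.L, y * x = x * y) {m : ℕ}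
    (hm : y ^ 2 ^ m = 1) : y = 1 ∨ y = z := by
  induction m generalizing y with
  | zero => left; simpa using hm
  | succ m ih =>
    have hy2 : ∀ x ∈ S.L, y * y * x = x * (y * y) := fun x hx => by
      rw [mul_assoc, hy x hx, ← mul_assoc, hy x hx, mul_assoc]
    have h1 : (y * y) ^ 2 ^ m = 1 := by rw [← pow_two, ← pow_mul, ← pow_succ', hm]
    rcases ih hy2 h1 with h | h
    · exact P.eq_z_of_sq hn hn' hy (hy z' (P.mem_L hn hn')) h
    · exact absurd h (P.symm.sq_ne hn hn' hy)

theorem φ_pow (S : AltStd G n z) {y : G} (hy : y * z = z * y) (m : ℕ) :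
    S.φ (y ^ m) = S.φ y ^ m ∧ y ^ m * z = z * y ^ m := by
  induction m with
  | zero => exact ⟨by rw [pow_zero, pow_zero, S.φ_one], by simp⟩
  | succ m ih => exact ⟨by rw [pow_succ, S.φ_mul _ _ ih.2 hy, ih.1, pow_succ], by rw [pow_succ, comm_mul ih.2 hy]⟩

/-- Elements of odd order centralizing `L` act on `L'` fixing all points moved by `z`. -/
theorem fix_of_odd (P : Pair S S') (hn : 8 ≤ n) (hn' : n < 16) {y : G} (hy : ∀ x ∈ S.L, y * x = x * y) {m : ℕ}
    (hm : Odd m) (hym : y ^ m = 1) {x : Fin n} (hx : S'.φ z x ≠ x) : S'.φ y x = x := by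
  obtain ⟨u, hu, v, hv, huz, hvz, -, -, -, h1, h2, h3⟩ := P.exists_perm hn
  have hyz' : y * z' = z' * y := hy z' (P.mem_L hn hn')
  refine AltQuat.fix_of_odd (by simpa using hn') h1 h2 h3 P.φ_sq ?_ ?_ ?_ hx
  · rw [← S'.φ_mul _ _ hyz' huz, hy u hu, S'.φ_mul _ _ huz hyz']
  · rw [← S'.φ_mul _ _ hyz' hvz, hy v hv, S'.φ_mul _ _ hvz hyz']
  · have : orderOf (S'.φ y) ∣ m := orderOf_dvd_of_pow_eq_one (by
      rw [← (φ_pow S' hyz' m).1, hym, S'.φ_one])
    exact Odd.of_dvd_nat hm this

/-- Elements of odd order centralizing `L` commute with the 3-cycles of `L'` on points moved by `z`. -/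
theorem commute_t (P : Pair S S') (hn : 8 ≤ n) (hn' : n < 16) {y : G} (hy : ∀ x ∈ S.L, y * x = x * y) {m : ℕ}
    (hm : Odd m) (hym : y ^ m = 1) {a b c : Fin n} (ha : S'.φ z a ≠ a) (hb : S'.φ z b ≠ b) (hc : S'.φ z c ≠ c)
    (hab : a ≠ b) (hac : a ≠ c) (hbc : b ≠ c) : y * S'.t a b c = S'.t a b c * y := by
  apply conj_comm
  rw [S'.conj_t (hy z' (P.mem_L hn hn')) hab hac hbc, P.fix_of_odd hn hn' hy hm hym ha,
    P.fix_of_odd hn hn' hy hm hym hb, P.fix_of_odd hn hn' hy hm hym hc]

end Pair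

end AltStd

end Cfsg.Agent.StandardComponent
end

-- part: StandardComponent/AltIface
section
/-!
# Standard components of type `2.A_n`: summary of the fusion results
-/

set_option autoImplicit false

namespace Cfsg.Agent.StandardComponent.AltIface

open Equiv Cfsg.Agent.StandardComponent

variable {G : Type*} [Group G] {n : ℕ} {z : G}

theorem pair (S : AltStd G n z) (g : G) (h : g * z * g⁻¹ * z = z * (g * z * g⁻¹)) (hne : g * z * g⁻¹ ≠ z) :
    S.Pair (S.conj g) := ⟨h.symm, hne.symm, g, rfl⟩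

/-- Conjugates of `z` commuting with `z` lie in the component. -/
theorem inL (S : AltStd G n z) (hn : 8 ≤ n) (hn' : n < 16) (g : G) (h : g * z * g⁻¹ * z = z * (g * z * g⁻¹)) :
    g * z * g⁻¹ ∈ S.L := by
  by_cases hne : g * z * g⁻¹ = z
  · rw [hne]; exact S.z_mem
  · exact (pair S g h hne).mem_L hn hn'

/-- The involution `z` is the only one centralizing the component. -/
theorem eq_one_or (S : AltStd G n z) (hn : 8 ≤ n) (hn' : n < 16) (g : G) (h : g * z * g⁻¹ * z = z * (g * z * g⁻¹))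
    (hne : g * z * g⁻¹ ≠ z) (k : G) (hk : ∀ x ∈ S.L, k * x = x * k) (hk2 : k * k = 1) : k = 1 ∨ k = z :=
  (pair S g h hne).eq_z_of_sq hn hn' hk (hk _ (inL S hn hn' g h)) hk2

/-- `z` is not a square in the centralizer of the component. -/
theorem sq_ne (S : AltStd G n z) (hn : 8 ≤ n) (hn' : n < 16) (g : G) (h : g * z * g⁻¹ * z = z * (g * z * g⁻¹))
    (hne : g * z * g⁻¹ ≠ z) (k : G) (hk : ∀ x ∈ S.L, k * x = x * k) : k * k ≠ z :=
  (pair S g h hne).symm.sq_ne hn hn' hk

/-- The 2-elements of the centralizer of the component are `1` and `z`. -/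
theorem eq_one_or_of_pow (S : AltStd G n z) (hn : 8 ≤ n) (hn' : n < 16) (g : G)
    (h : g * z * g⁻¹ * z = z * (g * z * g⁻¹)) (hne : g * z * g⁻¹ ≠ z) (k : G) (hk : ∀ x ∈ S.L, k * x = x * k)
    {m : ℕ} (hm : k ^ 2 ^ m = 1) : k = 1 ∨ k = z :=
  (pair S g h hne).eq_one_or_eq_z hn hn' hk hm

/-- Elements of odd order centralizing `L` fix the points moved by `z` in the action on the component of a commuting
conjugate. -/
theorem fixSupp (S : AltStd G n z) (hn : 8 ≤ n) (hn' : n < 16) (g : G) (h : g * z * g⁻¹ * z = z * (g * z * g⁻¹))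
    (hne : g * z * g⁻¹ ≠ z) (y : G) (hy : ∀ x ∈ S.L, y * x = x * y) (hodd : Odd (orderOf y)) (i : Fin n)
    (hi : (S.conj g).φ z i ≠ i) : (S.conj g).φ y i = i :=
  (pair S g h hne).fix_of_odd hn hn' hy hodd (pow_orderOf_eq_one y) hi

/-- The support of `z` in the action on the component of a commuting conjugate has 8 points. -/
theorem card_support (S : AltStd G n z) (hn : 8 ≤ n) (hn' : n < 16) (g : G)
    (h : g * z * g⁻¹ * z = z * (g * z * g⁻¹)) (hne : g * z * g⁻¹ ≠ z) : ((S.conj g).φ z).support.card = 8 :=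
  (pair S g h hne).card_support hn hn'

/-- The support of a commuting conjugate in the action on the component of `z` has 8 points. -/
theorem card_support' (S : AltStd G n z) (hn : 8 ≤ n) (hn' : n < 16) (g : G)
    (h : g * z * g⁻¹ * z = z * (g * z * g⁻¹)) (hne : g * z * g⁻¹ ≠ z) : (S.φ (g * z * g⁻¹)).support.card = 8 :=
  (pair S g h hne).symm.card_support hn hn'

end Cfsg.Agent.StandardComponent.AltIface
end

-- part: StandardComponent/AltFinal
section
/-!
# Standard subgroups which are double covers of `A_n`, `8 ≤ n < 16`, in simple groups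

In a finite simple group a standard subgroup `L = 2.A_n`, `8 ≤ n < 16`, is the centralizer of the involution in its
centre.
-/

set_option autoImplicit false

namespace Cfsg.Agent.StandardComponent.AltFinal

open Cfsg

/-- In a non-abelian simple group an involution commutes with a conjugate different from it. -/
theorem exists_conj {G : Type*} [Group G] [Finite G] [IsSimpleGroup G] (hna : ¬ IsMulCommutative G) {z : G}
    (hz : orderOf z = 2) : ∃ g : G, g * z * g⁻¹ ≠ z ∧ g * z * g⁻¹ * z = z * (g * z * g⁻¹) := by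
  have : Fact (Nat.Prime 2) := ⟨Nat.prime_two⟩
  by_contra hcon
  push Not at hcon
  -- a Sylow 2-subgroup of the centralizer of `z`, extended to one of `G`, centralizes a central involution; we use a
  -- Sylow 2-subgroup of `G` containing `z`
  have hzz : z * z = 1 := by rw [← pow_two, ← hz, pow_orderOf_eq_one]
  have hzp : IsPGroup 2 (Subgroup.zpowers z) := IsPGroup.of_card (n := 1) (by rw [Nat.card_zpowers, hz, pow_one])
  obtain ⟨P, hP⟩ := hzp.exists_le_sylow
  have hzP : z ∈ P := hP (Subgroup.mem_zpowers z)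
  -- `z` is central in `P`: otherwise a conjugate of `z` in its normalizer would commute with `z`
  have hcen : ∀ x ∈ P, x * z = z * x := by
    by_contra hx
    push Not at hx
    -- the centralizer of `z` in `P` is proper
    set C : Subgroup P := Subgroup.centralizer {(⟨z, hzP⟩ : P)} with hC
    have hCtop : C ≠ ⊤ := by
      intro h
      obtain ⟨x, hxP, hxz⟩ := hx
      have h1 : (⟨x, hxP⟩ : P) ∈ C := by rw [h]; trivial
      exact hxz (congrArg Subtype.val (Subgroup.mem_centralizer_singleton_iff.1 h1))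
    have hnil : Group.IsNilpotent P := P.2.isNilpotent
    have hlt : C < Subgroup.normalizer (C : Set P) :=
      Group.normalizerCondition_of_isNilpotent C (lt_top_iff_ne_top.2 hCtop)
    obtain ⟨y, hy, hyC⟩ := Set.exists_of_ssubset hlt
    have h1 : y * ⟨z, hzP⟩ * y⁻¹ ∈ C := (Subgroup.mem_normalizer_iff.1 hy _).1
      (Subgroup.mem_centralizer_singleton_iff.2 rfl)
    have h2 := Subgroup.mem_centralizer_singleton_iff.1 h1
    have h3 : (y : G) * z * (y : G)⁻¹ * z = z * (y * z * (y : G)⁻¹) := congrArg Subtype.val h2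
    by_cases h4 : (y : G) * z * (y : G)⁻¹ = z
    · apply hyC
      refine Subgroup.mem_centralizer_singleton_iff.2 (Subtype.ext ?_)
      rwa [mul_inv_eq_iff_eq_mul] at h4
    · exact hcon y h4 h3
  obtain ⟨N, hN, hNodd, hNz⟩ := Cfsg.Agent.S0215.result P z hz hzP (by
    intro g hg
    by_contra hne
    exact hcon g hne (hcen _ hg))
  have hN1 : N = ⊥ := by
    rcases hN.eq_bot_or_eq_top with h | h
    · exact h
    · exfalso
      have h1 := orderOf_dvd_natCard z
      rw [h, Subgroup.card_top] at hNodd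
      rw [hz] at h1
      exact (Nat.not_even_iff_odd.2 hNodd) (even_iff_two_dvd.2 h1)
  have hzc : z ∈ Subgroup.center G := by
    rw [Subgroup.mem_center_iff]
    intro g
    have h1 := hNz g
    rw [hN1, Subgroup.mem_bot, mul_inv_eq_one, mul_inv_eq_iff_eq_mul] at h1
    exact h1.symm
  have hcent : Subgroup.center G = ⊤ := by
    rcases (inferInstance : (Subgroup.center G).Normal).eq_bot_or_eq_top with h | h
    · exfalso
      rw [h, Subgroup.mem_bot] at hzc
      rw [hzc, orderOf_one] at hz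
      exact absurd hz (by decide)
    · exact h
  apply hna
  refine ⟨⟨fun a b => ?_⟩⟩
  have h1 : b ∈ Subgroup.center G := by rw [hcent]; trivial
  exact (Subgroup.mem_center_iff.1 h1 a)

/-- A standard subgroup `2.A_n`, `8 ≤ n < 16`, of a simple group is the centralizer of its central involution. -/
theorem exists_centralizer_eq {G : Type*} [Group G] [Finite G] [IsSimpleGroup G] (hna : ¬ IsMulCommutative G)
    (hSE : ∀ H : Subgroup G, IsStronglyEmbedded H → (oddCore H).map H.subtype ≤ oddCore G)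
    (L : Subgroup G) (hL : IsStandardSubgroup L) {n : ℕ} (hn : 8 ≤ n) (hn' : n < 16)
    (hLX : IsNonsplitDoubleCover ↥L ↥(alternatingGroup (Fin n))) :
    ∃ z : G, orderOf z = 2 ∧ Subgroup.centralizer ({z} : Set G) = L := by
  obtain ⟨z, S, rfl⟩ := AltExists.exists_altStd L hL (by omega) hLX
  have hz : orderOf z = 2 := orderOf_eq_prime (by rw [pow_two, S.z_sq]) S.z_ne
  obtain ⟨g, hg1, hg2⟩ := exists_conj hna hz
  refine ⟨z, hz, ?_⟩
  refine AltClose.centralizer_eq (by omega) hn' hSE ?_ ?_ S ⟨?_, ?_⟩ ⟨g, hg1, hg2⟩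
  · intro z S g h
    exact AltIface.inL S hn hn' g h
  · intro z S g h hne y hy ho i hi
    exact AltIface.fixSupp S hn hn' g h hne y hy ho i hi
  · exact AltIface.eq_one_or S hn hn' g hg2 hg1
  · exact AltIface.sq_ne S hn hn' g hg2 hg1

end Cfsg.Agent.StandardComponent.AltFinal
end
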