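import Cfsg.Agent.S0814
import Cfsg.Agent.LieClassical.FieldTransfer
import Cfsg.Agent.LieClassical.SympCenter
import Cfsg.Prelude.Def_CaseTheorems
set_option linter.all false

/-!
The automorphisms of `Sp_6(2)` are inner, `Sp_6(2) = PSp_6(2)`, and the consequence for the normalizer of a subgroup
`L` with `L / Z(L) ≅ Sp_6(2)`: it induces inner automorphisms on `L`.
-/

set_option autoImplicit false
open Cfsg

namespace Cfsg.Agent.StandardComponent.SpTwoAut

open scoped Pointwise

/-- `Sp_6(2)` -/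
abbrev X := Matrix.symplecticGroup (Fin 3) (ZMod 2)

theorem center_eq_bot : Subgroup.center (Matrix.symplecticGroup (Fin 3) (ZMod 2)) = ⊥ := by
  rw [Subgroup.eq_bot_iff_card, Cfsg.Agent.LieClassical.SympCenter.card_center (by norm_num), ZMod.card]
  norm_num

/-- the projective group over `ZMod 2` is the linear one -/
theorem exists_equiv₀ : Nonempty (Cfsg.PSp 3 (ZMod 2) ≃* Matrix.symplecticGroup (Fin 3) (ZMod 2)) :=
  ⟨(QuotientGroup.quotientMulEquivOfEq center_eq_bot).trans QuotientGroup.quotientBot⟩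

/-- a field with two elements is `ZMod 2` -/
theorem exists_ringEquiv {F : Type*} [Field F] [Fintype F] (hF : Fintype.card F = 2) : Nonempty (F ≃+* ZMod 2) := by
  have h : Fintype.card F = Fintype.card (ZMod 2) := by rw [hF, ZMod.card]
  exact ⟨FiniteField.ringEquivOfCardEq h⟩

theorem exists_equiv {F : Type*} [Field F] [Fintype F] (hF : Fintype.card F = 2) :
    Nonempty (Cfsg.PSp 3 F ≃* Matrix.symplecticGroup (Fin 3) (ZMod 2)) := by
  obtain ⟨e⟩ := exists_ringEquiv hF
  obtain ⟨e'⟩ := exists_equiv₀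
  exact ⟨(Cfsg.Agent.LieClassical.FieldTransfer.pspCongr 3 e).trans e'⟩

theorem card_mulAut : Nat.card (MulAut (Matrix.symplecticGroup (Fin 3) (ZMod 2))) =
    Nat.card (Matrix.symplecticGroup (Fin 3) (ZMod 2)) := by
  obtain ⟨e⟩ := exists_equiv₀
  have h := Cfsg.Agent.S0814.result (F := ZMod 2) 2 1 le_rfl (by rw [ZMod.card, pow_one]) 3 (by norm_num)
    (fun h => absurd h (by norm_num))
  rw [if_neg (by norm_num), Nat.card_congr e.toEquiv] at h
  rw [← Nat.card_congr (MulAut.congr e).toEquiv, h]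
  norm_num

theorem inner (α : MulAut (Matrix.symplecticGroup (Fin 3) (ZMod 2))) : ∃ x, α = MulAut.conj x := by
  have hinj : Function.Injective (MulAut.conj : X →* MulAut X) := by
    rw [← MonoidHom.ker_eq_bot_iff, eq_bot_iff, ← center_eq_bot]
    intro x hx
    rw [Subgroup.mem_center_iff]
    intro g
    have h : x * g * x⁻¹ = g := by
      rw [← MulAut.conj_apply, MonoidHom.mem_ker.1 hx]
      rfl
    rw [mul_inv_eq_iff_eq_mul] at h
    exact h.symm
  have hfin : Finite (MulAut X) := inferInstance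
  have hbij : Function.Bijective (MulAut.conj : X →* MulAut X) :=
    (Nat.bijective_iff_injective_and_card _).2 ⟨hinj, card_mulAut.symm⟩
  obtain ⟨x, hx⟩ := hbij.2 α
  exact ⟨x, hx.symm⟩

/-- every automorphism of a group isomorphic to `Sp_6(2)` is inner -/
theorem inner_of_equiv {Q : Type*} [Group Q] (e : Q ≃* Matrix.symplecticGroup (Fin 3) (ZMod 2)) (α : MulAut Q) :
    ∃ x, α = MulAut.conj x := by
  obtain ⟨y, hy⟩ := inner (MulAut.congr e α)
  refine ⟨e.symm y, ?_⟩
  ext q
  have h := DFunLike.congr_fun hy (e q)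
  simp only [MulAut.congr_apply, MulEquiv.trans_apply, MulEquiv.symm_apply_apply, MulAut.conj_apply] at h
  apply e.injective
  rw [h]
  simp

/-- an automorphism of a perfect group acting trivially modulo the centre is trivial -/
theorem eq_one_of_trivial_mod_center {L : Type*} [Group L] (hL : commutator L = ⊤) (β : L →* L)
    (hβ : ∀ y, β y * y⁻¹ ∈ Subgroup.center L) (y : L) : β y = y := by
  have hmul : ∀ a b, β (a * b) * (a * b)⁻¹ = (β a * a⁻¹) * (β b * b⁻¹) := by
    intro a b
    have h := Subgroup.mem_center_iff.1 (hβ b) (a⁻¹)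
    rw [map_mul]
    calc β a * β b * (a * b)⁻¹ = β a * ((β b * b⁻¹) * a⁻¹) := by group
      _ = β a * (a⁻¹ * (β b * b⁻¹)) := by rw [h]
      _ = _ := by group
  let c : L →* Subgroup.center L :=
    MonoidHom.mk' (fun a => ⟨β a * a⁻¹, hβ a⟩) (fun a b => Subtype.ext (hmul a b))
  have hc : commutator L ≤ c.ker := by
    rw [commutator_def, Subgroup.commutator_le]
    intro a _ b _
    rw [MonoidHom.mem_ker, map_commutatorElement, commutatorElement_eq_one_iff_mul_comm]
    exact Subtype.ext (Subgroup.mem_center_iff.1 (c b).2 (c a : L))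
  rw [hL] at hc
  have h1 : c y = 1 := hc (Subgroup.mem_top y)
  have h2 := congrArg Subtype.val h1
  exact mul_inv_eq_one.1 h2

/-- conjugation by an element of the normalizer -/
def conjHom {G : Type*} [Group G] (L : Subgroup G) (g : G) (hg : g ∈ Subgroup.normalizer (L : Set G)) : L →* L where
  toFun y := ⟨g * y * g⁻¹, (Subgroup.mem_normalizer_iff.1 hg y).1 y.2⟩
  map_one' := Subtype.ext (by simp)
  map_mul' a b := Subtype.ext (by simp [mul_assoc])

/-- if all automorphisms of `L / Z(L)` are inner and `L` is perfect, then `N(L) = L C(L)` -/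
theorem exists_mul {G : Type*} [Group G] (L : Subgroup G) (hL : commutator L = ⊤)
    (hin : ∀ α : MulAut (L ⧸ Subgroup.center L), ∃ x, α = MulAut.conj x) (g : G)
    (hg : g ∈ Subgroup.normalizer (L : Set G)) : ∃ l ∈ L, l⁻¹ * g ∈ Subgroup.centralizer (L : Set G) := by
  -- the automorphism induced by `g` on the quotient
  let a : MulAut L := MulEquiv.ofBijective (conjHom L g hg) ⟨by
    intro x y h
    have := congrArg Subtype.val h
    simp only [conjHom, MonoidHom.coe_mk, OneHom.coe_mk] at this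
    exact Subtype.ext (by simpa using this), by
    intro y
    refine ⟨⟨g⁻¹ * y * g, ?_⟩, ?_⟩
    · have := (Subgroup.mem_normalizer_iff.1 (inv_mem hg) y).1 y.2
      rwa [inv_inv] at this
    · apply Subtype.ext
      simp only [conjHom, MonoidHom.coe_mk, OneHom.coe_mk]
      group⟩
  have ha : ∀ y : L, ((a y : L) : G) = g * y * g⁻¹ := fun _ => rfl
  let α : MulAut (L ⧸ Subgroup.center L) := QuotientGroup.congr (Subgroup.center L) (Subgroup.center L) a
    (Subgroup.characteristic_iff_map_eq.1 inferInstance a)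
  obtain ⟨x, hx⟩ := hin α
  obtain ⟨l, rfl⟩ := QuotientGroup.mk_surjective x
  refine ⟨l, l.2, ?_⟩
  -- `β = conj l⁻¹ ∘ a` is trivial modulo the centre
  let β : L →* L := (MulAut.conj l⁻¹).toMonoidHom.comp a.toMonoidHom
  have hβ : ∀ y, β y * y⁻¹ ∈ Subgroup.center L := by
    intro y
    have h1 : α (QuotientGroup.mk y) = QuotientGroup.mk (a y) := rfl
    rw [hx, MulAut.conj_apply] at h1
    have h2 : (QuotientGroup.mk (a y) : L ⧸ Subgroup.center L) = QuotientGroup.mk (l * y * l⁻¹) := h1.symm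
    rw [← QuotientGroup.eq_one_iff]
    have h3 : β y = l⁻¹ * a y * l := by
      show l⁻¹ * a y * l⁻¹⁻¹ = _
      rw [inv_inv]
    rw [h3]
    have h4 : (QuotientGroup.mk (l⁻¹ * a y * l * y⁻¹) : L ⧸ Subgroup.center L) =
        (QuotientGroup.mk l)⁻¹ * QuotientGroup.mk (a y) * QuotientGroup.mk l * (QuotientGroup.mk y)⁻¹ := rfl
    rw [h4, h2]
    have h5 : (QuotientGroup.mk (l * y * l⁻¹) : L ⧸ Subgroup.center L) =
        QuotientGroup.mk l * QuotientGroup.mk y * (QuotientGroup.mk l)⁻¹ := rfl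
    rw [h5]
    group
  rw [Subgroup.mem_centralizer_iff]
  intro y hy
  have h6 := congrArg Subtype.val (eq_one_of_trivial_mod_center hL β hβ ⟨y, hy⟩)
  have h7 : (l : G)⁻¹ * (g * y * g⁻¹) * (l : G)⁻¹⁻¹ = y := h6
  rw [inv_inv] at h7
  calc y * ((l : G)⁻¹ * g) = ((l : G)⁻¹ * (g * y * g⁻¹) * (l : G)) * ((l : G)⁻¹ * g) := by rw [h7]
    _ = (l : G)⁻¹ * g * y := by group

/-- the case needed: `L` quasisimple with `L / Z(L) ≅ PSp 3 F`, `|F| = 2` -/
theorem exists_mul_of_psp {G : Type*} [Group G] (L : Subgroup G) (hL : Cfsg.IsQuasisimple L)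
    {F : Type*} [Field F] [Fintype F] (hF : Fintype.card F = 2) (e : (L ⧸ Subgroup.center L) ≃* Cfsg.PSp 3 F) (g : G)
    (hg : g ∈ Subgroup.normalizer (L : Set G)) : ∃ l ∈ L, l⁻¹ * g ∈ Subgroup.centralizer (L : Set G) := by
  obtain ⟨e'⟩ := exists_equiv hF
  exact exists_mul L (Group.isPerfect_def.1 hL.1) (inner_of_equiv (e.trans e')) g hg

theorem normalizer_eq_sup {G : Type*} [Group G] (L : Subgroup G) (hL : Cfsg.IsQuasisimple L)
    {F : Type*} [Field F] [Fintype F] (hF : Fintype.card F = 2) (e : (L ⧸ Subgroup.center L) ≃* Cfsg.PSp 3 F) :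
    Subgroup.normalizer (L : Set G) = L ⊔ Subgroup.centralizer (L : Set G) := by
  apply le_antisymm
  · intro g hg
    obtain ⟨l, hl, h⟩ := exists_mul_of_psp L hL hF e g hg
    have : g = l * (l⁻¹ * g) := by group
    rw [this]
    exact mul_mem (Subgroup.mem_sup_left hl) (Subgroup.mem_sup_right h)
  · exact sup_le Subgroup.le_normalizer (Subgroup.centralizer_le_normalizer (L : Set G))

end Cfsg.Agent.StandardComponent.SpTwoAut
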