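import Mathlib
set_option linter.all false

/-!
Elementary facts about the symplectic group `Sp_6(2)` acting on its natural module, in terms of transvections.
They are used to determine the centralizer of a standard subgroup `2.Sp_6(2)`.
-/

set_option autoImplicit false

namespace Cfsg.Agent.StandardComponent.SpTwo

/-- A group acting faithfully by isometries of a symplectic space over the field with two elements,
containing all transvections. -/
structure SpData (X V : Type*) [Group X] [AddCommGroup V] [Module (ZMod 2) V] where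
  B : V →ₗ[ZMod 2] V →ₗ[ZMod 2] ZMod 2
  ρ : X →* Module.End (ZMod 2) V
  alt : ∀ v, B v v = 0
  nondeg : ∀ v, (∀ w, B v w = 0) → v = 0
  inv : ∀ g u v, B (ρ g u) (ρ g v) = B u v
  inj : Function.Injective ρ
  τ : V → X
  hτ : ∀ w v, ρ (τ w) v = v + B v w • w

variable {X V : Type*} [Group X] [AddCommGroup V] [Module (ZMod 2) V]

theorem z2 (a : ZMod 2) : a = 0 ∨ a = 1 := by
  revert a; decide

theorem aa (v : V) : v + v = 0 := by
  have : (2 : ZMod 2) • v = v + v := two_smul _ v
  rw [← this, show (2 : ZMod 2) = 0 from rfl, zero_smul]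

theorem eq_of_add (u v : V) (h : u + v = 0) : u = v := by
  have := aa v
  calc u = u + (v + v) := by rw [this, add_zero]
    _ = (u + v) + v := by abel
    _ = v := by rw [h, zero_add]

theorem aac (u v : V) : u + (u + v) = v := by
  rw [← add_assoc, aa, zero_add]

theorem aab (u v : V) : u + v + v = u := by
  rw [add_assoc, aa, add_zero]

namespace SpData

variable (D : SpData X V)

theorem symm (u v : V) : D.B u v = D.B v u := by
  have h := D.alt (u + v)
  simp only [map_add, LinearMap.add_apply, D.alt, zero_add, add_zero] at h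
  rcases z2 (D.B u v) with h1 | h1 <;> rcases z2 (D.B v u) with h2 | h2 <;> rw [h1, h2] at h <;>
    rw [h1, h2]
  · simp at h
  · simp at h

theorem ρ_mul (g h : X) (v : V) : D.ρ (g * h) v = D.ρ g (D.ρ h v) := by
  rw [map_mul]; rfl

theorem ρ_one (v : V) : D.ρ 1 v = v := by
  rw [map_one]; rfl

theorem ρ_inv_apply (g : X) (v : V) : D.ρ g⁻¹ (D.ρ g v) = v := by
  rw [← ρ_mul, inv_mul_cancel, ρ_one]

theorem ρ_apply_inv (g : X) (v : V) : D.ρ g (D.ρ g⁻¹ v) = v := by
  rw [← ρ_mul, mul_inv_cancel, ρ_one]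

theorem ext_iff {g h : X} (H : ∀ v, D.ρ g v = D.ρ h v) : g = h :=
  D.inj (LinearMap.ext H)

theorem inv_left (g : X) (u v : V) : D.B (D.ρ g u) v = D.B u (D.ρ g⁻¹ v) := by
  rw [← D.inv g u (D.ρ g⁻¹ v), D.ρ_apply_inv]

theorem ρ_inj (g : X) {u v : V} (h : D.ρ g u = D.ρ g v) : u = v := by
  rw [← D.ρ_inv_apply g u, h, D.ρ_inv_apply]

theorem conj_τ (g : X) (w : V) : g * D.τ w * g⁻¹ = D.τ (D.ρ g w) := by
  apply D.ext_iff
  intro v
  rw [ρ_mul, ρ_mul, D.hτ, D.hτ, map_add, D.ρ_apply_inv, map_smul]
  congr 2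
  rw [← D.inv g, D.ρ_apply_inv]

theorem τ_zero : D.τ 0 = 1 := by
  apply D.ext_iff
  intro v
  rw [D.hτ, ρ_one]; simp

theorem τ_sq (w : V) : D.τ w * D.τ w = 1 := by
  apply D.ext_iff
  intro v
  rw [ρ_mul, D.hτ, D.hτ, ρ_one, map_add, map_smul, LinearMap.add_apply, LinearMap.smul_apply, D.alt]
  simp [aab]

theorem τ_inv (w : V) : (D.τ w)⁻¹ = D.τ w := by
  rw [inv_eq_iff_mul_eq_one, τ_sq]

/-- The product of two transvections. -/
theorem ττ (a b v : V) : D.ρ (D.τ a * D.τ b) v = v + D.B v b • b + (D.B v a + D.B v b * D.B b a) • a := by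
  rw [ρ_mul, D.hτ, D.hτ, map_add, map_smul, LinearMap.add_apply, LinearMap.smul_apply, smul_eq_mul]

theorem τ_injective {a b : V} (h : D.τ a = D.τ b) : a = b := by
  by_contra hab
  have key : ∀ v, D.B v a • a = D.B v b • b := by
    intro v
    have := D.hτ a v
    rw [h, D.hτ] at this
    exact (add_left_cancel this).symm
  have h0 : ∀ v, D.B v a = 0 ∧ D.B v b = 0 ∨ a = b := by
    intro v
    have := key v
    rcases z2 (D.B v a) with h1 | h1 <;> rcases z2 (D.B v b) with h2 | h2 <;> rw [h1, h2] at this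
    · exact Or.inl ⟨h1, h2⟩
    · left
      simp only [zero_smul, one_smul] at this
      rw [← this] at h2
      simp at h2
    · left
      simp only [zero_smul, one_smul] at this
      rw [this] at h1
      simp at h1
    · right
      simpa using this
  apply hab
  have ha : a = 0 := D.nondeg a (fun w => by
    rw [D.symm]; rcases h0 w with h | h
    · exact h.1
    · exact absurd h hab)
  have hb : b = 0 := D.nondeg b (fun w => by
    rw [D.symm]; rcases h0 w with h | h
    · exact h.2
    · exact absurd h hab)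
  rw [ha, hb]

theorem τ_eq_one {a : V} (h : D.τ a = 1) : a = 0 := by
  rw [← D.τ_zero] at h
  exact D.τ_injective h

theorem τ_commute {a b : V} (h : D.B a b = 0) : D.τ a * D.τ b = D.τ b * D.τ a := by
  apply D.ext_iff
  intro v
  rw [D.ττ, D.ττ, h, D.symm b a, h, mul_zero, mul_zero, add_zero, add_zero]
  abel

/-- Two distinct nonzero vectors are separated by a functional. -/
theorem exists_sep {c d : V} (hc : c ≠ 0) (hcd : c ≠ d) : ∃ v, D.B v c = 1 ∧ D.B v d = 0 := by
  by_contra hcon
  push Not at hcon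
  have h1 : ∀ v, D.B v d = 0 → D.B v c = 0 := by
    intro v hv
    rcases z2 (D.B v c) with h | h
    · exact h
    · exact absurd hv (hcon v h)
  by_cases hd : d = 0
  · apply hc
    apply D.nondeg
    intro w
    rw [D.symm]
    exact h1 w (by rw [hd, map_zero])
  · have : ∃ v0, D.B v0 d = 1 := by
      by_contra hn
      push Not at hn
      apply hd
      apply D.nondeg
      intro w
      rw [D.symm]
      rcases z2 (D.B w d) with h | h
      · exact h
      · exact absurd h (hn w)
    obtain ⟨v0, hv0⟩ := this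
    have h2 : ∀ v, D.B v c = D.B v d * D.B v0 c := by
      intro v
      have := h1 (v + D.B v d • v0) (by
        rw [map_add, map_smul, LinearMap.add_apply, LinearMap.smul_apply, hv0, smul_eq_mul, mul_one]
        rcases z2 (D.B v d) with h | h <;> rw [h] <;> decide)
      rw [map_add, map_smul, LinearMap.add_apply, LinearMap.smul_apply, smul_eq_mul] at this
      rcases z2 (D.B v c) with h | h <;> rcases z2 (D.B v d * D.B v0 c) with h' | h' <;>
        rw [h, h'] at this <;> rw [h, h'] <;> simp at this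
    rcases z2 (D.B v0 c) with h3 | h3
    · apply hc
      apply D.nondeg
      intro w
      rw [D.symm, h2, h3, mul_zero]
    · apply hcd
      apply eq_of_add
      apply D.nondeg
      intro w
      rw [D.symm, map_add, h2, h3, mul_one]
      rcases z2 (D.B w d) with h | h <;> rw [h] <;> decide

/-- If two products of transvections agree then the vectors span the same plane. -/
theorem mem_of_ττ_eq {a b c d : V} (hc : c ≠ 0) (hcd : c ≠ d)
    (h : D.τ a * D.τ b = D.τ c * D.τ d) : c = a ∨ c = b ∨ c = a + b := by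
  obtain ⟨v, hv1, hv2⟩ := D.exists_sep hc hcd
  have e1 := D.ττ a b v
  have e2 := D.ττ c d v
  rw [hv1, hv2, zero_smul, add_zero, zero_mul, add_zero, one_smul] at e2
  rw [h, e2, add_assoc] at e1
  have e3 := add_left_cancel e1
  rcases z2 (D.B v b) with h1 | h1 <;> rcases z2 (D.B v a + D.B v b * D.B b a) with h2 | h2 <;>
    rw [h1] at e3 h2 <;> rw [h2] at e3
  · exact absurd (by simpa using e3) hc
  · left; simpa using e3
  · right; left; simpa using e3
  · right; right; rw [e3]; simp [add_comm]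

/-- The map `v ↦ g v + v`. -/
def n (g : X) : V →ₗ[ZMod 2] V := D.ρ g + LinearMap.id

theorem n_apply (g : X) (v : V) : D.n g v = D.ρ g v + v := rfl

theorem n_eq_zero {g : X} {v : V} : D.n g v = 0 ↔ D.ρ g v = v := by
  rw [n_apply]
  constructor
  · exact eq_of_add _ _
  · intro h; rw [h, aa]

theorem mem_ker {g : X} {v : V} : v ∈ LinearMap.ker (D.n g) ↔ D.ρ g v = v := by
  rw [LinearMap.mem_ker, n_eq_zero]

theorem ρ_eq (g : X) (v : V) : D.ρ g v = v + D.n g v := by
  rw [n_apply, add_comm (D.ρ g v) v, ← add_assoc, aa, zero_add]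

theorem n_sq {y x : X} (hy : y * y = x) (v : V) : D.n y (D.n y v) = D.n x v := by
  rw [n_apply, n_apply, n_apply, map_add, ← D.ρ_mul, hy]
  rw [show D.ρ x v + D.ρ y v + (D.ρ y v + v) = D.ρ x v + (D.ρ y v + D.ρ y v) + v by abel, aa, add_zero]

theorem n_one (v : V) : D.n 1 v = 0 := by
  rw [n_eq_zero, ρ_one]

theorem n_n {x : X} (hx : x * x = 1) (v : V) : D.n x (D.n x v) = 0 := by
  rw [D.n_sq hx, n_one]

theorem n_ρ {x : X} (hx : x * x = 1) (v : V) : D.ρ x (D.n x v) = D.n x v := by
  rw [← n_eq_zero, D.n_n hx]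

theorem eq_one_of_n {g : X} (h : ∀ v, D.n g v = 0) : g = 1 := by
  apply D.ext_iff
  intro v
  rw [ρ_one, ← n_eq_zero, h]

theorem n_adj {x : X} (hx : x * x = 1) (u v : V) : D.B u (D.n x v) = D.B (D.n x u) v := by
  have hxi : x⁻¹ = x := inv_eq_of_mul_eq_one_right hx
  rw [n_apply, n_apply, map_add, map_add, LinearMap.add_apply, D.inv_left, hxi]

theorem perp_ker {x : X} (hx : x * x = 1) {u : V} (h : ∀ f, D.ρ x f = f → D.B u f = 0) :
    D.ρ x u = u := by
  rw [← n_eq_zero]
  apply D.nondeg
  intro w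
  rw [← D.n_adj hx]
  exact h _ (D.n_ρ hx w)

theorem B_n_ker {x : X} (hx : x * x = 1) (v : V) {f : V} (hf : D.ρ x f = f) :
    D.B (D.n x v) f = 0 := by
  rw [← D.n_adj hx, D.n_eq_zero.2 hf, map_zero]

theorem card_ker_mul {M N : Type*} [AddCommGroup M] [Module (ZMod 2) M] [AddCommGroup N]
    [Module (ZMod 2) N] (f : M →ₗ[ZMod 2] N) :
    Nat.card (LinearMap.ker f) * Nat.card (LinearMap.range f) = Nat.card M := by
  rw [Submodule.card_eq_card_quotient_mul_card (LinearMap.ker f),
    Nat.card_congr f.quotKerEquivRange.toEquiv, mul_comm]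

theorem card_dvd_of_le {M : Type*} [AddCommGroup M] [Module (ZMod 2) M] {S T : Submodule (ZMod 2) M}
    (h : S ≤ T) : Nat.card S ∣ Nat.card T := by
  have := AddSubgroup.card_dvd_of_le (H := S.toAddSubgroup) (K := T.toAddSubgroup) h
  exact this

theorem two_mul_card_le {M : Type*} [AddCommGroup M] [Module (ZMod 2) M] [Finite M]
    {S T : Submodule (ZMod 2) M} (h : S < T) : 2 * Nat.card S ≤ Nat.card T := by
  obtain ⟨k, hk⟩ := card_dvd_of_le h.le
  have hT : 0 < Nat.card T := Nat.card_pos
  have hS : 0 < Nat.card S := Nat.card_pos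
  rcases Nat.lt_or_ge k 2 with h2 | h2
  · exfalso
    interval_cases k
    · omega
    · apply h.ne
      rw [mul_one] at hk
      have hle : (S : Set M) ⊆ T := h.le
      exact SetLike.coe_injective (Set.eq_of_subset_of_ncard_le hle (by
        rw [← Nat.card_coe_set_eq, ← Nat.card_coe_set_eq]
        exact hk.le) (Set.toFinite _))
  · rw [hk]; nlinarith

theorem eight_le [Finite V] (hV : Nat.card V = 64) {x : X} (hx : x * x = 1) :
    8 ≤ Nat.card (LinearMap.ker (D.n x)) := by
  have h1 := card_ker_mul (D.n x)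
  rw [hV] at h1
  have h2 : LinearMap.range (D.n x) ≤ LinearMap.ker (D.n x) := by
    rintro _ ⟨v, rfl⟩
    exact D.n_n hx v
  have h3 := Nat.le_of_dvd Nat.card_pos (card_dvd_of_le h2)
  by_contra h
  push Not at h
  have : Nat.card (LinearMap.ker (D.n x)) * Nat.card (LinearMap.range (D.n x)) ≤ 7 * 7 :=
    Nat.mul_le_mul (by omega) (by omega)
  omega

theorem sixteen_le [Finite V] (hV : Nat.card V = 64) {x y : X} (hy : y * y = x) (hx : x * x = 1) :
    16 ≤ Nat.card (LinearMap.ker (D.n x)) := by
  have h8 := D.eight_le hV hx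
  by_contra h
  push Not at h
  have h1 := card_ker_mul (D.n x)
  rw [hV] at h1
  have hF : Nat.card (LinearMap.ker (D.n x)) = 8 := by
    have hd : Nat.card (LinearMap.ker (D.n x)) ∣ 64 := Dvd.intro _ h1
    generalize Nat.card (LinearMap.ker (D.n x)) = k at *
    interval_cases k <;> first | rfl | (exfalso; revert hd; decide)
  have hW : Nat.card (LinearMap.range (D.n x)) = 8 := by
    rw [hF] at h1; omega
  have hWF : LinearMap.range (D.n x) ≤ LinearMap.ker (D.n x) := by
    rintro _ ⟨v, rfl⟩
    exact D.n_n hx v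
  have hWF' : LinearMap.range (D.n x) = LinearMap.ker (D.n x) := by
    by_contra hne
    have := two_mul_card_le (lt_of_le_of_ne hWF hne)
    omega
  -- restrict `n y` to its range
  have h2 := card_ker_mul (D.n y)
  rw [hV] at h2
  have h3 := card_ker_mul ((D.n y).domRestrict (LinearMap.range (D.n y)))
  have h4 : LinearMap.range ((D.n y).domRestrict (LinearMap.range (D.n y))) = LinearMap.range (D.n x) := by
    ext w
    simp only [LinearMap.mem_range, LinearMap.domRestrict_apply, Subtype.exists, exists_prop]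
    constructor
    · rintro ⟨_, ⟨u, rfl⟩, rfl⟩
      exact ⟨u, (D.n_sq hy u).symm⟩
    · rintro ⟨u, rfl⟩
      exact ⟨D.n y u, ⟨u, rfl⟩, D.n_sq hy u⟩
  have h5 : Nat.card (LinearMap.ker ((D.n y).domRestrict (LinearMap.range (D.n y)))) =
      Nat.card (LinearMap.ker (D.n y)) := by
    refine Nat.card_congr ⟨fun u => ⟨u.1.1, ?_⟩, fun u => ⟨⟨u.1, ?_⟩, ?_⟩, ?_, ?_⟩
    · have := u.2
      rw [LinearMap.mem_ker, LinearMap.domRestrict_apply] at this
      exact this
    · have hu : u.1 ∈ LinearMap.ker (D.n x) := by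
        rw [LinearMap.mem_ker, ← D.n_sq hy, LinearMap.mem_ker.1 u.2, map_zero]
      rw [← hWF'] at hu
      obtain ⟨v, hv⟩ := hu
      exact ⟨D.n y v, by rw [D.n_sq hy, hv]⟩
    · rw [LinearMap.mem_ker, LinearMap.domRestrict_apply]
      exact u.2
    · intro u; rfl
    · intro u; rfl
  rw [h5, h4, hW] at h3
  rw [← h3] at h2
  generalize Nat.card (LinearMap.ker (D.n y)) = k at *
  have : k * k = 8 := by
    nlinarith
  have hk : k < 3 := by nlinarith
  interval_cases k <;> omega

/-- A square root of an involution does not act trivially on the fixed space of the involution. -/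
theorem exists_moved {x y : X} (hy : y * y = x) (hx : x * x = 1) (hx1 : x ≠ 1) :
    ∃ w, D.ρ x w = w ∧ D.ρ y w ≠ w := by
  by_contra h
  push Not at h
  apply hx1
  apply D.eq_one_of_n
  intro v
  have h1 : D.n y (D.n x v) = 0 := by
    rw [n_eq_zero]
    exact h _ (D.n_ρ hx v)
  rw [← D.n_sq hy v] at h1 ⊢
  rw [n_eq_zero] at h1
  have h2 : D.ρ x (D.n y v) = D.n y v := by
    rw [← n_eq_zero, ← D.n_sq hy]
    rw [n_eq_zero]
    exact h1
  rw [n_eq_zero]
  exact h _ h2

theorem τ_commute_of_fix {b : X} {w : V} (h : D.ρ b w = w) : Commute (D.τ w) b := by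
  have := D.conj_τ b w
  rw [h] at this
  exact (mul_inv_eq_iff_eq_mul.1 this).symm

theorem fix_of_τ_commute {b : X} {w : V} (h : Commute (D.τ w) b) : D.ρ b w = w := by
  have := D.conj_τ b w
  rw [← h.eq, mul_inv_cancel_right] at this
  exact (D.τ_injective this).symm

include D in
open Classical in
/-- An element of order four does not have few conjugates under the centralizer of its square. -/
theorem no_small_root [Finite V] (hV : Nat.card V = 64) {y b : X} (hy : y * y = b) (hb : b * b = 1)
    (hb1 : b ≠ 1) (T : Subgroup X)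
    (hT : ∀ x1 x2 : X, Commute x1 b → Commute x2 b → x1 ∉ T → x2 ∉ T → x1 * x2 ∈ T)
    (hyT : ∀ x ∈ T, x * y * x⁻¹ = y ∨ x * y * x⁻¹ = b * y) : False := by
  have := Fintype.ofFinite V
  -- few conjugates
  have hz0 : ∃ z0 : X, ∀ z, Commute z b → z * y * z⁻¹ = y ∨ z * y * z⁻¹ = b * y ∨
      z * y * z⁻¹ = z0 * y * z0⁻¹ ∨ z * y * z⁻¹ = b * (z0 * y * z0⁻¹) := by
    by_cases hall : ∀ z, Commute z b → z ∈ T
    · refine ⟨1, fun z hz => ?_⟩
      rcases hyT z (hall z hz) with h | h
      · exact Or.inl h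
      · exact Or.inr (Or.inl h)
    · push Not at hall
      obtain ⟨z0, hz0, hz0T⟩ := hall
      refine ⟨z0, fun z hz => ?_⟩
      by_cases hzT : z ∈ T
      · rcases hyT z hzT with h | h
        · exact Or.inl h
        · exact Or.inr (Or.inl h)
      · have h1 := hT z0⁻¹ z hz0.inv_left hz (fun h => hz0T (by simpa using T.inv_mem h)) hzT
        rcases hyT _ h1 with h | h
        · right; right; left
          calc z * y * z⁻¹ = z0 * ((z0⁻¹ * z) * y * (z0⁻¹ * z)⁻¹) * z0⁻¹ := by group
            _ = _ := by rw [h]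
        · right; right; right
          calc z * y * z⁻¹ = z0 * ((z0⁻¹ * z) * y * (z0⁻¹ * z)⁻¹) * z0⁻¹ := by group
            _ = z0 * (b * y) * z0⁻¹ := by rw [h]
            _ = (z0 * b) * y * z0⁻¹ := by group
            _ = (b * z0) * y * z0⁻¹ := by rw [hz0.eq]
            _ = _ := by group
  obtain ⟨z0, hz0⟩ := hz0
  set Nf : Finset V := Finset.univ.filter (fun w => D.ρ b w = w ∧ D.ρ y w ≠ w) with hNf
  set f : V → X := fun w => D.τ w * y * (D.τ w)⁻¹ with hf
  have hfeq : ∀ w, f w = D.τ w * D.τ (D.ρ y w) * y := by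
    intro w
    simp only [hf]
    rw [D.τ_inv, ← D.conj_τ y w]
    group
  have himg : Nf.image f ⊆ {b * y, z0 * y * z0⁻¹, b * (z0 * y * z0⁻¹)} := by
    intro c hc
    obtain ⟨w, hw, rfl⟩ := Finset.mem_image.1 hc
    obtain ⟨-, hw1, hw2⟩ := Finset.mem_filter.1 hw
    have hne : f w ≠ y := by
      rw [hfeq]
      intro h
      have h1 : D.τ w * D.τ (D.ρ y w) = 1 := by simpa using h
      have h2 : D.τ (D.ρ y w) = D.τ w := by
        rw [← D.τ_inv w]; exact (inv_eq_of_mul_eq_one_right h1).symm
      exact hw2 (D.τ_injective h2)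
    rcases hz0 _ (D.τ_commute_of_fix hw1) with h | h | h | h
    · exact absurd h hne
    · simp only [Finset.mem_insert, Finset.mem_singleton]; exact Or.inl h
    · simp only [Finset.mem_insert, Finset.mem_singleton]; exact Or.inr (Or.inl h)
    · simp only [Finset.mem_insert, Finset.mem_singleton]; exact Or.inr (Or.inr h)
  have hfib : ∀ c ∈ Nf.image f, (Nf.filter (fun w => f w = c)).card ≤ 2 := by
    intro c hc
    obtain ⟨w, hw, rfl⟩ := Finset.mem_image.1 hc
    obtain ⟨-, hw1, hw2⟩ := Finset.mem_filter.1 hw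
    have hsub : Nf.filter (fun w' => f w' = f w) ⊆ {w, D.ρ y w} := by
      intro w' hw'
      obtain ⟨hw'1, hw'2⟩ := Finset.mem_filter.1 hw'
      obtain ⟨-, hw'3, hw'4⟩ := Finset.mem_filter.1 hw'1
      rw [hfeq, hfeq] at hw'2
      have h1 := mul_right_cancel hw'2
      have h0 : w' ≠ 0 := by
        rintro rfl
        exact hw'4 (map_zero _)
      rcases D.mem_of_ττ_eq h0 (Ne.symm hw'4) h1.symm with h | h | h
      · simp [h]
      · simp [h]
      · exfalso
        apply hw'4
        rw [h, map_add, ← D.ρ_mul, hy, hw1, add_comm]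
    exact (Finset.card_le_card hsub).trans (Finset.card_le_two)
  have h1 := Finset.card_le_mul_card_image (f := f) Nf 2 hfib
  have h2 : (Nf.image f).card ≤ 3 := (Finset.card_le_card himg).trans Finset.card_le_three
  -- lower bound
  have h16 := D.sixteen_le hV hy hb
  have hlt : LinearMap.ker (D.n y) ⊓ LinearMap.ker (D.n b) < LinearMap.ker (D.n b) := by
    refine lt_of_le_of_ne inf_le_right (fun h => ?_)
    obtain ⟨w, hw1, hw2⟩ := D.exists_moved hy hb hb1
    have : w ∈ LinearMap.ker (D.n y) ⊓ LinearMap.ker (D.n b) := by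
      rw [h]; exact D.mem_ker.2 hw1
    exact hw2 (D.mem_ker.1 this.1)
  have h3 := two_mul_card_le hlt
  have h4 : (Nf : Set V) = (LinearMap.ker (D.n b) : Set V) \
      (LinearMap.ker (D.n y) ⊓ LinearMap.ker (D.n b) : Submodule (ZMod 2) V) := by
    ext w
    simp only [hNf, Finset.coe_filter, Finset.mem_univ, true_and, Set.mem_ofPred_eq, Set.mem_sdiff,
      SetLike.mem_coe, Submodule.mem_inf, D.mem_ker]
    tauto
  have h5 : Nf.card = Nat.card (LinearMap.ker (D.n b)) -
      Nat.card (LinearMap.ker (D.n y) ⊓ LinearMap.ker (D.n b) : Submodule (ZMod 2) V) := by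
    rw [← Set.ncard_coe_finset, h4, Set.ncard_sdiff (by
      intro w hw
      exact hw.2) (Set.toFinite _), ← Nat.card_coe_set_eq, ← Nat.card_coe_set_eq]
    rfl
  omega

end SpData

end Cfsg.Agent.StandardComponent.SpTwo
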