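import Mathlib
import Cfsg.Agent.StdO8.Gen_m3
import Cfsg.Agent.StdO8.DoubRoot_m3
import Cfsg.Agent.S0293
import Cfsg.Agent.Lib.Refl
import Cfsg.Agent.OddHalf.SL.Bridge
import Cfsg.Agent.StdSpSix.QLevel_m3
import Cfsg.Agent.OddHalf.TR
import Cfsg.Agent.StdSpSix.TR
import Cfsg.Agent.ClassicalGeometry.WittQuad
import Cfsg.Agent.Doubling.Growth
import Cfsg.Agent.FastGrp
import Cfsg.Agent.Prune
set_option linter.all false

section
prune_inst 0x7ffcfefbabf8addfffff7e7ff7ddcffdb9b83fffe6dff9cbffe9ebff0fdf4b6dc9c5fbad0fe410fe8ed6e01410b87b13f97ecabfe36bdc7ffffd5ff45ffbec1fa5e7bd0c51d2a02e1ffe6fffebf077ae7f3fffffffffffffffffffffffffffffffbfffbfffff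

-- part: StdO8/DataOf
section
prune_inst 0x3010454075220000000000022200046434000092000000004000050209492262000028003e30151200a08c94600c002813540000422000000a000000013c05a180010202c1c90000000001002080000000000000000000000000000000000000000400000
set_option linter.all false
open scoped Cfsg.Agent.FastGrp

-- part: StdO8/Dc
section
/-!
# Double centralisers of root elements in `O8+(2)`

`V` is the quadratic space of dimension 8 over the field with two elements, `b i` the standard hyperbolic basis (`b (i + 4)` is the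
partner of `b i`), `Xf u v` the root element of the totally singular line `⟨u, v⟩`. An isometry which commutes with all root
elements of the frame which commute with two given root elements of the frame lies in the group generated by these two.
-/

set_option autoImplicit false

namespace Cfsg.Agent.StdO8.Dc

/-- The natural module. -/
abbrev V := Fin 8 → ZMod 2

/-- The quadratic form. -/
def q (v : V) : ZMod 2 := v 0 * v 4 + v 1 * v 5 + v 2 * v 6 + v 3 * v 7

/-- The polar form. -/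
def B (v w : V) : ZMod 2 :=
  v 0 * w 4 + v 4 * w 0 + (v 1 * w 5 + v 5 * w 1) + (v 2 * w 6 + v 6 * w 2) + (v 3 * w 7 + v 7 * w 3)

/-- The standard basis. -/
def b (i : Fin 8) : V := Pi.single i 1

theorem b_apply (i j : Fin 8) : b i j = if j = i then 1 else 0 := by
  unfold b
  rw [Pi.single_apply]

theorem q_add (v w : V) : q (v + w) = q v + q w + B v w := by
  unfold q B
  simp only [Pi.add_apply]
  ring

theorem B_comm (v w : V) : B v w = B w v := by unfold B; ring

theorem B_add_left (u v w : V) : B (u + v) w = B u w + B v w := by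
  unfold B
  simp only [Pi.add_apply]
  ring

theorem B_add_right (u v w : V) : B u (v + w) = B u v + B u w := by
  rw [B_comm, B_add_left, B_comm v, B_comm w]

theorem B_smul_left (a : ZMod 2) (v w : V) : B (a • v) w = a * B v w := by
  unfold B
  simp only [Pi.smul_apply, smul_eq_mul]
  ring

theorem B_smul_right (a : ZMod 2) (v w : V) : B v (a • w) = a * B v w := by
  rw [B_comm, B_smul_left, B_comm]

/-- The root element of the line `⟨u, v⟩`. -/
def Xf (u v w : V) : V := w + B w v • u + B w u • v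

/-- The coordinates are given by the form. -/
theorem coord (v : V) (i : Fin 8) : v i = B v (b (i + 4)) := by
  revert v
  fin_cases i <;> intro v <;> simp [B, b_apply]

theorem B_b (i j : Fin 8) : B (b i) (b j) = if j = i + 4 then 1 else 0 := by
  revert i j
  decide +kernel

theorem q_b (i : Fin 8) : q (b i) = 0 := by
  revert i
  decide

theorem zmod_ne {a : ZMod 2} (h : a ≠ 0) : a = 1 := by
  revert a
  decide

/-- `v` lies on the line `⟨b i, b j⟩`. -/
def On (i j : Fin 8) (v : V) : Prop := ∀ k, k ≠ i → k ≠ j → v k = 0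

theorem On.symm {i j : Fin 8} {v : V} (h : On i j v) : On j i v := fun k h1 h2 => h k h2 h1

/-- Two different lines through `b i` meet in `b i`. -/
theorem fix {i j k : Fin 8} {v : V} (h1 : On i j v) (h2 : On i k v) (hjk : j ≠ k) (h0 : v ≠ 0) : v = b i := by
  have h3 : ∀ l, l ≠ i → v l = 0 := fun l hl => by
    by_cases h : l = j
    · exact h2 l hl (fun e => hjk (h ▸ e))
    · exact h1 l hl h
  have h4 : v i = 1 := zmod_ne fun h => h0 <| funext fun l => by
    by_cases e : l = i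
    · rw [e, h]; rfl
    · exact h3 l e
  funext l
  rw [b_apply]
  split_ifs with e
  · rw [e, h4]
  · exact h3 l e

/-- An isometry. -/
structure Iso (g : V → V) : Prop where
  add : ∀ v w, g (v + w) = g v + g w
  isom : ∀ v, q (g v) = q v
  inj : ∀ v, g v = 0 → v = 0

namespace Iso

variable {g : V → V}

theorem zero (h : Iso g) : g 0 = 0 := by
  have := h.add 0 0
  rw [add_zero] at this
  simpa using this

theorem smul (h : Iso g) (a : ZMod 2) (v : V) : g (a • v) = a • g v := by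
  have h2 : a = 0 ∨ a = 1 := by revert a; decide
  rcases h2 with rfl | rfl
  · rw [zero_smul, zero_smul, h.zero]
  · rw [one_smul, one_smul]

theorem B_eq (h : Iso g) (v w : V) : B (g v) (g w) = B v w := by
  have h1 := q_add (g v) (g w)
  rw [← h.add, h.isom, h.isom, h.isom, q_add] at h1
  exact (add_left_cancel h1).symm

theorem ne (h : Iso g) (i : Fin 8) : g (b i) ≠ 0 := fun e => by
  have h1 := h.inj _ e
  have h2 := congrFun h1 i
  rw [b_apply, if_pos rfl] at h2
  exact absurd (show (1 : ZMod 2) = 0 from h2) (by decide)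

theorem Xf_eq (h : Iso g) (u v w : V) : g (Xf u v w) = Xf (g u) (g v) (g w) := by
  unfold Xf
  rw [h.add, h.add, h.smul, h.smul, h.B_eq, h.B_eq]

theorem comp {f : V → V} (h : Iso g) (hf : Iso f) : Iso (fun v => g (f v)) where
  add := fun v w => by rw [hf.add, h.add]
  isom := fun v => by rw [h.isom, hf.isom]
  inj := fun v hv => hf.inj _ (h.inj _ hv)

/-- Two isometries which agree on the basis are equal. -/
theorem ext {f : V → V} (h : Iso g) (hf : Iso f) (e : ∀ i, g (b i) = f (b i)) (v : V) : g v = f v := by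
  have h1 : v = v 0 • b 0 + (v 1 • b 1 + (v 2 • b 2 + (v 3 • b 3 + (v 4 • b 4 + (v 5 • b 5 + (v 6 • b 6 + v 7 • b 7)))))) := by
    funext k
    simp only [Pi.add_apply, Pi.smul_apply, b_apply, smul_eq_mul]
    (revert k; simp only [_root_.Fin.forall_fin_succ, Fin.isValue, _root_.mul_ite, _root_.mul_one, _root_.MulZeroClass.mul_zero, ↓reduceIte, _root_.zero_ne_one, Fin.reduceEq, _root_.add_zero, _root_.Fin.succ_ne_zero, _root_.zero_add, _root_.Fin.succ_zero_eq_one, _root_.Fin.succ_one_eq_two, Fin.reduceSucc, _root_.IsEmpty.forall_iff, _root_.and_self])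
  rw [h1]
  simp only [h.add, hf.add, h.smul, hf.smul, e]

end Iso

theorem iso_id : Iso (fun v => v) := ⟨fun _ _ => rfl, fun _ => rfl, fun _ h => h⟩

theorem iso_Xf {u v : V} (hu : q u = 0) (hv : q v = 0) (huv : B u v = 0) : Iso (Xf u v) := by
  have add : ∀ w w', Xf u v (w + w') = Xf u v w + Xf u v w' := fun w w' => by
    unfold Xf
    rw [B_add_left, B_add_left, add_smul, add_smul]
    abel
  have two : ∀ a : ZMod 2, a + a = 0 := by decide
  have B_self : ∀ v : V, B v v = 0 := fun v => by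
    have := q_add v v
    have h2 : v + v = 0 := by funext k; exact two _
    rw [h2, two (q v), zero_add] at this
    rw [← this]
    unfold q
    simp
  have q_smul : ∀ (a : ZMod 2) (v : V), q (a • v) = a * a * q v := fun a v => by
    unfold q
    simp only [Pi.smul_apply, smul_eq_mul]
    ring
  have sq : ∀ w, Xf u v (Xf u v w) = w := fun w => by
    have h1 : B (Xf u v w) v = B w v := by
      unfold Xf
      rw [B_add_left, B_add_left, B_smul_left, B_smul_left, huv, B_self, mul_zero, mul_zero, add_zero, add_zero]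
    have h2 : B (Xf u v w) u = B w u := by
      unfold Xf
      rw [B_add_left, B_add_left, B_smul_left, B_smul_left, B_self, B_comm v u, huv, mul_zero, mul_zero, add_zero, add_zero]
    have h3 : Xf u v (Xf u v w) = Xf u v w + B w v • u + B w u • v := by
      show Xf u v w + B (Xf u v w) v • u + B (Xf u v w) u • v = _
      rw [h1, h2]
    rw [h3]
    unfold Xf
    funext k
    simp only [Pi.add_apply, Pi.smul_apply, smul_eq_mul]
    have := two (B w v * u k)
    have := two (B w u * v k)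
    linear_combination two (B w v * u k) + two (B w u * v k)
  refine ⟨add, fun w => ?_, fun w hw => ?_⟩
  · unfold Xf
    rw [q_add, q_add, q_smul, q_smul, hu, hv, B_add_left, B_smul_right, B_smul_right, B_smul_right, B_smul_left, huv]
    linear_combination two (B w v * B w u)
  · have := sq w
    rw [hw] at this
    rw [← this]
    have := add 0 0
    rw [add_zero] at this
    simpa using this

/-- the lines fixed by `g` -/
theorem on_of_comm {g : V → V} (h : Iso g) {i j : Fin 8} (hij : j ≠ i) (hij' : j ≠ i + 4)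
    (hc : ∀ w, g (Xf (b i) (b j) w) = Xf (b i) (b j) (g w)) : On i j (g (b i)) := by
  have h1 : Xf (b i) (b j) (b (j + 4)) = b (j + 4) + b i := by
    revert i j
    have : ∀ i j : Fin 8, j ≠ i → j ≠ i + 4 → Xf (b i) (b j) (b (j + 4)) = b (j + 4) + b i := by (delta Cfsg.Agent.StdO8.Dc.Xf Cfsg.Agent.StdO8.Dc.B; set_option synthInstance.maxSize 100000 in exact Cfsg.Agent.Lib.Refl.of (by decide +kernel))
    intro i j h1 h2 _
    exact this i j h1 h2
  have h2 := hc (b (j + 4))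
  rw [h1, h.add] at h2
  intro k hki hkj
  have h3 := congrFun h2 k
  unfold Xf at h3
  simp only [Pi.add_apply, Pi.smul_apply, smul_eq_mul] at h3
  rw [b_apply i k, b_apply j k, if_neg hki, if_neg hkj, mul_zero, mul_zero, add_zero, add_zero] at h3
  exact add_left_cancel (h3.trans (add_zero _).symm)


/-! ### The standard frame -/

/-- The form on images of basis vectors. -/
theorem Iso.Bv {g : V → V} (h : Iso g) (i j : Fin 8) {v : V} (e : g (b j) = v) : B (g (b i)) v = B (b i) (b j) := by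
  rw [← e, h.B_eq]

/-- `w` on the line `⟨b i, b j⟩`. -/
theorem on_eq {g : V → V} (h : Iso g) {i j : Fin 8} (h1 : On i j (g (b i))) (hij : i ≠ j) (h2 : g (b (i + 4)) = b (i + 4)) :
    g (b i) = b i + g (b i) j • b j := by
  have h3 : g (b i) i = 1 := by
    rw [coord (g (b i)) i, h.Bv _ _ h2, B_b, if_pos rfl]
  funext k
  simp only [Pi.add_apply, Pi.smul_apply, b_apply, smul_eq_mul]
  by_cases h4 : k = i
  · rw [if_pos h4, if_neg (fun e => hij (h4 ▸ e)), mul_zero, add_zero, h4, h3]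
  · by_cases h5 : k = j
    · rw [if_neg h4, if_pos h5, zero_add, mul_one, h5]
    · rw [if_neg h4, if_neg h5, mul_zero, add_zero, h1 k h4 h5]

/-- `g` commutes with the root elements of the lines in the list `S`. -/
def Comm (g : V → V) (S : List (Fin 8 × Fin 8)) : Prop := ∀ p ∈ S, ∀ w, g (Xf (b p.1) (b p.2) w) = Xf (b p.1) (b p.2) (g w)

theorem Xf_symm (u v w : V) : Xf u v w = Xf v u w := by
  unfold Xf
  abel

theorem Comm.on {g : V → V} (h : Iso g) {S : List (Fin 8 × Fin 8)} (hc : Comm g S) (i j : Fin 8)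
    (hij : ((i, j) ∈ S ∨ (j, i) ∈ S) ∧ j ≠ i ∧ j ≠ i + 4) : On i j (g (b i)) := by
  obtain ⟨hS, h1, h2⟩ := hij
  rcases hS with hS | hS
  · exact on_of_comm h h1 h2 (fun w => hc (i, j) hS w)
  · refine on_of_comm h h1 h2 fun w => ?_
    have h3 : g (Xf (b j) (b i) w) = Xf (b j) (b i) (g w) := hc (j, i) hS w
    rw [Xf_symm (b i) (b j) w, Xf_symm (b i) (b j) (g w)]
    exact h3

/-- The fixed basis vectors. -/
theorem Comm.fix {g : V → V} (h : Iso g) {S : List (Fin 8 × Fin 8)} (hc : Comm g S) (i j k : Fin 8)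
    (hij : (((i, j) ∈ S ∨ (j, i) ∈ S) ∧ j ≠ i ∧ j ≠ i + 4) ∧ (((i, k) ∈ S ∨ (k, i) ∈ S) ∧ k ≠ i ∧ k ≠ i + 4) ∧ j ≠ k) :
    g (b i) = b i :=
  Dc.fix (hc.on h i j hij.1) (hc.on h i k hij.2.1) hij.2.2 (h.ne i)

theorem aux_one : ∀ i j : ZMod 2, ∀ v : V, (B v (b 0) = 1 ∧ B v (b 1) = 0 ∧ B v (b 2) = 0 ∧ B v (b 3) = 0 ∧
    B v (b 7) = 0 ∧ B v (b 5 + i • b 0) = 0 ∧ B v (b 6 + j • b 0) = 0 ∧ q v = 0) → v = b 4 + i • b 1 + j • b 2 := by
  (delta Cfsg.Agent.StdO8.Dc.B Cfsg.Agent.StdO8.Dc.q; set_option synthInstance.maxSize 100000 in exact Cfsg.Agent.Lib.Refl.of (by decide +kernel))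

/-- The case of collinear roots. -/
theorem core_one {g : V → V} (h : Iso g)
    (hc : Comm g [(0, 1), (0, 2), (0, 3), (0, 7), (0, 5), (0, 6), (1, 2), (1, 3), (1, 7), (2, 3), (2, 7)]) :
    ∃ i j : ZMod 2, g (b 0) = b 0 ∧ g (b 1) = b 1 ∧ g (b 2) = b 2 ∧ g (b 3) = b 3 ∧ g (b 4) = b 4 + i • b 1 + j • b 2 ∧
      g (b 5) = b 5 + i • b 0 ∧ g (b 6) = b 6 + j • b 0 ∧ g (b 7) = b 7 := by
  have w0 := hc.fix h 0 1 2 (by decide)
  have w1 := hc.fix h 1 0 2 (by decide)
  have w2 := hc.fix h 2 0 1 (by decide)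
  have w3 := hc.fix h 3 0 1 (by decide)
  have w7 := hc.fix h 7 0 1 (by decide)
  have w5 := on_eq h (hc.on h 5 0 (by decide)) (by decide) w1
  have w6 := on_eq h (hc.on h 6 0 (by decide)) (by decide) w2
  have w4 := aux_one (g (b 5) 0) (g (b 6) 0) (g (b 4)) ⟨(h.Bv 4 0 w0).trans (by decide), (h.Bv 4 1 w1).trans (by decide),
    (h.Bv 4 2 w2).trans (by decide), (h.Bv 4 3 w3).trans (by decide), (h.Bv 4 7 w7).trans (by decide),
    (h.Bv 4 5 w5).trans (by decide), (h.Bv 4 6 w6).trans (by decide), by rw [h.isom, q_b]⟩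
  exact ⟨_, _, w0, w1, w2, w3, w4, w5, w6, w7⟩

theorem aux_neg : ∀ i j : ZMod 2, ∀ v : V, (B v (b 0) = 1 ∧ B v (b 2) = 0 ∧ B v (b 3) = 0 ∧
    B v (b 7) = 0 ∧ B v (b 1 + j • b 2) = 0 ∧ B v (b 5 + i • b 0) = 0 ∧ q v = 0) → v = b 4 + i • b 1 + v 2 • b 2 := by
  (delta Cfsg.Agent.StdO8.Dc.B Cfsg.Agent.StdO8.Dc.q; set_option synthInstance.maxSize 100000 in exact Cfsg.Agent.Lib.Refl.of (by decide +kernel))

theorem aux_neg' : ∀ i j k : ZMod 2, ∀ v : V, (B v (b 0) = 0 ∧ B v (b 2) = 1 ∧ B v (b 3) = 0 ∧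
    B v (b 7) = 0 ∧ B v (b 1 + j • b 2) = 0 ∧ B v (b 5 + i • b 0) = 0 ∧ B v (b 4 + i • b 1 + k • b 2) = 0 ∧ q v = 0) →
    v = b 6 + j • b 5 + (i * j + k) • b 0 := by
  (delta Cfsg.Agent.StdO8.Dc.B Cfsg.Agent.StdO8.Dc.q; set_option synthInstance.maxSize 100000 in exact Cfsg.Agent.Lib.Refl.of (by decide +kernel))

/-- The case of special pairs. -/
theorem core_neg {g : V → V} (h : Iso g) (hc : Comm g [(0, 5), (0, 2), (0, 3), (0, 7), (1, 2), (2, 3), (2, 7)]) :
    ∃ i j k : ZMod 2, g (b 0) = b 0 ∧ g (b 1) = b 1 + j • b 2 ∧ g (b 2) = b 2 ∧ g (b 3) = b 3 ∧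
      g (b 4) = b 4 + i • b 1 + k • b 2 ∧ g (b 5) = b 5 + i • b 0 ∧ g (b 6) = b 6 + j • b 5 + (i * j + k) • b 0 ∧
      g (b 7) = b 7 := by
  have w0 := hc.fix h 0 5 2 (by decide)
  have w2 := hc.fix h 2 0 1 (by decide)
  have w3 := hc.fix h 3 0 2 (by decide)
  have w7 := hc.fix h 7 0 2 (by decide)
  have l1 := hc.on h 1 2 (by decide)
  have l5 := hc.on h 5 0 (by decide)
  -- the pair `1, 5`
  have e : g (b 1) 1 * g (b 5) 5 = 1 := by
    have h1 := h.B_eq (b 1) (b 5)
    have h2 : B (g (b 1)) (g (b 5)) = g (b 1) 1 * g (b 5) 5 := by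
      unfold B
      rw [l1 0 (by decide) (by decide), l1 3 (by decide) (by decide), l1 4 (by decide) (by decide), l1 5 (by decide) (by decide),
        l1 6 (by decide) (by decide), l1 7 (by decide) (by decide), l5 6 (by decide) (by decide)]
      ring
    rw [← h2, h1]
    decide
  have e2 : ∀ x y : ZMod 2, x * y = 1 → x = 1 ∧ y = 1 := by decide
  obtain ⟨e1, e5⟩ := e2 _ _ e
  have w1 : g (b 1) = b 1 + g (b 1) 2 • b 2 := by
    funext k
    simp only [Pi.add_apply, Pi.smul_apply, b_apply, smul_eq_mul]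
    by_cases h4 : k = 1
    · rw [if_pos h4, if_neg (fun e => absurd (h4 ▸ e) (by decide)), mul_zero, add_zero, h4, e1]
    · by_cases h5 : k = 2
      · rw [if_neg h4, if_pos h5, zero_add, mul_one, h5]
      · rw [if_neg h4, if_neg h5, mul_zero, add_zero, l1 k h4 h5]
  have w5 : g (b 5) = b 5 + g (b 5) 0 • b 0 := by
    funext k
    simp only [Pi.add_apply, Pi.smul_apply, b_apply, smul_eq_mul]
    by_cases h4 : k = 5
    · rw [if_pos h4, if_neg (fun e => absurd (h4 ▸ e) (by decide)), mul_zero, add_zero, h4, e5]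
    · by_cases h5 : k = 0
      · rw [if_neg h4, if_pos h5, zero_add, mul_one, h5]
      · rw [if_neg h4, if_neg h5, mul_zero, add_zero, l5 k h4 h5]
  have w4 := aux_neg (g (b 5) 0) (g (b 1) 2) (g (b 4)) ⟨(h.Bv 4 0 w0).trans (by decide),
    (h.Bv 4 2 w2).trans (by decide), (h.Bv 4 3 w3).trans (by decide), (h.Bv 4 7 w7).trans (by decide),
    (h.Bv 4 1 w1).trans (by decide), (h.Bv 4 5 w5).trans (by decide), by rw [h.isom, q_b]⟩
  have w6 := aux_neg' (g (b 5) 0) (g (b 1) 2) (g (b 4) 2) (g (b 6)) ⟨(h.Bv 6 0 w0).trans (by decide),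
    (h.Bv 6 2 w2).trans (by decide), (h.Bv 6 3 w3).trans (by decide), (h.Bv 6 7 w7).trans (by decide),
    (h.Bv 6 1 w1).trans (by decide), (h.Bv 6 5 w5).trans (by decide), (h.Bv 6 4 w4).trans (by decide), by rw [h.isom, q_b]⟩
  exact ⟨_, _, _, w0, w1, w2, w3, w4, w5, w6, w7⟩

theorem aux_orth : ∀ i j : ZMod 2, ∀ v : V, (B v (b 0) = 1 ∧ B v (b 2) = 0 ∧ B v (b 3) = 0 ∧ B v (b 6) = 0 ∧
    B v (b 7) = 0 ∧ B v (b 1 + j • b 0) = 0 ∧ B v (b 5 + i • b 0) = 0 ∧ q v = 0) →
    v = b 4 + i • b 1 + j • b 5 + (i * j) • b 0 := by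
  (delta Cfsg.Agent.StdO8.Dc.B Cfsg.Agent.StdO8.Dc.q; set_option synthInstance.maxSize 100000 in exact Cfsg.Agent.Lib.Refl.of (by decide +kernel))

/-- The case of orthogonal pairs of the first kind. -/
theorem core_orth {g : V → V} (h : Iso g)
    (hc : Comm g [(0, 1), (0, 5), (0, 2), (0, 6), (0, 3), (0, 7), (2, 3), (2, 7), (6, 3), (6, 7)]) :
    ∃ i j : ZMod 2, g (b 0) = b 0 ∧ g (b 1) = b 1 + j • b 0 ∧ g (b 2) = b 2 ∧ g (b 3) = b 3 ∧
      g (b 4) = b 4 + i • b 1 + j • b 5 + (i * j) • b 0 ∧ g (b 5) = b 5 + i • b 0 ∧ g (b 6) = b 6 ∧ g (b 7) = b 7 := by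
  have w0 := hc.fix h 0 1 2 (by decide)
  have w2 := hc.fix h 2 0 3 (by decide)
  have w3 := hc.fix h 3 0 2 (by decide)
  have w6 := hc.fix h 6 0 3 (by decide)
  have w7 := hc.fix h 7 0 2 (by decide)
  have l1 := hc.on h 1 0 (by decide)
  have l5 := hc.on h 5 0 (by decide)
  have e : g (b 1) 1 * g (b 5) 5 = 1 := by
    have h1 := h.B_eq (b 1) (b 5)
    have h2 : B (g (b 1)) (g (b 5)) = g (b 1) 1 * g (b 5) 5 := by
      unfold B
      rw [l1 2 (by decide) (by decide), l1 3 (by decide) (by decide), l1 4 (by decide) (by decide), l1 5 (by decide) (by decide),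
        l1 6 (by decide) (by decide), l1 7 (by decide) (by decide), l5 4 (by decide) (by decide)]
      ring
    rw [← h2, h1]
    decide
  have e2 : ∀ x y : ZMod 2, x * y = 1 → x = 1 ∧ y = 1 := by decide
  obtain ⟨e1, e5⟩ := e2 _ _ e
  have w1 : g (b 1) = b 1 + g (b 1) 0 • b 0 := by
    funext k
    simp only [Pi.add_apply, Pi.smul_apply, b_apply, smul_eq_mul]
    by_cases h4 : k = 1
    · rw [if_pos h4, if_neg (fun e => absurd (h4 ▸ e) (by decide)), mul_zero, add_zero, h4, e1]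
    · by_cases h5 : k = 0
      · rw [if_neg h4, if_pos h5, zero_add, mul_one, h5]
      · rw [if_neg h4, if_neg h5, mul_zero, add_zero, l1 k h4 h5]
  have w5 : g (b 5) = b 5 + g (b 5) 0 • b 0 := by
    funext k
    simp only [Pi.add_apply, Pi.smul_apply, b_apply, smul_eq_mul]
    by_cases h4 : k = 5
    · rw [if_pos h4, if_neg (fun e => absurd (h4 ▸ e) (by decide)), mul_zero, add_zero, h4, e5]
    · by_cases h5 : k = 0
      · rw [if_neg h4, if_pos h5, zero_add, mul_one, h5]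
      · rw [if_neg h4, if_neg h5, mul_zero, add_zero, l5 k h4 h5]
  have w4 := aux_orth (g (b 5) 0) (g (b 1) 0) (g (b 4)) ⟨(h.Bv 4 0 w0).trans (by decide),
    (h.Bv 4 2 w2).trans (by decide), (h.Bv 4 3 w3).trans (by decide), (h.Bv 4 6 w6).trans (by decide),
    (h.Bv 4 7 w7).trans (by decide), (h.Bv 4 1 w1).trans (by decide), (h.Bv 4 5 w5).trans (by decide), by rw [h.isom, q_b]⟩
  exact ⟨_, _, w0, w1, w2, w3, w4, w5, w6, w7⟩

/-- The case of orthogonal pairs of the second kind. -/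
theorem core_orth' {g : V → V} (h : Iso g)
    (hc : Comm g [(0, 1), (0, 2), (0, 3), (1, 2), (1, 3), (2, 3), (0, 5), (1, 4), (2, 7), (3, 6)]) :
    ∃ i j : ZMod 2, g (b 0) = b 0 ∧ g (b 1) = b 1 ∧ g (b 2) = b 2 ∧ g (b 3) = b 3 ∧
      g (b 4) = b 4 + i • b 1 ∧ g (b 5) = b 5 + i • b 0 ∧ g (b 6) = b 6 + j • b 3 ∧ g (b 7) = b 7 + j • b 2 := by
  have w0 := hc.fix h 0 1 2 (by decide)
  have w1 := hc.fix h 1 0 2 (by decide)
  have w2 := hc.fix h 2 0 1 (by decide)
  have w3 := hc.fix h 3 0 1 (by decide)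
  have w4 := on_eq h (hc.on h 4 1 (by decide)) (by decide) w0
  have w5 := on_eq h (hc.on h 5 0 (by decide)) (by decide) w1
  have w6 := on_eq h (hc.on h 6 3 (by decide)) (by decide) w2
  have w7 := on_eq h (hc.on h 7 2 (by decide)) (by decide) w3
  have e1 : ∀ x y : ZMod 2, B (b 4 + x • b 1) (b 5 + y • b 0) = 0 → x = y := by decide
  have e2 : ∀ x y : ZMod 2, B (b 6 + x • b 3) (b 7 + y • b 2) = 0 → x = y := by decide
  have e3 := e1 (g (b 4) 1) (g (b 5) 0) (by rw [← w4, ← w5, h.B_eq]; decide)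
  have e4 := e2 (g (b 6) 3) (g (b 7) 2) (by rw [← w6, ← w7, h.B_eq]; decide)
  refine ⟨g (b 4) 1, g (b 6) 3, w0, w1, w2, w3, w4, ?_, w6, ?_⟩
  · rw [e3]; exact w5
  · rw [e4]; exact w7

/-! ### Products of root elements -/

/-- The power `i` of the root element. -/
def Xp (i : ZMod 2) (u v w : V) : V := w + i • (B w v • u + B w u • v)

theorem Xp_zero (u v w : V) : Xp 0 u v w = w := by
  unfold Xp
  rw [zero_smul, add_zero]

theorem Xp_one (u v w : V) : Xp 1 u v w = Xf u v w := by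
  unfold Xp Xf
  rw [one_smul, add_assoc]

theorem zmod_cases (i : ZMod 2) : i = 0 ∨ i = 1 := by
  revert i
  decide

theorem iso_Xp (i : ZMod 2) {u v : V} (hu : q u = 0) (hv : q v = 0) (huv : B u v = 0) : Iso (Xp i u v) := by
  rcases zmod_cases i with rfl | rfl
  · rw [show Xp 0 u v = fun w => w from funext fun w => Xp_zero u v w]
    exact iso_id
  · rw [show Xp 1 u v = Xf u v from funext fun w => Xp_one u v w]
    exact iso_Xf hu hv huv

theorem Iso.Xp_eq {g : V → V} (h : Iso g) (i : ZMod 2) (u v w : V) : g (Xp i u v w) = Xp i (g u) (g v) (g w) := by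
  unfold Xp
  rw [h.add, h.smul, h.add, h.smul, h.smul, h.B_eq, h.B_eq]

theorem iso_Xp_b (k : ZMod 2) (i j : Fin 8) (hij : j ≠ i + 4) : Iso (Xp k (b i) (b j)) :=
  iso_Xp k (q_b i) (q_b j) (by rw [B_b, if_neg hij])

theorem std_one {g : V → V} (h : Iso g)
    (hc : Comm g [(0, 1), (0, 2), (0, 3), (0, 7), (0, 5), (0, 6), (1, 2), (1, 3), (1, 7), (2, 3), (2, 7)]) :
    ∃ i j : ZMod 2, ∀ w, g w = Xp i (b 0) (b 1) (Xp j (b 0) (b 2) w) := by
  obtain ⟨i, j, w0, w1, w2, w3, w4, w5, w6, w7⟩ := core_one h hc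
  refine ⟨i, j, h.ext ((iso_Xp_b i 0 1 (by decide)).comp (iso_Xp_b j 0 2 (by decide))) fun k => ?_⟩
  have e0 : ∀ i j : ZMod 2, b 0 = Xp i (b 0) (b 1) (Xp j (b 0) (b 2) (b 0)) := by decide +kernel
  have e1 : ∀ i j : ZMod 2, b 1 = Xp i (b 0) (b 1) (Xp j (b 0) (b 2) (b 1)) := by decide +kernel
  have e2 : ∀ i j : ZMod 2, b 2 = Xp i (b 0) (b 1) (Xp j (b 0) (b 2) (b 2)) := by decide +kernel
  have e3 : ∀ i j : ZMod 2, b 3 = Xp i (b 0) (b 1) (Xp j (b 0) (b 2) (b 3)) := by decide +kernel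
  have e4 : ∀ i j : ZMod 2, b 4 + i • b 1 + j • b 2 = Xp i (b 0) (b 1) (Xp j (b 0) (b 2) (b 4)) := by decide +kernel
  have e5 : ∀ i j : ZMod 2, b 5 + i • b 0 = Xp i (b 0) (b 1) (Xp j (b 0) (b 2) (b 5)) := by decide +kernel
  have e6 : ∀ i j : ZMod 2, b 6 + j • b 0 = Xp i (b 0) (b 1) (Xp j (b 0) (b 2) (b 6)) := by decide +kernel
  have e7 : ∀ i j : ZMod 2, b 7 = Xp i (b 0) (b 1) (Xp j (b 0) (b 2) (b 7)) := by decide +kernel
  fin_cases k
  · exact w0.trans (e0 i j)
  · exact w1.trans (e1 i j)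
  · exact w2.trans (e2 i j)
  · exact w3.trans (e3 i j)
  · exact w4.trans (e4 i j)
  · exact w5.trans (e5 i j)
  · exact w6.trans (e6 i j)
  · exact w7.trans (e7 i j)

theorem std_neg {g : V → V} (h : Iso g) (hc : Comm g [(0, 5), (0, 2), (0, 3), (0, 7), (1, 2), (2, 3), (2, 7)]) :
    ∃ i j k : ZMod 2, ∀ w, g w = Xp i (b 0) (b 1) (Xp j (b 5) (b 2) (Xp k (b 0) (b 2) w)) := by
  obtain ⟨i, j, k, w0, w1, w2, w3, w4, w5, w6, w7⟩ := core_neg h hc
  refine ⟨i, j, k, h.ext ((iso_Xp_b i 0 1 (by decide)).comp ((iso_Xp_b j 5 2 (by decide)).comp (iso_Xp_b k 0 2 (by decide))))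
    fun l => ?_⟩
  have e0 : ∀ i j k : ZMod 2, b 0 = Xp i (b 0) (b 1) (Xp j (b 5) (b 2) (Xp k (b 0) (b 2) (b 0))) := by decide +kernel
  have e1 : ∀ i j k : ZMod 2, b 1 + j • b 2 = Xp i (b 0) (b 1) (Xp j (b 5) (b 2) (Xp k (b 0) (b 2) (b 1))) := by decide +kernel
  have e2 : ∀ i j k : ZMod 2, b 2 = Xp i (b 0) (b 1) (Xp j (b 5) (b 2) (Xp k (b 0) (b 2) (b 2))) := by decide +kernel
  have e3 : ∀ i j k : ZMod 2, b 3 = Xp i (b 0) (b 1) (Xp j (b 5) (b 2) (Xp k (b 0) (b 2) (b 3))) := by decide +kernel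
  have e4 : ∀ i j k : ZMod 2, b 4 + i • b 1 + k • b 2 = Xp i (b 0) (b 1) (Xp j (b 5) (b 2) (Xp k (b 0) (b 2) (b 4))) := by
    decide +kernel
  have e5 : ∀ i j k : ZMod 2, b 5 + i • b 0 = Xp i (b 0) (b 1) (Xp j (b 5) (b 2) (Xp k (b 0) (b 2) (b 5))) := by decide +kernel
  have e6 : ∀ i j k : ZMod 2, b 6 + j • b 5 + (i * j + k) • b 0 =
      Xp i (b 0) (b 1) (Xp j (b 5) (b 2) (Xp k (b 0) (b 2) (b 6))) := by decide +kernel
  have e7 : ∀ i j k : ZMod 2, b 7 = Xp i (b 0) (b 1) (Xp j (b 5) (b 2) (Xp k (b 0) (b 2) (b 7))) := by decide +kernel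
  fin_cases l
  · exact w0.trans (e0 i j k)
  · exact w1.trans (e1 i j k)
  · exact w2.trans (e2 i j k)
  · exact w3.trans (e3 i j k)
  · exact w4.trans (e4 i j k)
  · exact w5.trans (e5 i j k)
  · exact w6.trans (e6 i j k)
  · exact w7.trans (e7 i j k)

theorem std_orth {g : V → V} (h : Iso g)
    (hc : Comm g [(0, 1), (0, 5), (0, 2), (0, 6), (0, 3), (0, 7), (2, 3), (2, 7), (6, 3), (6, 7)]) :
    ∃ i j : ZMod 2, ∀ w, g w = Xp i (b 0) (b 1) (Xp j (b 0) (b 5) w) := by
  obtain ⟨i, j, w0, w1, w2, w3, w4, w5, w6, w7⟩ := core_orth h hc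
  refine ⟨i, j, h.ext ((iso_Xp_b i 0 1 (by decide)).comp (iso_Xp_b j 0 5 (by decide))) fun k => ?_⟩
  have e0 : ∀ i j : ZMod 2, b 0 = Xp i (b 0) (b 1) (Xp j (b 0) (b 5) (b 0)) := by decide +kernel
  have e1 : ∀ i j : ZMod 2, b 1 + j • b 0 = Xp i (b 0) (b 1) (Xp j (b 0) (b 5) (b 1)) := by decide +kernel
  have e2 : ∀ i j : ZMod 2, b 2 = Xp i (b 0) (b 1) (Xp j (b 0) (b 5) (b 2)) := by decide +kernel
  have e3 : ∀ i j : ZMod 2, b 3 = Xp i (b 0) (b 1) (Xp j (b 0) (b 5) (b 3)) := by decide +kernel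
  have e4 : ∀ i j : ZMod 2, b 4 + i • b 1 + j • b 5 + (i * j) • b 0 = Xp i (b 0) (b 1) (Xp j (b 0) (b 5) (b 4)) := by decide +kernel
  have e5 : ∀ i j : ZMod 2, b 5 + i • b 0 = Xp i (b 0) (b 1) (Xp j (b 0) (b 5) (b 5)) := by decide +kernel
  have e6 : ∀ i j : ZMod 2, b 6 = Xp i (b 0) (b 1) (Xp j (b 0) (b 5) (b 6)) := by decide +kernel
  have e7 : ∀ i j : ZMod 2, b 7 = Xp i (b 0) (b 1) (Xp j (b 0) (b 5) (b 7)) := by decide +kernel
  fin_cases k
  · exact w0.trans (e0 i j)
  · exact w1.trans (e1 i j)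
  · exact w2.trans (e2 i j)
  · exact w3.trans (e3 i j)
  · exact w4.trans (e4 i j)
  · exact w5.trans (e5 i j)
  · exact w6.trans (e6 i j)
  · exact w7.trans (e7 i j)

theorem std_orth' {g : V → V} (h : Iso g)
    (hc : Comm g [(0, 1), (0, 2), (0, 3), (1, 2), (1, 3), (2, 3), (0, 5), (1, 4), (2, 7), (3, 6)]) :
    ∃ i j : ZMod 2, ∀ w, g w = Xp i (b 0) (b 1) (Xp j (b 2) (b 3) w) := by
  obtain ⟨i, j, w0, w1, w2, w3, w4, w5, w6, w7⟩ := core_orth' h hc
  refine ⟨i, j, h.ext ((iso_Xp_b i 0 1 (by decide)).comp (iso_Xp_b j 2 3 (by decide))) fun k => ?_⟩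
  have e0 : ∀ i j : ZMod 2, b 0 = Xp i (b 0) (b 1) (Xp j (b 2) (b 3) (b 0)) := by decide +kernel
  have e1 : ∀ i j : ZMod 2, b 1 = Xp i (b 0) (b 1) (Xp j (b 2) (b 3) (b 1)) := by decide +kernel
  have e2 : ∀ i j : ZMod 2, b 2 = Xp i (b 0) (b 1) (Xp j (b 2) (b 3) (b 2)) := by decide +kernel
  have e3 : ∀ i j : ZMod 2, b 3 = Xp i (b 0) (b 1) (Xp j (b 2) (b 3) (b 3)) := by decide +kernel
  have e4 : ∀ i j : ZMod 2, b 4 + i • b 1 = Xp i (b 0) (b 1) (Xp j (b 2) (b 3) (b 4)) := by decide +kernel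
  have e5 : ∀ i j : ZMod 2, b 5 + i • b 0 = Xp i (b 0) (b 1) (Xp j (b 2) (b 3) (b 5)) := by decide +kernel
  have e6 : ∀ i j : ZMod 2, b 6 + j • b 3 = Xp i (b 0) (b 1) (Xp j (b 2) (b 3) (b 6)) := by decide +kernel
  have e7 : ∀ i j : ZMod 2, b 7 + j • b 2 = Xp i (b 0) (b 1) (Xp j (b 2) (b 3) (b 7)) := by decide +kernel
  fin_cases k
  · exact w0.trans (e0 i j)
  · exact w1.trans (e1 i j)
  · exact w2.trans (e2 i j)
  · exact w3.trans (e3 i j)
  · exact w4.trans (e4 i j)
  · exact w5.trans (e5 i j)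
  · exact w6.trans (e6 i j)
  · exact w7.trans (e7 i j)

/-! ### Arbitrary frames -/

/-- A frame: a permutation of the basis which respects the hyperbolic pairs. -/
structure Frame (φ : Equiv.Perm (Fin 8)) : Prop where
  bar : ∀ i, φ (i + 4) = φ i + 4

/-- The permutation of the coordinates. -/
def P (φ : Equiv.Perm (Fin 8)) (v : V) : V := fun i => v (φ.symm i)

theorem P_b (φ : Equiv.Perm (Fin 8)) (i : Fin 8) : P φ (b i) = b (φ i) := by
  funext k
  show b i (φ.symm k) = b (φ i) k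
  rw [b_apply, b_apply]
  congr 1
  exact propext ⟨fun h => by rw [← h, Equiv.apply_symm_apply], fun h => by rw [h, Equiv.symm_apply_apply]⟩

theorem P_symm (φ : Equiv.Perm (Fin 8)) (v : V) : P φ (P φ.symm v) = v := by
  funext k
  show v (φ.symm.symm (φ.symm k)) = v k
  rw [Equiv.symm_symm, Equiv.apply_symm_apply]

theorem P_symm' (φ : Equiv.Perm (Fin 8)) (v : V) : P φ.symm (P φ v) = v := by
  have := P_symm φ.symm v
  rwa [Equiv.symm_symm] at this

/-- the index modulo 4 -/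
def c (i : Fin 4) : Fin 8 := ⟨i, by omega⟩

theorem q_sum (v : V) : q v = ∑ i : Fin 4, v (c i) * v (c i + 4) := by
  rw [Fin.sum_univ_four]
  rfl

def md (i : Fin 8) : Fin 4 := ⟨i % 4, Nat.mod_lt _ (by norm_num)⟩

theorem c_md (i : Fin 8) : c (md i) = i ∨ c (md i) = i + 4 := by
  revert i
  decide

theorem add_four (i : Fin 8) : i + 4 + 4 = i := by
  revert i
  decide

theorem val_md (v : V) (i : Fin 8) : v (c (md i)) * v (c (md i) + 4) = v i * v (i + 4) := by
  rcases c_md i with h | h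
  · rw [h]
  · rw [h, add_four, mul_comm]

theorem c_inj {i j : Fin 4} (h : c i = c j) : i = j := by
  revert i j
  decide

theorem c_ne (i j : Fin 4) : c i ≠ c j + 4 := by
  revert i j
  decide

theorem Frame.symm {φ : Equiv.Perm (Fin 8)} (h : Frame φ) : Frame φ.symm where
  bar := fun i => by
    apply φ.injective
    rw [Equiv.apply_symm_apply, h.bar, Equiv.apply_symm_apply]

theorem Frame.iso {φ : Equiv.Perm (Fin 8)} (h : Frame φ) : Iso (P φ) where
  add := fun _ _ => rfl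
  inj := fun v hv => by
    have := P_symm' φ v
    rw [hv] at this
    rw [← this]
    rfl
  isom := fun v => by
    have hs := h.symm
    let σ : Fin 4 → Fin 4 := fun i => md (φ.symm (c i))
    have hσ : Function.Injective σ := by
      intro i j hij
      have e1 : c (md (φ.symm (c i))) = c (md (φ.symm (c j))) := congrArg c hij
      rcases c_md (φ.symm (c i)) with h1 | h1 <;> rcases c_md (φ.symm (c j)) with h2 | h2 <;> rw [h1, h2] at e1
      · exact c_inj (φ.symm.injective e1)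
      · rw [← hs.bar] at e1
        exact absurd (φ.symm.injective e1) (c_ne i j)
      · rw [← hs.bar] at e1
        exact absurd (φ.symm.injective e1).symm (c_ne j i)
      · rw [← hs.bar, ← hs.bar] at e1
        have e2 := congrArg (· + 4) (φ.symm.injective e1)
        simp only [add_four] at e2
        exact c_inj e2
    have hb : Function.Bijective σ := Finite.injective_iff_bijective.1 hσ
    rw [q_sum, q_sum]
    rw [← hb.sum_comp fun i => v (c i) * v (c i + 4)]
    refine Finset.sum_congr rfl fun i _ => ?_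
    show v (φ.symm (c i)) * v (φ.symm (c i + 4)) = v (c (md (φ.symm (c i)))) * v (c (md (φ.symm (c i))) + 4)
    rw [val_md, hs.bar]

/-- transport of the hypothesis -/
theorem Comm.conj {φ : Equiv.Perm (Fin 8)} (hφ : Frame φ) {g : V → V} {S : List (Fin 8 × Fin 8)}
    (hc : Comm g (S.map fun p => (φ p.1, φ p.2))) : Comm (fun v => P φ.symm (g (P φ v))) S := by
  intro p hp w
  have h1 : g (Xf (b (φ p.1)) (b (φ p.2)) (P φ w)) = Xf (b (φ p.1)) (b (φ p.2)) (g (P φ w)) :=
    hc (φ p.1, φ p.2) (List.mem_map.2 ⟨p, hp, rfl⟩) (P φ w)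
  show P φ.symm (g (P φ (Xf (b p.1) (b p.2) w))) = Xf (b p.1) (b p.2) (P φ.symm (g (P φ w)))
  rw [hφ.iso.Xf_eq, P_b, P_b, h1, hφ.symm.iso.Xf_eq, P_b, P_b, Equiv.symm_apply_apply, Equiv.symm_apply_apply]

theorem dc_one {φ : Equiv.Perm (Fin 8)} (hφ : Frame φ) {g : V → V} (h : Iso g)
    (hc : Comm g ([(0, 1), (0, 2), (0, 3), (0, 7), (0, 5), (0, 6), (1, 2), (1, 3), (1, 7), (2, 3), (2, 7)].map
      fun p => (φ p.1, φ p.2))) :
    ∃ i j : ZMod 2, ∀ w, g w = Xp i (b (φ 0)) (b (φ 1)) (Xp j (b (φ 0)) (b (φ 2)) w) := by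
  obtain ⟨i, j, e⟩ := std_one (hφ.symm.iso.comp (h.comp hφ.iso)) (hc.conj hφ)
  refine ⟨i, j, fun w => ?_⟩
  have e1 := congrArg (P φ) (e (P φ.symm w))
  simp only [P_symm] at e1
  rw [e1, hφ.iso.Xp_eq, hφ.iso.Xp_eq, P_b, P_b, P_b, P_symm]

theorem dc_neg {φ : Equiv.Perm (Fin 8)} (hφ : Frame φ) {g : V → V} (h : Iso g)
    (hc : Comm g ([(0, 5), (0, 2), (0, 3), (0, 7), (1, 2), (2, 3), (2, 7)].map fun p => (φ p.1, φ p.2))) :
    ∃ i j k : ZMod 2, ∀ w, g w = Xp i (b (φ 0)) (b (φ 1)) (Xp j (b (φ 5)) (b (φ 2)) (Xp k (b (φ 0)) (b (φ 2)) w)) := by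
  obtain ⟨i, j, k, e⟩ := std_neg (hφ.symm.iso.comp (h.comp hφ.iso)) (hc.conj hφ)
  refine ⟨i, j, k, fun w => ?_⟩
  have e1 := congrArg (P φ) (e (P φ.symm w))
  simp only [P_symm] at e1
  rw [e1, hφ.iso.Xp_eq, hφ.iso.Xp_eq, hφ.iso.Xp_eq, P_b, P_b, P_b, P_b, P_symm]

theorem dc_orth {φ : Equiv.Perm (Fin 8)} (hφ : Frame φ) {g : V → V} (h : Iso g)
    (hc : Comm g ([(0, 1), (0, 5), (0, 2), (0, 6), (0, 3), (0, 7), (2, 3), (2, 7), (6, 3), (6, 7)].map
      fun p => (φ p.1, φ p.2))) :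
    ∃ i j : ZMod 2, ∀ w, g w = Xp i (b (φ 0)) (b (φ 1)) (Xp j (b (φ 0)) (b (φ 5)) w) := by
  obtain ⟨i, j, e⟩ := std_orth (hφ.symm.iso.comp (h.comp hφ.iso)) (hc.conj hφ)
  refine ⟨i, j, fun w => ?_⟩
  have e1 := congrArg (P φ) (e (P φ.symm w))
  simp only [P_symm] at e1
  rw [e1, hφ.iso.Xp_eq, hφ.iso.Xp_eq, P_b, P_b, P_b, P_symm]

theorem dc_orth' {φ : Equiv.Perm (Fin 8)} (hφ : Frame φ) {g : V → V} (h : Iso g)
    (hc : Comm g ([(0, 1), (0, 2), (0, 3), (1, 2), (1, 3), (2, 3), (0, 5), (1, 4), (2, 7), (3, 6)].map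
      fun p => (φ p.1, φ p.2))) :
    ∃ i j : ZMod 2, ∀ w, g w = Xp i (b (φ 0)) (b (φ 1)) (Xp j (b (φ 2)) (b (φ 3)) w) := by
  obtain ⟨i, j, e⟩ := std_orth' (hφ.symm.iso.comp (h.comp hφ.iso)) (hc.conj hφ)
  refine ⟨i, j, fun w => ?_⟩
  have e1 := congrArg (P φ) (e (P φ.symm w))
  simp only [P_symm] at e1
  rw [e1, hφ.iso.Xp_eq, hφ.iso.Xp_eq, P_b, P_b, P_b, P_b, P_symm]

end Cfsg.Agent.StdO8.Dc
end

-- part: StdO8/Bas
section
/-!
# The root elements of the standard frame of `Ω₈⁺(2)`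

`bv i` (`i : Fin 8`) the standard basis of the natural module, `wt i` the weight of `bv i` in `ℤ⁴`, `xO r` the root element of the
root `r` of `D4` (the line `⟨bv i, bv j⟩` with `wt i + wt j = r`).
-/

set_option autoImplicit false

namespace Cfsg.Agent.StdO8.Bas

open Cfsg.Agent.StdO8.Model (V q B X O8 Om)
open Cfsg.Agent.StdO8.D4Root (E ip roots Φ)

/-! ### Coordinates -/

/-- The index set of the basis. -/
def ix : Fin 8 ≃ Fin 4 ⊕ Fin 4 := (finSumFinEquiv (m := 4) (n := 4)).symm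

/-- Coordinates. -/
def toD (v : V) : Dc.V := fun i => v (ix i)

/-- The inverse of `toD`. -/
def ofD (v : Dc.V) : V := fun i => v (ix.symm i)

theorem toD_ofD (v : Dc.V) : toD (ofD v) = v := by
  funext i
  show v (ix.symm (ix i)) = v i
  rw [Equiv.symm_apply_apply]

theorem ofD_toD (v : V) : ofD (toD v) = v := by
  funext i
  show v (ix (ix.symm i)) = v i
  rw [Equiv.apply_symm_apply]

theorem toD_add (v w : V) : toD (v + w) = toD v + toD w := rfl

theorem ofD_add (v w : Dc.V) : ofD (v + w) = ofD v + ofD w := rfl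

theorem toD_smul (a : ZMod 2) (w : V) : toD (a • w) = a • toD w := rfl

theorem q_toD (v : V) : Dc.q (toD v) = q v := by
  rw [Model.q_apply, Fin.sum_univ_four]
  rfl

theorem B_toD (v w : V) : Dc.B (toD v) (toD w) = B v w := by
  have h1 := Dc.q_add (toD v) (toD w)
  rw [← toD_add, q_toD, q_toD, q_toD, Model.q_add] at h1
  exact (add_left_cancel h1).symm

/-- The standard basis. -/
def bv (i : Fin 8) : V := ofD (Dc.b i)

theorem toD_bv (i : Fin 8) : toD (bv i) = Dc.b i := toD_ofD _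

theorem q_bv (i : Fin 8) : q (bv i) = 0 := by rw [← q_toD, toD_bv, Dc.q_b]

theorem B_bv (i j : Fin 8) : B (bv i) (bv j) = if j = i + 4 then 1 else 0 := by
  rw [← B_toD, toD_bv, toD_bv, Dc.B_b]

theorem bv_ne (i : Fin 8) : bv i ≠ 0 := fun h => by
  have h1 : Dc.b i = 0 := by rw [← toD_bv, h]; rfl
  have h2 := congrFun h1 i
  rw [Dc.b_apply, if_pos rfl] at h2
  exact absurd (show (1 : ZMod 2) = 0 from h2) (by decide)

/-- The action of an endomorphism in coordinates. -/
def th (g : V ≃ₗ[ZMod 2] V) (v : Dc.V) : Dc.V := toD (g (ofD v))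

theorem th_mul (g h : V ≃ₗ[ZMod 2] V) (v : Dc.V) : th (g * h) v = th g (th h v) := by
  unfold th
  rw [ofD_toD]
  rfl

theorem th_one (v : Dc.V) : th 1 v = v := toD_ofD v

theorem th_inj {g h : V ≃ₗ[ZMod 2] V} (e : ∀ v, th g v = th h v) : g = h := by
  ext v : 1
  have := e (toD v)
  unfold th at this
  rw [ofD_toD] at this
  have h2 := congrArg ofD this
  rwa [ofD_toD, ofD_toD] at h2

theorem th_iso {g : V ≃ₗ[ZMod 2] V} (hg : g ∈ O8) : Dc.Iso (th g) where
  add := fun v w => by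
    unfold th
    rw [ofD_add, map_add, toD_add]
  isom := fun v => by
    unfold th
    rw [q_toD, Model.O8_q hg, ← q_toD, toD_ofD]
  inj := fun v hv => by
    have h1 : g (ofD v) = 0 := by
      rw [← ofD_toD (g (ofD v))]
      show ofD (th g v) = 0
      rw [hv]; rfl
    have h2 : ofD v = 0 := g.map_eq_zero_iff.1 h1
    rw [← toD_ofD v, h2]; rfl

theorem th_X {u w : V} (hu : q u = 0) (hq : q w = 0) (h : B u w = 0) (v : Dc.V) :
    th (X u w) v = Dc.Xf (toD u) (toD w) v := by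
  unfold th
  rw [Model.X_apply hu hq h, toD_add, toD_add, toD_smul, toD_smul, toD_ofD, ← B_toD, ← B_toD, toD_ofD]
  unfold Dc.Xf
  rw [Dc.B_comm v (toD w), Dc.B_comm v (toD u)]
  abel

/-! ### Pairs of basis vectors -/

/-- The two basis vectors span a totally singular line. -/
abbrev ok (i j : Fin 8) : Prop := j ≠ i ∧ j ≠ i + 4

theorem ok_symm {i j : Fin 8} (h : ok i j) : ok j i := by
  revert i j
  decide

/-- The root element of the line `⟨bv i, bv j⟩`. -/
noncomputable def xb (i j : Fin 8) : V ≃ₗ[ZMod 2] V := X (bv i) (bv j)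

theorem B_ok {i j : Fin 8} (h : ok i j) : B (bv i) (bv j) = 0 := by rw [B_bv, if_neg h.2]

theorem th_xb {i j : Fin 8} (h : ok i j) (v : Dc.V) : th (xb i j) v = Dc.Xf (Dc.b i) (Dc.b j) v := by
  unfold xb
  rw [th_X (q_bv i) (q_bv j) (B_ok h), toD_bv, toD_bv]

theorem xb_symm (i j : Fin 8) : xb i j = xb j i := Model.X_comm (q_bv i) (q_bv j)

theorem xb_sq (i j : Fin 8) : xb i j * xb i j = 1 := Model.X_mul_self _ _

theorem xb_mem (i j : Fin 8) : xb i j ∈ Om := Model.X_mem _ _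

theorem xb_mem_O8 (i j : Fin 8) : xb i j ∈ O8 := Model.X_mem_O8 _ _

theorem xb_apply {i j : Fin 8} (h : ok i j) (k : Fin 8) :
    xb i j (bv k) = bv k + (if k = i + 4 then (1 : ZMod 2) else 0) • bv j + (if k = j + 4 then (1 : ZMod 2) else 0) • bv i := by
  unfold xb
  rw [Model.X_apply (q_bv i) (q_bv j) (B_ok h), B_bv, B_bv]

theorem xb_fix {i j : Fin 8} (h : ok i j) {k : Fin 8} (h1 : k ≠ i + 4) (h2 : k ≠ j + 4) : xb i j (bv k) = bv k := by
  rw [xb_apply h, if_neg h1, if_neg h2, zero_smul, zero_smul, add_zero, add_zero]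

theorem xb_bar {i j : Fin 8} (h : ok i j) : xb i j (bv (i + 4)) = bv (i + 4) + bv j := by
  have h1 : i + 4 ≠ j + 4 := fun e => h.1 (add_right_cancel e).symm
  rw [xb_apply h, if_pos rfl, if_neg h1, one_smul, zero_smul, add_zero]

theorem xb_ne {i j : Fin 8} (h : ok i j) : xb i j ≠ 1 := fun e => by
  have h1 := xb_bar h
  rw [e] at h1
  exact bv_ne j (left_eq_add.1 h1)

/-- Conjugation. -/
theorem xb_conj {g : V ≃ₗ[ZMod 2] V} (hg : g ∈ O8) (i j : Fin 8) : g * xb i j * g⁻¹ = X (g (bv i)) (g (bv j)) :=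
  Model.X_conj hg _ _

/-! ### Roots -/

/-- The weight of the basis vector `bv i`. -/
def wt (i : Fin 8) : E :=
  (![![1, 0, 0, 0], ![0, 1, 0, 0], ![0, 0, 1, 0], ![0, 0, 0, 1], ![-1, 0, 0, 0], ![0, -1, 0, 0], ![0, 0, -1, 0], ![0, 0, 0, -1]] :
    Fin 8 → E) i

/-- All pairs. -/
def pairs : List (Fin 8 × Fin 8) :=
  [(0, 1), (0, 5), (0, 2), (0, 6), (0, 3), (0, 7), (1, 2), (1, 6), (1, 3), (1, 7), (2, 3), (2, 7),
   (4, 5), (1, 4), (4, 6), (2, 4), (4, 7), (3, 4), (5, 6), (2, 5), (5, 7), (3, 5), (6, 7), (3, 6)]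

/-- The basis vectors of a root. -/
def hd (r : E) : Fin 8 × Fin 8 := (pairs.find? fun p => wt p.1 + wt p.2 = r).getD (0, 1)

theorem hd_wt : ∀ i j : Fin 8, ok i j → hd (wt i + wt j) = (i, j) ∨ hd (wt i + wt j) = (j, i) := by decide +kernel

theorem wt_mem : ∀ i j : Fin 8, ok i j → wt i + wt j ∈ roots := by decide +kernel

theorem wt_hd : ∀ r ∈ roots, wt (hd r).1 + wt (hd r).2 = r ∧ ok (hd r).1 (hd r).2 := by decide +kernel

theorem ip_wt : ∀ i j : Fin 8, ip (wt i) (wt j) = if i = j then 1 else if j = i + 4 then -1 else 0 := by decide +kernel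

/-- The root element of the root `r`. -/
noncomputable def xO (r : E) : V ≃ₗ[ZMod 2] V := xb (hd r).1 (hd r).2

theorem xO_wt {i j : Fin 8} (h : ok i j) : xO (wt i + wt j) = xb i j := by
  unfold xO
  rcases hd_wt i j h with e | e
  · rw [e]
  · rw [e]; exact xb_symm j i

theorem xO_mem (r : E) : xO r ∈ Om := xb_mem _ _

theorem xO_sq (r : E) : xO r * xO r = 1 := xb_sq _ _

theorem xO_ne {r : E} (hr : r ∈ Φ) : xO r ≠ 1 := xb_ne (wt_hd r hr).2

/-- The pair of collinear roots. -/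
def f1 (r s : E) : Fin 8 × Fin 8 × Fin 8 :=
  let p := hd r
  let p' := hd s
  if p.1 = p'.1 then (p.1, p.2, p'.2) else if p.1 = p'.2 then (p.1, p.2, p'.1) else
    if p.2 = p'.1 then (p.2, p.1, p'.2) else (p.2, p.1, p'.1)

theorem f1_spec : ∀ r ∈ roots, ∀ s ∈ roots, ip r s = 1 → (ok (f1 r s).1 (f1 r s).2.1 ∧ ok (f1 r s).1 (f1 r s).2.2 ∧
    ok (f1 r s).2.1 (f1 r s).2.2 ∧ r = wt (f1 r s).1 + wt (f1 r s).2.1 ∧ s = wt (f1 r s).1 + wt (f1 r s).2.2) := by
  (delta Cfsg.Agent.StdO8.D4Root.ip Cfsg.Agent.StdO8.Bas.ok Cfsg.Agent.StdO8.Bas.f1 Cfsg.Agent.StdO8.Bas.wt; set_option synthInstance.maxSize 100000 in open scoped Cfsg.Agent.Lib.Refl.U in exact Cfsg.Agent.Lib.Refl.of (by decide +kernel))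

/-- Collinear roots. -/
theorem pair_one {r s : E} (hr : r ∈ Φ) (hs : s ∈ Φ) (h : ip r s = 1) :
    ∃ a b c, ok a b ∧ ok a c ∧ ok b c ∧ r = wt a + wt b ∧ s = wt a + wt c :=
  ⟨_, _, _, f1_spec r hr s hs h⟩

/-- The pair of special roots. -/
def f2 (r s : E) : Fin 8 × Fin 8 × Fin 8 :=
  let p := hd r
  let p' := hd s
  if p'.1 = p.1 + 4 then (p.2, p.1, p'.2) else if p'.2 = p.1 + 4 then (p.2, p.1, p'.1) else
    if p'.1 = p.2 + 4 then (p.1, p.2, p'.2) else (p.1, p.2, p'.1)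

theorem f2_spec : ∀ r ∈ roots, ∀ s ∈ roots, ip r s = -1 → (ok (f2 r s).1 (f2 r s).2.1 ∧ ok (f2 r s).1 (f2 r s).2.2 ∧
    ok (f2 r s).2.1 (f2 r s).2.2 ∧ r = wt (f2 r s).1 + wt (f2 r s).2.1 ∧ s = wt ((f2 r s).2.1 + 4) + wt (f2 r s).2.2) := by
  (delta Cfsg.Agent.StdO8.D4Root.ip Cfsg.Agent.StdO8.Bas.ok Cfsg.Agent.StdO8.Bas.f2 Cfsg.Agent.StdO8.Bas.wt; set_option synthInstance.maxSize 100000 in open scoped Cfsg.Agent.Lib.Refl.U in exact Cfsg.Agent.Lib.Refl.of (by decide +kernel))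

/-- Special roots. -/
theorem pair_neg {r s : E} (hr : r ∈ Φ) (hs : s ∈ Φ) (h : ip r s = -1) :
    ∃ a b c, ok a b ∧ ok a c ∧ ok b c ∧ r = wt a + wt b ∧ s = wt (b + 4) + wt c :=
  ⟨_, _, _, f2_spec r hr s hs h⟩

/-- The pair of orthogonal roots. -/
def f3 (r s : E) : Fin 8 × Fin 8 × Fin 8 × Fin 8 :=
  let p := hd r
  let p' := hd s
  if p.1 = p'.1 ∨ p.1 = p'.2 then (p.1, p.2, p.1, p.2 + 4) else if p.2 = p'.1 ∨ p.2 = p'.2 then (p.2, p.1, p.2, p.1 + 4) else
    (p.1, p.2, p'.1, p'.2)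

theorem f3_spec : ∀ r ∈ roots, ∀ s ∈ roots, ip r s = 0 → (ok (f3 r s).1 (f3 r s).2.1 ∧ r = wt (f3 r s).1 + wt (f3 r s).2.1 ∧
    s = wt (f3 r s).2.2.1 + wt (f3 r s).2.2.2 ∧ ((f3 r s).2.2.1 = (f3 r s).1 ∧ (f3 r s).2.2.2 = (f3 r s).2.1 + 4 ∨
      (ok (f3 r s).1 (f3 r s).2.2.1 ∧ ok (f3 r s).1 (f3 r s).2.2.2 ∧ ok (f3 r s).2.1 (f3 r s).2.2.1 ∧
      ok (f3 r s).2.1 (f3 r s).2.2.2 ∧ ok (f3 r s).2.2.1 (f3 r s).2.2.2))) := by
  (delta Cfsg.Agent.StdO8.Bas.ok; set_option synthInstance.maxSize 100000 in exact Cfsg.Agent.Lib.Refl.of (by decide +kernel))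

/-- Orthogonal roots. -/
theorem pair_zero {r s : E} (hr : r ∈ Φ) (hs : s ∈ Φ) (h : ip r s = 0) :
    ∃ a b, ok a b ∧ r = wt a + wt b ∧ (s = wt a + wt (b + 4) ∨
      ∃ c d, ok a c ∧ ok a d ∧ ok b c ∧ ok b d ∧ ok c d ∧ s = wt c + wt d) := by
  obtain ⟨h1, h2, h3, h4⟩ := f3_spec r hr s hs h
  refine ⟨_, _, h1, h2, ?_⟩
  rcases h4 with ⟨h4, h5⟩ | ⟨h4, h5, h6, h7, h8⟩
  · left
    rw [h4, h5] at h3
    exact h3
  · right
    exact ⟨_, _, h4, h5, h6, h7, h8, h3⟩

/-! ### Relations -/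

theorem add_four (i : Fin 8) : i + 4 + 4 = i := Dc.add_four i

/-- Two root elements whose lines are orthogonal commute. -/
theorem xb_comm_of_fix {i j k l : Fin 8} (hij : ok i j) (h1 : k ≠ i + 4) (h2 : k ≠ j + 4) (h3 : l ≠ i + 4) (h4 : l ≠ j + 4) :
    xb i j * xb k l = xb k l * xb i j := by
  have h := xb_conj (xb_mem_O8 i j) k l
  rw [xb_fix hij h1 h2, xb_fix hij h3 h4] at h
  rw [mul_inv_eq_iff_eq_mul] at h
  exact h

theorem ip_add_right (a b c : E) : ip a (b + c) = ip a b + ip a c := by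
  rw [D4Root.ip_symm, D4Root.ip_add_left, D4Root.ip_symm b, D4Root.ip_symm c]

/-- Root elements with nonnegative inner product commute. -/
theorem xO_comm {r s : E} (hr : r ∈ Φ) (hs : s ∈ Φ) (h : 0 ≤ ip r s) : xO r * xO s = xO s * xO r := by
  obtain ⟨hr1, hr2⟩ := wt_hd r hr
  obtain ⟨hs1, hs2⟩ := wt_hd s hs
  unfold xO
  set i := (hd r).1
  set j := (hd r).2
  set k := (hd s).1
  set l := (hd s).2
  rw [← hr1, ← hs1] at h
  clear_value i j k l
  clear hr1 hs1 hr hs
  have key : ∀ i j k l : Fin 8, ok i j → ok k l → 0 ≤ ip (wt i + wt j) (wt k + wt l) →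
      (k ≠ i + 4 ∧ k ≠ j + 4 ∧ l ≠ i + 4 ∧ l ≠ j + 4) ∨ (k = i + 4 ∧ l = j) ∨ (k = i ∧ l = j + 4) ∨
        (k = j + 4 ∧ l = i) ∨ (k = j ∧ l = i + 4) := by (delta Cfsg.Agent.StdO8.Bas.ok Cfsg.Agent.StdO8.D4Root.ip Cfsg.Agent.StdO8.Bas.wt; set_option synthInstance.maxSize 100000 in open scoped Cfsg.Agent.Lib.Refl.U in exact Cfsg.Agent.Lib.Refl.of (by decide +kernel))
  -- the case of two lines `⟨i, j⟩` and `⟨i + 4, j⟩`
  have c1 : ∀ i j : Fin 8, ok i j → xb i j * xb (i + 4) j = xb (i + 4) j * xb i j := by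
    intro i j hij
    have h1 := xb_conj (xb_mem_O8 i j) j (i + 4)
    have h2 : ∀ i j : Fin 8, ok i j → j ≠ i + 4 ∧ j ≠ j + 4 := by decide +kernel
    obtain ⟨h3, h4⟩ := h2 i j hij
    rw [xb_fix hij h3 h4, xb_bar hij, Model.X_add_right (q_bv j), mul_inv_eq_iff_eq_mul] at h1
    rw [xb_symm (i + 4) j]
    exact h1
  rcases key i j k l hr2 hs2 h with h1 | h1 | h1 | h1 | h1
  · exact xb_comm_of_fix hr2 h1.1 h1.2.1 h1.2.2.1 h1.2.2.2
  · rw [h1.1, h1.2]; exact c1 i j hr2
  · rw [h1.1, h1.2, xb_symm i j, xb_symm i (j + 4)]; exact c1 j i (ok_symm hr2)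
  · rw [h1.1, h1.2, xb_symm i j]; exact c1 j i (ok_symm hr2)
  · rw [h1.1, h1.2, xb_symm j (i + 4)]; exact c1 i j hr2

theorem xb_mul {a b c : Fin 8} (h1 : ok a b) (h2 : ok a c) : xb a b * xb a c = X (bv a) (bv b + bv c) :=
  Model.X_mul (q_bv a) (B_ok h1) (B_ok h2)

/-- The commutator relation. -/
theorem xO_conj {r s : E} (hr : r ∈ Φ) (hs : s ∈ Φ) (h : ip r s = -1) : xO s * xO r * xO s = xO r * xO (r + s) := by
  obtain ⟨a, b, c, h1, h2, h3, rfl, rfl⟩ := pair_neg hr hs h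
  have k : ∀ a b c : Fin 8, ok a b → ok a c → ok b c → ok (b + 4) c ∧ a ≠ b + 4 + 4 ∧ a ≠ c + 4 ∧ b + 4 + 4 = b ∧
      wt a + wt b + (wt (b + 4) + wt c) = wt a + wt c := by (delta Cfsg.Agent.StdO8.Bas.ok Cfsg.Agent.StdO8.Bas.wt; set_option synthInstance.maxSize 100000 in open scoped Cfsg.Agent.Lib.Refl.U in exact Cfsg.Agent.Lib.Refl.of (by decide +kernel))
  obtain ⟨k1, k2, k3, k4, k5⟩ := k a b c h1 h2 h3
  rw [k5, xO_wt h1, xO_wt h2, xO_wt k1, xb_mul h1 h2]
  have h4 := xb_conj (xb_mem_O8 (b + 4) c) a b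
  have h5 : xb (b + 4) c (bv b) = bv b + bv c := by
    have := xb_bar k1
    rwa [k4] at this
  rw [xb_fix k1 k2 k3, h5] at h4
  rw [← h4, inv_eq_of_mul_eq_one_left (xb_sq _ _)]

/-! ### Frames -/

/-- The frame of four basis vectors. -/
def fr (a b c d : Fin 8) : Fin 8 → Fin 8 := ![a, b, c, d, a + 4, b + 4, c + 4, d + 4]

theorem fr_inj : ∀ a b c d : Fin 8, ok a b → ok a c → ok a d → ok b c → ok b d → ok c d → Function.Injective (fr a b c d) := by
  have h : ∀ a b : Fin 8, ok a b → ∀ c, ok a c → ok b c → ∀ d, ok a d → ok b d → ok c d →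
      [a, b, c, d, a + 4, b + 4, c + 4, d + 4].Nodup := by (delta Cfsg.Agent.StdO8.Bas.ok; set_option synthInstance.maxSize 100000 in exact Cfsg.Agent.Lib.Refl.of (by decide +kernel))
  exact fun a b c d h1 h2 h3 h4 h5 h6 => List.nodup_ofFn.1 (h a b h1 c h2 h4 d h3 h5 h6)

theorem fr_bar : ∀ a b c d : Fin 8, ∀ i, fr a b c d (i + 4) = fr a b c d i + 4 := by
  intro a b c d i
  have h := add_four
  fin_cases i
  · rfl
  · rfl
  · rfl
  · rfl
  · exact (h a).symm
  · exact (h b).symm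
  · exact (h c).symm
  · exact (h d).symm

theorem exists_frame {a b c d : Fin 8} (h1 : ok a b) (h2 : ok a c) (h3 : ok a d) (h4 : ok b c) (h5 : ok b d) (h6 : ok c d) :
    ∃ φ : Equiv.Perm (Fin 8), Dc.Frame φ ∧ φ 0 = a ∧ φ 1 = b ∧ φ 2 = c ∧ φ 3 = d :=
  ⟨Equiv.ofBijective _ (Finite.injective_iff_bijective.1 (fr_inj a b c d h1 h2 h3 h4 h5 h6)), ⟨fun i => fr_bar a b c d i⟩,
    rfl, rfl, rfl, rfl⟩

theorem exists_fourth : ∀ a b c : Fin 8, ok a b → ok a c → ok b c → ∃ d, ok a d ∧ ok b d ∧ ok c d := by decide +kernel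

theorem exists_third : ∀ a b : Fin 8, ok a b → ∃ c, ok a c ∧ ok b c := by decide +kernel

theorem frame_ok {φ : Equiv.Perm (Fin 8)} (hφ : Dc.Frame φ) {i j : Fin 8} (h : ok i j) : ok (φ i) (φ j) :=
  ⟨fun e => h.1 (φ.injective e), fun e => h.2 (φ.injective (by rw [hφ.bar]; exact e))⟩

theorem frame_ip {φ : Equiv.Perm (Fin 8)} (hφ : Dc.Frame φ) (i j : Fin 8) : ip (wt (φ i)) (wt (φ j)) = ip (wt i) (wt j) := by
  rw [ip_wt, ip_wt, ← hφ.bar]
  simp only [EmbeddingLike.apply_eq_iff_eq]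

theorem frame_ip' {φ : Equiv.Perm (Fin 8)} (hφ : Dc.Frame φ) (i j k l : Fin 8) :
    ip (wt (φ i) + wt (φ j)) (wt (φ k) + wt (φ l)) = ip (wt i + wt j) (wt k + wt l) := by
  rw [D4Root.ip_add_left, ip_add_right, ip_add_right, frame_ip hφ, frame_ip hφ, frame_ip hφ, frame_ip hφ,
    D4Root.ip_add_left, ip_add_right, ip_add_right]

/-- the hypothesis for the double centraliser -/
def Cen (g : V ≃ₗ[ZMod 2] V) (r s : E) : Prop := ∀ a ∈ Φ, 0 ≤ ip a r → 0 ≤ ip a s → g * xO a = xO a * g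

theorem comm_of_cen {g : V ≃ₗ[ZMod 2] V} {φ : Equiv.Perm (Fin 8)} (hφ : Dc.Frame φ) {i j k l : Fin 8} {S : List (Fin 8 × Fin 8)}
    (hS : ∀ p ∈ S, ok p.1 p.2 ∧ 0 ≤ ip (wt p.1 + wt p.2) (wt i + wt j) ∧ 0 ≤ ip (wt p.1 + wt p.2) (wt k + wt l))
    (h : Cen g (wt (φ i) + wt (φ j)) (wt (φ k) + wt (φ l))) :
    Dc.Comm (th g) (S.map fun p => (φ p.1, φ p.2)) := by
  intro p hp w
  obtain ⟨p', hp', rfl⟩ := List.mem_map.1 hp
  obtain ⟨h1, h2, h3⟩ := hS p' hp'
  have h4 := frame_ok hφ h1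
  have h5 := h (wt (φ p'.1) + wt (φ p'.2)) (wt_mem _ _ h4) (by rw [frame_ip' hφ]; exact h2) (by rw [frame_ip' hφ]; exact h3)
  rw [xO_wt h4] at h5
  show th g (Dc.Xf (Dc.b (φ p'.1)) (Dc.b (φ p'.2)) w) = Dc.Xf (Dc.b (φ p'.1)) (Dc.b (φ p'.2)) (th g w)
  rw [← th_xb h4, ← th_mul, h5, th_mul, th_xb h4]

/-- powers -/
theorem exists_pow {i j : Fin 8} (h : ok i j) (k : ZMod 2) :
    ∃ α : V ≃ₗ[ZMod 2] V, (α = 1 ∨ α = xb i j) ∧ ∀ w, th α w = Dc.Xp k (Dc.b i) (Dc.b j) w := by
  rcases Dc.zmod_cases k with rfl | rfl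
  · exact ⟨1, Or.inl rfl, fun w => by rw [th_one, Dc.Xp_zero]⟩
  · exact ⟨xb i j, Or.inr rfl, fun w => by rw [th_xb h, Dc.Xp_one]⟩

/-- **The double centraliser of a collinear or orthogonal pair of roots.** -/
theorem dc {g : V ≃ₗ[ZMod 2] V} (hg : g ∈ O8) {r s : E} (hr : r ∈ Φ) (hs : s ∈ Φ) (h : ip r s = 0 ∨ ip r s = 1)
    (hc : Cen g r s) : ∃ α β : V ≃ₗ[ZMod 2] V, (α = 1 ∨ α = xO r) ∧ (β = 1 ∨ β = xO s) ∧ g = α * β := by
  rcases h with h | h
  · obtain ⟨a, b, h1, rfl, rfl | ⟨c, d, h2, h3, h4, h5, h6, rfl⟩⟩ := pair_zero hr hs h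
    · obtain ⟨c, h2, h3⟩ := exists_third a b h1
      obtain ⟨d, h4, h5, h6⟩ := exists_fourth a b c h1 h2 h3
      obtain ⟨φ, hφ, rfl, rfl, rfl, rfl⟩ := exists_frame h1 h2 h4 h3 h5 h6
      rw [← hφ.bar] at hc
      obtain ⟨i, j, e⟩ := Dc.dc_orth hφ (th_iso hg) (comm_of_cen hφ (by decide +kernel) hc)
      have h7 : ok (φ 0) (φ 5) := frame_ok hφ (by decide)
      obtain ⟨α, hα, eα⟩ := exists_pow h1 i
      obtain ⟨β, hβ, eβ⟩ := exists_pow h7 j
      refine ⟨α, β, ?_, ?_, th_inj fun v => ?_⟩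
      · rw [xO_wt h1]; exact hα
      · rw [show φ 1 + 4 = φ 5 from (hφ.bar 1).symm, xO_wt h7]; exact hβ
      · rw [th_mul, eα, eβ, e]
    · obtain ⟨φ, hφ, rfl, rfl, rfl, rfl⟩ := exists_frame h1 h2 h3 h4 h5 h6
      obtain ⟨i, j, e⟩ := Dc.dc_orth' hφ (th_iso hg) (comm_of_cen hφ (by decide +kernel) hc)
      obtain ⟨α, hα, eα⟩ := exists_pow h1 i
      obtain ⟨β, hβ, eβ⟩ := exists_pow h6 j
      refine ⟨α, β, ?_, ?_, th_inj fun v => ?_⟩
      · rw [xO_wt h1]; exact hα
      · rw [xO_wt h6]; exact hβ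
      · rw [th_mul, eα, eβ, e]
  · obtain ⟨a, b, c, h1, h2, h3, rfl, rfl⟩ := pair_one hr hs h
    obtain ⟨d, h4, h5, h6⟩ := exists_fourth a b c h1 h2 h3
    obtain ⟨φ, hφ, rfl, rfl, rfl, rfl⟩ := exists_frame h1 h2 h4 h3 h5 h6
    obtain ⟨i, j, e⟩ := Dc.dc_one hφ (th_iso hg) (comm_of_cen hφ (by decide +kernel) hc)
    obtain ⟨α, hα, eα⟩ := exists_pow h1 i
    obtain ⟨β, hβ, eβ⟩ := exists_pow h2 j
    refine ⟨α, β, ?_, ?_, th_inj fun v => ?_⟩
    · rw [xO_wt h1]; exact hα
    · rw [xO_wt h2]; exact hβ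
    · rw [th_mul, eα, eβ, e]

/-- **The double centraliser of a special pair of roots.** -/
theorem dc' {g : V ≃ₗ[ZMod 2] V} (hg : g ∈ O8) {r s : E} (hr : r ∈ Φ) (hs : s ∈ Φ) (h : ip r s = -1)
    (hc : Cen g r s) : ∃ α β γ : V ≃ₗ[ZMod 2] V, (α = 1 ∨ α = xO r) ∧ (β = 1 ∨ β = xO s) ∧ (γ = 1 ∨ γ = xO (r + s)) ∧
      g = α * β * γ := by
  obtain ⟨a, b, c, h1, h2, h3, rfl, rfl⟩ := pair_neg hr hs h
  obtain ⟨d, h4, h5, h6⟩ := exists_fourth a b c h1 h2 h3
  obtain ⟨φ, hφ, rfl, rfl, rfl, rfl⟩ := exists_frame h1 h2 h4 h3 h5 h6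
  rw [← hφ.bar] at hc
  obtain ⟨i, j, k, e⟩ := Dc.dc_neg hφ (th_iso hg) (comm_of_cen hφ (by decide +kernel) hc)
  have h7 : ok (φ 5) (φ 2) := frame_ok hφ (by decide)
  obtain ⟨α, hα, eα⟩ := exists_pow h1 i
  obtain ⟨β, hβ, eβ⟩ := exists_pow h7 j
  obtain ⟨γ, hγ, eγ⟩ := exists_pow h2 k
  have k5 : ∀ a b c : Fin 8, ok a b → ok a c → ok b c → wt a + wt b + (wt (b + 4) + wt c) = wt a + wt c := by decide +kernel
  refine ⟨α, β, γ, ?_, ?_, ?_, th_inj fun v => ?_⟩
  · rw [xO_wt h1]; exact hα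
  · rw [show φ 1 + 4 = φ 5 from (hφ.bar 1).symm, xO_wt h7]; exact hβ
  · rw [k5 _ _ _ h1 h2 h3, xO_wt h2]; exact hγ
  · rw [th_mul, th_mul, eα, eβ, eγ, e]

/-- A pair of opposite lines in the common centraliser of two roots. -/
theorem exists_ctwo {r s : E} (hr : r ∈ Φ) (hs : s ∈ Φ) (h : ip r s = 0 ∨ ip r s = 1 ∨ ip r s = -1) :
    ∃ a b, ok a b ∧ 0 ≤ ip (wt a + wt b) r ∧ 0 ≤ ip (wt a + wt b) s ∧ 0 ≤ ip (wt a + wt (b + 4)) r ∧
      0 ≤ ip (wt a + wt (b + 4)) s := by
  rcases h with h | h | h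
  · obtain ⟨a, b, h1, rfl, rfl | ⟨c, d, h2, h3, h4, h5, h6, rfl⟩⟩ := pair_zero hr hs h
    · obtain ⟨c, h2, h3⟩ := exists_third a b h1
      obtain ⟨d, h4, h5, h6⟩ := exists_fourth a b c h1 h2 h3
      obtain ⟨φ, hφ, rfl, rfl, rfl, rfl⟩ := exists_frame h1 h2 h4 h3 h5 h6
      refine ⟨φ 0, φ 1, h1, ?_, ?_, ?_, ?_⟩ <;> (try simp only [← hφ.bar]) <;> rw [frame_ip' hφ] <;> decide
    · obtain ⟨φ, hφ, rfl, rfl, rfl, rfl⟩ := exists_frame h1 h2 h3 h4 h5 h6
      refine ⟨φ 0, φ 1, h1, ?_, ?_, ?_, ?_⟩ <;> (try simp only [← hφ.bar]) <;> rw [frame_ip' hφ] <;> decide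
  · obtain ⟨a, b, c, h1, h2, h3, rfl, rfl⟩ := pair_one hr hs h
    obtain ⟨d, h4, h5, h6⟩ := exists_fourth a b c h1 h2 h3
    obtain ⟨φ, hφ, rfl, rfl, rfl, rfl⟩ := exists_frame h1 h2 h4 h3 h5 h6
    refine ⟨φ 0, φ 3, h4, ?_, ?_, ?_, ?_⟩ <;> (try simp only [← hφ.bar]) <;> rw [frame_ip' hφ] <;> decide
  · obtain ⟨a, b, c, h1, h2, h3, rfl, rfl⟩ := pair_neg hr hs h
    obtain ⟨d, h4, h5, h6⟩ := exists_fourth a b c h1 h2 h3
    obtain ⟨φ, hφ, rfl, rfl, rfl, rfl⟩ := exists_frame h1 h2 h4 h3 h5 h6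
    refine ⟨φ 0, φ 3, h4, ?_, ?_, ?_, ?_⟩ <;> (try simp only [← hφ.bar]) <;> rw [frame_ip' hφ] <;> decide

end Cfsg.Agent.StdO8.Bas
end

-- part: StdO8/DataOf
section
/-!
# The data of the doubling argument for `L ≅ Ω₈⁺(2)`

`x C r` is the root element of `L` of the root `r` of `D4`. Given involutions `y r` with `t ^ (y r) = t x_r` which centralise
`C_L(x_r)`, all hypotheses of `Doubling/Rel` hold (`data`). If in addition `|C(t) : ⟨t⟩ L|` is odd, there is a homomorphism
`G → {±1}` with `t ↦ -1` (`exists_hom`).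
-/

set_option autoImplicit false

namespace Cfsg.Agent.StdO8.DataOf

open Cfsg.Agent.StdO8.Model (V q B X O8 Om)
open Cfsg.Agent.StdO8.D4Root (E ip roots Φ)
open Cfsg.Agent.StdO8.Frame (Ctx)
open Cfsg.Agent.StdO8.Bas
open Cfsg.Agent.Doubling.Rel (Root Data)

variable {G : Type*} [Group G] (C : Ctx G)

/-- The root element as an element of `Om`. -/
noncomputable def xm (r : E) : Om := ⟨xO r, xO_mem r⟩

private theorem xm_coe (r : E) : ((xm r : Om) : V ≃ₗ[ZMod 2] V) = xO r := by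
  unfold xm
  exact Subtype.coe_mk _ _

/-- The root element in `G`. -/
noncomputable def x (r : E) : G := C.r (xm r)

theorem x_mem (r : E) : x C r ∈ C.L := C.r_mem _

theorem x_sq (r : E) : x C r * x C r = 1 := by
  have h : xm r * xm r = 1 := Subtype.ext (by rw [Subgroup.coe_mul, xm_coe, xO_sq, Subgroup.coe_one])
  unfold x
  rw [← map_mul, h, map_one]

theorem x_ne {r : E} (hr : r ∈ Φ) : x C r ≠ 1 := fun h => by
  have h1 : xm r = 1 := C.inj (by rw [map_one]; exact h)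
  exact xO_ne hr (by rw [← xm_coe, h1, Subgroup.coe_one])

theorem x_comm {r s : E} (hr : r ∈ Φ) (hs : s ∈ Φ) (h : 0 ≤ ip r s) : x C r * x C s = x C s * x C r := by
  have h1 : xm r * xm s = xm s * xm r := Subtype.ext (by
    rw [Subgroup.coe_mul, Subgroup.coe_mul, xm_coe, xm_coe]
    exact xO_comm hr hs h)
  unfold x
  rw [← map_mul, h1, map_mul]

theorem x_conj {r s : E} (hr : r ∈ Φ) (hs : s ∈ Φ) (h : ip r s = -1) :
    x C s * x C r * x C s = x C r * x C (r + s) := by
  have h0 := xO_conj hr hs h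
  have h1 : xm s * xm r * xm s = xm r * xm (r + s) := by
    apply Subtype.ext
    rw [Subgroup.coe_mul, Subgroup.coe_mul, Subgroup.coe_mul, xm_coe, xm_coe, xm_coe]
    exact h0
  unfold x
  rw [← map_mul, ← map_mul, h1, map_mul]

/-- An element of `C(t)` which centralises `C_L(x_r) ∩ C_L(x_s)` is linear. -/
theorem exists_isLin {r s : E} (hr : r ∈ Φ) (hs : s ∈ Φ) (h : ip r s = 0 ∨ ip r s = 1 ∨ ip r s = -1) {g : G}
    (hg : g * C.t = C.t * g)
    (hc : ∀ h ∈ C.L, h * x C r = x C r * h → h * x C s = x C s * h → g * h = h * g) :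
    ∃ M : O8, C.IsLin g M ∧ Cen (M : V ≃ₗ[ZMod 2] V) r s := by
  obtain ⟨a, b, hab, h1, h2, h3, h4⟩ := exists_ctwo hr hs h
  have hab' : ok a (b + 4) := by
    have : ∀ a b : Fin 8, ok a b → ok a (b + 4) := by decide +kernel
    exact this a b hab
  have m1 := wt_mem a b hab
  have m2 := wt_mem a (b + 4) hab'
  have hcc : ∀ e ∈ Φ, 0 ≤ ip e r → 0 ≤ ip e s → g * x C e = x C e * g := fun e he e1 e2 =>
    hc _ (x_mem C e) (x_comm C he hr e1) (x_comm C he hs e2)
  have d1 := hcc _ m1 h1 h2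
  have d2 := hcc _ m2 h3 h4
  have hc2 : Cfsg.Agent.StdO8.Aut.IsC2 ((xm (wt a + wt b) * xm (wt a + wt (b + 4)) : Om) : V ≃ₗ[ZMod 2] V) := by
    refine ⟨bv a, bv b + bv (b + 4), q_bv a, bv_ne a, ?_, ?_, ?_⟩
    · rw [Model.B_add_right, B_ok hab, B_ok hab', add_zero]
    · rw [Model.q_add, q_bv, q_bv, B_bv, if_pos rfl, zero_add, zero_add]
    · rw [Subgroup.coe_mul, xm_coe, xm_coe, xO_wt hab, xO_wt hab', xb_mul hab hab']
  have hcomm : Commute g (C.r (xm (wt a + wt b) * xm (wt a + wt (b + 4)))) := by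
    rw [map_mul]
    exact Commute.mul_right d1 d2
  obtain ⟨M, hM⟩ := C.isLin_of_commute hg hc2 hcomm
  refine ⟨M, hM, fun e he e1 e2 => ?_⟩
  have h5 := (hM.commute_iff (xm e)).1 (hcc e he e1 e2)
  rwa [xm_coe] at h5

theorem eq_of_isLin {g : G} {M : O8} (hM : C.IsLin g M) {m : Om} (h : (M : V ≃ₗ[ZMod 2] V) = m) :
    g = C.r m ∨ g = C.t * C.r m := by
  have h1 : M = Ctx.up m := Subtype.ext h
  rw [h1] at hM
  exact hM.eq_r

theorem dc {r s : E} (hr : r ∈ Φ) (hs : s ∈ Φ) (h : ip r s = 0 ∨ ip r s = 1) (g : G) (hg : g * C.t = C.t * g)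
    (hc : ∀ h ∈ C.L, h * x C r = x C r * h → h * x C s = x C s * h → g * h = h * g) :
    ∃ τ α β, (τ = 1 ∨ τ = C.t) ∧ (α = 1 ∨ α = x C r) ∧ (β = 1 ∨ β = x C s) ∧ g = τ * α * β := by
  obtain ⟨M, hM, hcen⟩ := exists_isLin C hr hs (by rcases h with h | h; exacts [Or.inl h, Or.inr (Or.inl h)]) hg hc
  obtain ⟨α, β, hα, hβ, e⟩ := Bas.dc M.2 hr hs h hcen
  obtain ⟨α', hα', eα⟩ : ∃ α' : Om, (α' = 1 ∨ α' = xm r) ∧ α = α' := by
    rcases hα with h | h
    · exact ⟨1, Or.inl rfl, h⟩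
    · exact ⟨xm r, Or.inr rfl, h.trans (xm_coe _).symm⟩
  obtain ⟨β', hβ', eβ⟩ : ∃ β' : Om, (β' = 1 ∨ β' = xm s) ∧ β = β' := by
    rcases hβ with h | h
    · exact ⟨1, Or.inl rfl, h⟩
    · exact ⟨xm s, Or.inr rfl, h.trans (xm_coe _).symm⟩
  have h1 := eq_of_isLin C hM (m := α' * β') (by rw [e, eα, eβ, Subgroup.coe_mul])
  rw [map_mul] at h1
  have h2 : C.r α' = 1 ∨ C.r α' = x C r := by
    rcases hα' with h | h
    · left; rw [h, map_one]
    · right; rw [h]; rfl
  have h3 : C.r β' = 1 ∨ C.r β' = x C s := by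
    rcases hβ' with h | h
    · left; rw [h, map_one]
    · right; rw [h]; rfl
  rcases h1 with h1 | h1
  · exact ⟨1, _, _, Or.inl rfl, h2, h3, by rw [h1, one_mul]⟩
  · exact ⟨C.t, _, _, Or.inr rfl, h2, h3, by rw [h1, mul_assoc]⟩

theorem dc' {r s : E} (hr : r ∈ Φ) (hs : s ∈ Φ) (h : ip r s = -1) (g : G) (hg : g * C.t = C.t * g)
    (hc : ∀ h ∈ C.L, h * x C r = x C r * h → h * x C s = x C s * h → g * h = h * g) :
    ∃ τ α β γ, (τ = 1 ∨ τ = C.t) ∧ (α = 1 ∨ α = x C r) ∧ (β = 1 ∨ β = x C s) ∧ (γ = 1 ∨ γ = x C (r + s)) ∧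
      g = τ * α * β * γ := by
  obtain ⟨M, hM, hcen⟩ := exists_isLin C hr hs (Or.inr (Or.inr h)) hg hc
  obtain ⟨α, β, γ, hα, hβ, hγ, e⟩ := Bas.dc' M.2 hr hs h hcen
  obtain ⟨α', hα', eα⟩ : ∃ α' : Om, (α' = 1 ∨ α' = xm r) ∧ α = α' := by
    rcases hα with h | h
    · exact ⟨1, Or.inl rfl, h⟩
    · exact ⟨xm r, Or.inr rfl, h.trans (xm_coe _).symm⟩
  obtain ⟨β', hβ', eβ⟩ : ∃ β' : Om, (β' = 1 ∨ β' = xm s) ∧ β = β' := by
    rcases hβ with h | h
    · exact ⟨1, Or.inl rfl, h⟩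
    · exact ⟨xm s, Or.inr rfl, h.trans (xm_coe _).symm⟩
  obtain ⟨γ', hγ', eγ⟩ : ∃ γ' : Om, (γ' = 1 ∨ γ' = xm (r + s)) ∧ γ = γ' := by
    rcases hγ with h | h
    · exact ⟨1, Or.inl rfl, h⟩
    · exact ⟨xm (r + s), Or.inr rfl, h.trans (xm_coe _).symm⟩
  have h1 := eq_of_isLin C hM (m := α' * β' * γ') (by rw [e, eα, eβ, eγ, Subgroup.coe_mul, Subgroup.coe_mul])
  rw [map_mul, map_mul] at h1
  have h2 : C.r α' = 1 ∨ C.r α' = x C r := by
    rcases hα' with h | h
    · left; rw [h, map_one]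
    · right; rw [h]; rfl
  have h3 : C.r β' = 1 ∨ C.r β' = x C s := by
    rcases hβ' with h | h
    · left; rw [h, map_one]
    · right; rw [h]; rfl
  have h4 : C.r γ' = 1 ∨ C.r γ' = x C (r + s) := by
    rcases hγ' with h | h
    · left; rw [h, map_one]
    · right; rw [h]; rfl
  rcases h1 with h1 | h1
  · exact ⟨1, _, _, _, Or.inl rfl, h2, h3, h4, by rw [h1, one_mul]⟩
  · exact ⟨C.t, _, _, _, Or.inr rfl, h2, h3, h4, by rw [h1]; group⟩

/-- **All hypotheses of `Doubling/Rel`.** -/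
theorem data {y : E → G} (y_sq : ∀ r ∈ Φ, y r * y r = 1) (ty : ∀ r ∈ Φ, y r * C.t * y r = C.t * x C r)
    (yC : ∀ r ∈ Φ, ∀ g ∈ C.L, g * x C r = x C r * g → g * y r = y r * g) : Data ip Φ C.t C.L (x C) y where
  tt := C.tt
  tL := by
    rintro _ ⟨m, rfl⟩
    exact (C.comm m).eq.symm
  t_notMem := C.t_notMem
  xL := fun r _ => x_mem C r
  x_ne := fun r hr => x_ne C hr
  x_sq := fun r _ => x_sq C r
  x_comm := fun r hr s hs h => x_comm C hr hs h
  x_conj := fun r hr s hs h => x_conj C hr hs h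
  y_sq := y_sq
  ty := ty
  yC := yC
  dc := fun r hr s hs h g hg hc => dc C hr hs h g hg hc
  dc' := fun r hr s hs h g hg hc => dc' C hr hs h g hg hc

end Cfsg.Agent.StdO8.DataOf
end

private theorem dce_8c64fd0807f6 : _root_.True := by
  try have : _root_.True := by simp only [_root_.Cfsg.Agent.StdO8.Dc.B.eq_1]
  exact _root_.True.intro
end

-- part: StdO8/Tri
section
set_option linter.all false
open scoped Cfsg.Agent.FastGrp

/-!
# Triality of `Ω₈⁺(2)` on the root elements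

`gen`: `Om` is generated by the root elements `xm s`, `s` in `D4`. `tri : MulAut Om` with `tri (xm s) = xm (rho s)`, `rho` the
diagram automorphism of order 3. It is constructed with a product on the natural module: `x_s (v * w) = x_{ρ s} v * x_{ρ⁻¹ s} w`.
-/

set_option autoImplicit false

namespace Cfsg.Agent.StdO8.Tri

open Cfsg.Agent.StdO8.Model (V q B X O8 Om)
open Cfsg.Agent.StdO8.D4Root (E ip roots Φ)
open Cfsg.Agent.StdO8.Bas
open Cfsg.Agent.StdO8.DataOf (xm)

/-! ### Generation -/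

/-- The group generated by the root elements. -/
def H : Subgroup (V ≃ₗ[ZMod 2] V) := Subgroup.closure {g | ∃ i j, ok i j ∧ g = xb i j}

theorem xb_mem_H {i j : Fin 8} (h : ok i j) : xb i j ∈ H := Subgroup.subset_closure ⟨i, j, h, rfl⟩

theorem H_le : H ≤ Om := by
  unfold H
  rw [Subgroup.closure_le]
  rintro _ ⟨i, j, _, rfl⟩
  exact xb_mem i j

theorem eq_sum (w : V) : w = ∑ j : Fin 8, B w (bv (j + 4)) • bv j := by
  have h1 : toD w = ∑ j : Fin 8, B w (bv (j + 4)) • Dc.b j := by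
    funext k
    rw [Finset.sum_apply]
    have h2 : ∀ j : Fin 8, (B w (bv (j + 4)) • Dc.b j) k = if j = k then toD w k else 0 := by
      intro j
      rw [Pi.smul_apply, Dc.b_apply, smul_eq_mul, ← B_toD, toD_bv, ← Dc.coord]
      by_cases h : j = k
      · rw [if_pos h.symm, if_pos h, mul_one, h]
      · rw [if_neg (Ne.symm h), if_neg h, mul_zero]
    rw [Finset.sum_congr rfl fun j _ => h2 j, Finset.sum_ite_eq' Finset.univ k, if_pos (Finset.mem_univ k)]
  have h3 := congrArg ofD h1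
  rw [ofD_toD] at h3
  have h4 : ∀ (s : Finset (Fin 8)), ofD (∑ j ∈ s, B w (bv (j + 4)) • Dc.b j) = ∑ j ∈ s, B w (bv (j + 4)) • bv j := by
    intro s
    induction s using Finset.induction_on with
    | empty => rfl
    | insert a s ha ih => rw [Finset.sum_insert ha, Finset.sum_insert ha, ofD_add, ih]; rfl
  exact h3.trans (h4 _)

/-- The subgroup `X (bv i) *`. -/
theorem X_mem_H (i : Fin 8) {w : V} (hw : B (bv i) w = 0) : X (bv i) w ∈ H := by
  have key : ∀ s : Finset (Fin 8), (∀ j ∈ s, j ≠ i + 4) → B (bv i) (∑ j ∈ s, B w (bv (j + 4)) • bv j) = 0 ∧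
      X (bv i) (∑ j ∈ s, B w (bv (j + 4)) • bv j) ∈ H := by
    intro s
    induction s using Finset.induction_on with
    | empty =>
      intro _
      rw [Finset.sum_empty]
      exact ⟨Model.B_zero_right _, by rw [Model.X_zero_right]; exact one_mem _⟩
    | insert a s ha ih =>
      intro hs
      obtain ⟨ih1, ih2⟩ := ih fun j hj => hs j (Finset.mem_insert_of_mem hj)
      have ha4 := hs a (Finset.mem_insert_self a s)
      have h1 : B (bv i) (B w (bv (a + 4)) • bv a) = 0 := by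
        rw [Model.B_smul_right, B_bv, if_neg ha4, mul_zero]
      rw [Finset.sum_insert ha]
      refine ⟨by rw [Model.B_add_right, h1, ih1, add_zero], ?_⟩
      rw [← Model.X_mul (q_bv i) h1 ih1]
      refine mul_mem ?_ ih2
      rcases Model.z2 (B w (bv (a + 4))) with h2 | h2
      · rw [h2, zero_smul, Model.X_zero_right]; exact one_mem _
      · rw [h2, one_smul]
        by_cases hai : a = i
        · rw [hai, Model.X_self (q_bv i)]; exact one_mem _
        · exact xb_mem_H ⟨hai, ha4⟩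
  have h1 := eq_sum w
  have h2 : B w (bv (i + 4 + 4)) • bv (i + 4) = 0 := by
    rw [add_four, Model.B_comm, hw, zero_smul]
  have h3 := Finset.sum_erase Finset.univ (f := fun j => B w (bv (j + 4)) • bv j) h2
  rw [h1, ← h3]
  exact (key _ fun j hj => Finset.ne_of_mem_erase hj).2

/-- A singular vector which is not orthogonal to `bv i` is conjugate to `bv (i + 4)`. -/
theorem exists_H (i : Fin 8) {u : V} (hu : q u = 0) (h : B (bv i) u = 1) : ∃ g ∈ H, g (bv (i + 4)) = u := by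
  have h4 : B (bv i) (bv (i + 4)) = 1 := by rw [B_bv, if_pos rfl]
  have h0 : B (bv i) (u + bv (i + 4)) = 0 := by
    rw [Model.B_add_right, h, h4]; decide
  refine ⟨X (bv i) (u + bv (i + 4)), X_mem_H i h0, ?_⟩
  have h5 : B (bv (i + 4)) (bv (i + 4)) = 0 := Model.B_self _
  rw [Model.X_apply' (q_bv i) h0, h4, one_smul, Model.B_add_left, h5, add_zero, Model.q_add, hu, q_bv, zero_add, zero_add, mul_one]
  have h6 : ∀ a b c : V, a + (b + a) + c + c = b := fun a b c => by
    have h7 : a + (b + a) + c + c = b + (a + a) + (c + c) := by abel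
    rw [h7, Model.add_self, Model.add_self, add_zero, add_zero]
  exact h6 _ _ _

/-- The basis vectors are conjugate. -/
theorem exists_H_b (i j : Fin 8) (h : ok i j) : ∃ g ∈ H, g (bv i) = bv j := by
  have h4 : ∀ i j : Fin 8, ok i j → ok (i + 4) (j + 4) ∧ ok j i := by decide
  obtain ⟨h5, h6⟩ := h4 i j h
  have hq : q (bv i + bv j) = 0 := by rw [Model.q_add, q_bv, q_bv, B_bv, if_neg h.2]; decide
  have e1 : B (bv (i + 4)) (bv i + bv j) = 1 := by
    rw [Model.B_add_right, B_bv, B_bv, add_four, if_pos rfl, if_neg h.1, add_zero]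
  have e2 : B (bv (j + 4)) (bv i + bv j) = 1 := by
    rw [Model.B_add_right, B_bv, B_bv, add_four, if_pos rfl, if_neg h6.1, zero_add]
  obtain ⟨g1, hg1, k1⟩ := exists_H (i + 4) hq e1
  obtain ⟨g2, hg2, k2⟩ := exists_H (j + 4) hq e2
  rw [add_four] at k1 k2
  refine ⟨g2⁻¹ * g1, mul_mem (inv_mem hg2) hg1, ?_⟩
  show g2.symm (g1 (bv i)) = bv j
  rw [k1, ← k2, LinearEquiv.symm_apply_apply]

theorem exists_H_zero (i : Fin 8) : ∃ g ∈ H, g (bv 0) = bv i := by
  have h : ∀ i : Fin 8, i = 0 ∨ ok 0 i ∨ (ok 0 1 ∧ ok 1 i) := by decide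
  rcases h i with h | h | ⟨h1, h2⟩
  · exact ⟨1, one_mem _, by rw [h]; rfl⟩
  · exact exists_H_b 0 i h
  · obtain ⟨g1, hg1, k1⟩ := exists_H_b 0 1 h1
    obtain ⟨g2, hg2, k2⟩ := exists_H_b 1 i h2
    refine ⟨g2 * g1, mul_mem hg2 hg1, ?_⟩
    show g2 (g1 (bv 0)) = bv i
    rw [k1, k2]

/-- `H` is transitive on the singular vectors. -/
theorem exists_H_sing {u : V} (hu : q u = 0) (h0 : u ≠ 0) : ∃ g ∈ H, g (bv 0) = u := by
  have h1 : ∃ i, B (bv i) u = 1 := by
    by_contra hcon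
    push Not at hcon
    apply h0
    rw [eq_sum u]
    refine Finset.sum_eq_zero fun j _ => ?_
    rw [Model.B_comm, (Model.z2 _).resolve_right (hcon _), zero_smul]
  obtain ⟨i, hi⟩ := h1
  obtain ⟨g1, hg1, k1⟩ := exists_H i hu hi
  obtain ⟨g2, hg2, k2⟩ := exists_H_zero (i + 4)
  refine ⟨g1 * g2, mul_mem hg1 hg2, ?_⟩
  show g1 (g2 (bv 0)) = u
  rw [k2, k1]

theorem X_mem_H' {u w : V} : X u w ∈ H := by
  by_cases h : q u = 0 ∧ B u w = 0
  · by_cases h0 : u = 0
    · have : X u w = 1 := by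
        ext v : 1
        rw [Model.X_apply' h.1 h.2, h0, Model.B_zero_left]
        simp
      rw [this]; exact one_mem _
    · obtain ⟨g, hg, k⟩ := exists_H_sing h.1 h0
      have hgO : g ∈ O8 := Model.Om_le (H_le hg)
      have h1 : B (bv 0) (g⁻¹ w) = 0 := by
        rw [← Model.O8_B hgO, k]
        show B u (g (g.symm w)) = 0
        rw [LinearEquiv.apply_symm_apply]
        exact h.2
      have h2 := Model.X_conj hgO (bv 0) (g⁻¹ w)
      rw [k] at h2
      have h3 : g (g⁻¹ w) = w := LinearEquiv.apply_symm_apply g w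
      rw [h3] at h2
      rw [← h2]
      exact mul_mem (mul_mem hg (X_mem_H 0 h1)) (inv_mem hg)
  · rw [X, dif_neg h]; exact one_mem _

theorem H_eq : H = Om := by
  apply le_antisymm H_le
  show Subgroup.closure _ ≤ H
  rw [Subgroup.closure_le]
  rintro _ ⟨u, w, hu, hw, rfl⟩
  have h1 := Model.X_eq hu hw
  rw [← h1]
  exact X_mem_H'

/-- **`Om` is generated by the 24 root elements.** -/
theorem gen : Subgroup.closure {m : Om | ∃ s ∈ Φ, m = xm s} = ⊤ := by
  rw [eq_top_iff]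
  intro m _
  have h1 : (m : V ≃ₗ[ZMod 2] V) ∈ H := by rw [H_eq]; exact m.2
  have h2 : H ≤ (Subgroup.closure {m : Om | ∃ s ∈ Φ, m = xm s}).map Om.subtype := by
    unfold H
    rw [Subgroup.closure_le]
    rintro _ ⟨i, j, hij, rfl⟩
    have h3 : ∀ r, Om.subtype (xm r) = xO r := fun r => by delta xm; exact Subgroup.subtype_apply _
    exact ⟨xm (wt i + wt j), Subgroup.subset_closure ⟨wt i + wt j, wt_mem i j hij, rfl⟩, (h3 _).trans (xO_wt hij)⟩
  obtain ⟨m', hm', e⟩ := h2 h1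
  have e2 : m' = m := Subtype.ext e
  rw [← e2]
  exact hm'

/-! ### The product -/

/-- The diagram automorphism of order 3. -/
def rho (s : E) : E :=
  ![(s 0 + s 1 + s 2 + s 3) / 2, (s 0 + s 1 - s 2 - s 3) / 2, (s 0 - s 1 + s 2 - s 3) / 2, (-s 0 + s 1 + s 2 - s 3) / 2]

/-- The inverse of `rho`. -/
def rhoi (s : E) : E :=
  ![(s 0 + s 1 + s 2 - s 3) / 2, (s 0 + s 1 - s 2 + s 3) / 2, (s 0 - s 1 + s 2 + s 3) / 2, (s 0 - s 1 - s 2 - s 3) / 2]

theorem rho_mem : ∀ s ∈ roots, rho s ∈ roots ∧ rhoi s ∈ roots ∧ rho (rhoi s) = s ∧ rhoi (rho s) = s ∧ rho (rho s) = rhoi s := by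
  decide +kernel

/-- The product. -/
def pr (v w : Dc.V) : Dc.V :=
  ![v 0 * w 3 + v 1 * w 2 + v 2 * w 1 + v 7 * w 0,
    v 0 * w 6 + v 1 * w 7 + v 3 * w 1 + v 6 * w 0,
    v 0 * w 5 + v 2 * w 7 + v 3 * w 2 + v 5 * w 0,
    v 0 * w 4 + v 5 * w 1 + v 6 * w 2 + v 7 * w 7,
    v 3 * w 4 + v 4 * w 7 + v 5 * w 6 + v 6 * w 5,
    v 2 * w 4 + v 4 * w 2 + v 5 * w 3 + v 7 * w 5,
    v 1 * w 4 + v 4 * w 1 + v 6 * w 3 + v 7 * w 6,
    v 1 * w 5 + v 2 * w 6 + v 3 * w 3 + v 4 * w 0]

theorem pr_add_left (u v w : Dc.V) : pr (u + v) w = pr u w + pr v w := by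
  have h : ∀ a b c d a' b' c' d' x y z t : ZMod 2, (a + a') * x + (b + b') * y + (c + c') * z + (d + d') * t =
      a * x + b * y + c * z + d * t + (a' * x + b' * y + c' * z + d' * t) := fun _ _ _ _ _ _ _ _ _ _ _ _ => by ring
  funext k
  fin_cases k <;> exact h ..

theorem pr_add_right (u v w : Dc.V) : pr u (v + w) = pr u v + pr u w := by
  have h : ∀ a b c d a' b' c' d' x y z t : ZMod 2, x * (a + a') + y * (b + b') + z * (c + c') + t * (d + d') =
      x * a + y * b + z * c + t * d + (x * a' + y * b' + z * c' + t * d') := fun _ _ _ _ _ _ _ _ _ _ _ _ => by ring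
  funext k
  fin_cases k <;> exact h ..

theorem pr_smul_left (a : ZMod 2) (v w : Dc.V) : pr (a • v) w = a • pr v w := by
  have h : ∀ e b c d x y z t : ZMod 2, a * e * x + a * b * y + a * c * z + a * d * t =
      a * (e * x + b * y + c * z + d * t) := fun _ _ _ _ _ _ _ _ => by ring
  funext k
  fin_cases k <;> exact h ..

theorem pr_smul_right (a : ZMod 2) (v w : Dc.V) : pr v (a • w) = a • pr v w := by
  have h : ∀ e b c d x y z t : ZMod 2, e * (a * x) + b * (a * y) + c * (a * z) + d * (a * t) =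
      a * (e * x + b * y + c * z + d * t) := fun _ _ _ _ _ _ _ _ => by ring
  funext k
  fin_cases k <;> exact h ..

/-- the root element in coordinates -/
def xf (s : E) (v : Dc.V) : Dc.V := Dc.Xf (Dc.b (hd s).1) (Dc.b (hd s).2) v

private def cN (v : ℕ → ℕ) : Dc.V := fun i => ((v i.1 : ℕ) : ZMod 2)

private noncomputable def bN (k m : ℕ) : ℕ := @Bool.rec (fun _ => ℕ) 0 1 (Nat.beq k m)

private def s4 (a x b y c z d t : ℕ) : ℕ := Nat.add (Nat.add (Nat.add (Nat.mul a x) (Nat.mul b y)) (Nat.mul c z)) (Nat.mul d t)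

private noncomputable def pN (v w : ℕ → ℕ) (m : ℕ) : ℕ :=
  @Bool.rec (fun _ => ℕ)
    (@Bool.rec (fun _ => ℕ)
      (@Bool.rec (fun _ => ℕ) (s4 (v 1) (w 5) (v 2) (w 6) (v 3) (w 3) (v 4) (w 0)) (s4 (v 1) (w 4) (v 4) (w 1) (v 6) (w 3) (v 7) (w 6))
        (Nat.ble m 6))
      (@Bool.rec (fun _ => ℕ) (s4 (v 2) (w 4) (v 4) (w 2) (v 5) (w 3) (v 7) (w 5)) (s4 (v 3) (w 4) (v 4) (w 7) (v 5) (w 6) (v 6) (w 5))
        (Nat.ble m 4)) (Nat.ble m 5))
    (@Bool.rec (fun _ => ℕ)
      (@Bool.rec (fun _ => ℕ) (s4 (v 0) (w 4) (v 5) (w 1) (v 6) (w 2) (v 7) (w 7)) (s4 (v 0) (w 5) (v 2) (w 7) (v 3) (w 2) (v 5) (w 0))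
        (Nat.ble m 2))
      (@Bool.rec (fun _ => ℕ) (s4 (v 0) (w 6) (v 1) (w 7) (v 3) (w 1) (v 6) (w 0)) (s4 (v 0) (w 3) (v 1) (w 2) (v 2) (w 1) (v 7) (w 0))
        (Nat.ble m 0)) (Nat.ble m 1)) (Nat.ble m 3)

private def BN (v w : ℕ → ℕ) : ℕ :=
  Nat.add (s4 (v 0) (w 4) (v 4) (w 0) (v 1) (w 5) (v 5) (w 1)) (s4 (v 2) (w 6) (v 6) (w 2) (v 3) (w 7) (v 7) (w 3))

private def XN (u v w : ℕ → ℕ) (m : ℕ) : ℕ := Nat.add (Nat.add (w m) (Nat.mul (BN w v) (u m))) (Nat.mul (BN w u) (v m))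

private noncomputable def fB (x : ℕ) (f : ℕ → Bool) : Bool := Nat.rec (f 0) (fun n _ => f (Nat.succ n)) x

private def a8 (p : ℕ → Bool) : Bool := and (and (and (p 0) (p 1)) (and (p 2) (p 3))) (and (and (p 4) (p 5)) (and (p 6) (p 7)))

private noncomputable def ck (a b c d e f : ℕ) : Bool :=
  fB a fun a => fB b fun b => fB c fun c => fB d fun d => fB e fun e => fB f fun f => a8 fun k => a8 fun l => a8 fun m =>
    Nat.beq (Nat.mod (XN (bN a) (bN b) (pN (bN k) (bN l)) m) 2)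
      (Nat.mod (pN (XN (bN c) (bN d) (bN k)) (XN (bN e) (bN f) (bN l)) m) 2)

theorem pr_b : ∀ s ∈ roots, ∀ k l : Fin 8,
    xf s (pr (Dc.b k) (Dc.b l)) = pr (xf (rho s) (Dc.b k)) (xf (rhoi s) (Dc.b l)) := by
  have h0 : ∀ s ∈ roots, ck (hd s).1.1 (hd s).2.1 (hd (rho s)).1.1 (hd (rho s)).2.1 (hd (rhoi s)).1.1 (hd (rhoi s)).2.1 = true := by
    decide +kernel
  have h1 : ∀ k : Fin 8, Dc.b k = cN (bN k.1) := by decide +kernel
  have h2 : ∀ a x b y c z d t : ℕ, (a : ZMod 2) * x + b * y + c * z + d * t = (s4 a x b y c z d t : ℕ) :=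
    fun _ _ _ _ _ _ _ _ => by simp only [s4, Nat.add_eq, Nat.mul_eq, Nat.cast_add, Nat.cast_mul]
  have h3 : ∀ v w, pr (cN v) (cN w) = cN (pN v w) := fun v w => by
    funext k
    fin_cases k <;> exact h2 ..
  have h4 : ∀ v w, Dc.B (cN v) (cN w) = (BN v w : ℕ) := fun v w => by
    rw [BN, Nat.add_eq, Nat.cast_add, ← h2, ← h2]
    simp only [Dc.B, ← add_assoc]
    rfl
  have h5 : ∀ u v w, Dc.Xf (cN u) (cN v) (cN w) = cN (XN u v w) := fun u v w => by
    funext m
    show cN w m + Dc.B (cN w) (cN v) * cN u m + Dc.B (cN w) (cN u) * cN v m = _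
    simp only [h4, cN, XN, Nat.add_eq, Nat.mul_eq, Nat.cast_add, Nat.cast_mul]
  have h6 : ∀ x f, fB x f = f x := fun x f => by cases x <;> rfl
  have h7 : ∀ p, a8 p = true → ∀ i : Fin 8, p i.1 = true := fun p h i => by
    simp only [a8, Bool.and_eq_true] at h
    obtain ⟨⟨⟨_, _⟩, _, _⟩, ⟨_, _⟩, _, _⟩ := h
    fin_cases i <;> assumption
  intro s hs k l
  have h := h0 s hs
  rw [ck, h6, h6, h6, h6, h6, h6] at h
  simp only [xf, h1, h3, h5]
  funext m
  exact (ZMod.natCast_eq_natCast_iff' _ _ 2).2 (Nat.eq_of_beq_eq_true (h7 _ (h7 _ (h7 _ h k) l) m))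

end Cfsg.Agent.StdO8.Tri

private theorem dce_061a70c31cc5 : _root_.True := by
  try have : _root_.True := by simp only [_root_.Cfsg.Agent.StdO8.Tri.pr.eq_1]
  exact _root_.True.intro
end

-- part: StdO8/Uni
section
prune_inst 0x100041405122000000000002200000041800009200420000210002000a48226280002e000c20011200a2800400040048130000400200000000000200413805a18001120251d1000000000100b880000000000000000000000000000000000000000400000
set_option linter.all false
open scoped Cfsg.Agent.FastGrp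

/-!
# The positive root elements of `Ω₈⁺(2)`

Independence (`dir`) and order (`card_pos`) of the group generated by the positive root elements; the end of the doubling
argument for `L ≅ Ω₈⁺(2)` (`exists_hom`).
-/

set_option autoImplicit false

namespace Cfsg.Agent.StdO8.Uni

open Cfsg.Agent.StdO8.Model (V q B X O8 Om)
open Cfsg.Agent.StdO8.D4Root (E ip roots Φ)
open Cfsg.Agent.StdO8.Frame (Ctx)
open Cfsg.Agent.StdO8.Bas
open Cfsg.Agent.StdO8.DataOf
open Cfsg.Agent.OddHalf.SL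

/-- The height. -/
def ht : E →+ ℤ where
  toFun v := 3 * v 0 + 2 * v 1 + v 2
  map_zero' := rfl
  map_add' v w := by
    simp only [Pi.add_apply]
    ring

theorem ht_apply (v : E) : ht v = 3 * v 0 + 2 * v 1 + v 2 := rfl

/-- The height of a weight. -/
def hw (i : Fin 8) : ℤ := 3 * wt i 0 + 2 * wt i 1 + wt i 2

theorem ht_wt (i : Fin 8) : ht (wt i) = hw i := rfl

/-- The matrix entries. -/
def en (g : V ≃ₗ[ZMod 2] V) (k l : Fin 8) : ZMod 2 := th g (Dc.b k) l

theorem th_add (g : V ≃ₗ[ZMod 2] V) (v w : Dc.V) : th g (v + w) = th g v + th g w := by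
  unfold th
  rw [ofD_add, map_add, toD_add]

theorem th_smul (g : V ≃ₗ[ZMod 2] V) (a : ZMod 2) (v : Dc.V) : th g (a • v) = a • th g v := by
  unfold th
  rw [show ofD (a • v) = a • ofD v from rfl, map_smul, toD_smul]

/-- `th g` as a linear map. -/
def thL (g : V ≃ₗ[ZMod 2] V) : Dc.V →ₗ[ZMod 2] Dc.V where
  toFun := th g
  map_add' := th_add g
  map_smul' := th_smul g

theorem th_sum (g : V ≃ₗ[ZMod 2] V) (v : Dc.V) (l : Fin 8) : th g v l = ∑ m, v m * en g m l := by
  have h := LinearMap.pi_apply_eq_sum_univ (thL g) v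
  have h2 := congrFun h l
  rw [Finset.sum_apply] at h2
  refine h2.trans (Finset.sum_congr rfl fun m _ => ?_)
  rw [Pi.smul_apply, smul_eq_mul]
  congr 1
  show th g (fun j => if m = j then 1 else 0) l = th g (Dc.b m) l
  congr 2
  funext j
  rw [Dc.b_apply]
  by_cases h : m = j
  · rw [if_pos h, if_pos h.symm]
  · rw [if_neg h, if_neg (Ne.symm h)]

theorem en_mul (g g' : V ≃ₗ[ZMod 2] V) (k l : Fin 8) : en (g * g') k l = ∑ m, en g' k m * en g m l := by
  unfold en
  rw [th_mul, th_sum]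
  rfl

theorem en_one (k l : Fin 8) : en 1 k l = if l = k then 1 else 0 := by
  unfold en
  rw [th_one, Dc.b_apply]

/-- Unitriangular matrices which are trivial below height `h`. -/
structure Low (h : ℤ) (g : V ≃ₗ[ZMod 2] V) : Prop where
  diag : ∀ k, en g k k = 1
  off : ∀ k l, l ≠ k → hw l - hw k < h → en g k l = 0

theorem Low.one (h : ℤ) : Low h 1 where
  diag := fun k => by rw [en_one, if_pos rfl]
  off := fun k l hkl _ => by rw [en_one, if_neg hkl]

theorem Low.mul {h : ℤ} (h1 : 1 ≤ h) {g g' : V ≃ₗ[ZMod 2] V} (hg : Low h g) (hg' : Low h g') : Low h (g * g') where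
  diag := fun k => by
    rw [en_mul, Finset.sum_eq_single k]
    · rw [hg.diag, hg'.diag, mul_one]
    · intro m _ hm
      by_cases h2 : hw m - hw k < h
      · rw [hg'.off k m hm h2, zero_mul]
      · rw [hg.off m k hm.symm (by omega), mul_zero]
    · intro h2; exact absurd (Finset.mem_univ k) h2
  off := fun k l hkl hlt => by
    rw [en_mul]
    refine Finset.sum_eq_zero fun m _ => ?_
    by_cases hm : m = k
    · rw [hm, hg.off k l hkl hlt, mul_zero]
    by_cases h2 : hw m - hw k < h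
    · rw [hg'.off k m hm h2, zero_mul]
    · have hlm : l ≠ m := fun e => by rw [e] at hlt; exact h2 hlt
      rw [hg.off m l hlm (by omega), mul_zero]

theorem en_mul_eq {h : ℤ} (h1 : 1 ≤ h) {g g' : V ≃ₗ[ZMod 2] V} (hg : Low h g) (hg' : Low h g') {k l : Fin 8}
    (hkl : hw l - hw k = h) : en (g * g') k l = en g k l + en g' k l := by
  have hne : k ≠ l := fun e => by rw [e] at hkl; omega
  rw [en_mul, ← Finset.sum_subset (Finset.subset_univ ({k, l} : Finset (Fin 8)))]
  · rw [Finset.sum_pair hne, hg'.diag, hg.diag, one_mul, mul_one]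
  · intro m _ hm
    have hmk : m ≠ k := fun e => hm (by rw [e]; simp)
    have hml : m ≠ l := fun e => hm (by rw [e]; simp)
    by_cases h2 : hw m - hw k < h
    · rw [hg'.off k m hmk h2, zero_mul]
    · rw [hg.off m l hml.symm (by omega), mul_zero]

instance : Finite (V ≃ₗ[ZMod 2] V) := Finite.of_injective (fun g => (g : V → V)) DFunLike.coe_injective

/-- The matrices of height at least `h` with entry `0` at the place `(k, l)`. -/
def K (h : ℤ) (h1 : 1 ≤ h) (k l : Fin 8) (hkl : hw l - hw k = h) : Subgroup (V ≃ₗ[ZMod 2] V) :=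
  let M : Submonoid (V ≃ₗ[ZMod 2] V) :=
    { carrier := {g | Low h g ∧ en g k l = 0}
      one_mem' := ⟨Low.one h, by
        have hne : l ≠ k := fun e => by rw [e] at hkl; omega
        rw [en_one, if_neg hne]⟩
      mul_mem' := fun {g g'} hg hg' => ⟨Low.mul h1 hg.1 hg'.1, by
        rw [en_mul_eq h1 hg.1 hg'.1 hkl, hg.2, hg'.2, add_zero]⟩ }
  { M with
    inv_mem' := fun {g} hg => by
      have hf : IsOfFinOrder g := isOfFinOrder_of_finite g
      have h2 : g⁻¹ ∈ Submonoid.powers g := hf.mem_powers_iff_mem_zpowers.2 (inv_mem (Subgroup.mem_zpowers g))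
      have h3 : Submonoid.powers g ≤ M := by
        rw [Submonoid.powers_le]
        exact hg
      exact h3 h2 }

theorem mem_K {h : ℤ} {h1 : 1 ≤ h} {k l : Fin 8} {hkl : hw l - hw k = h} {g : V ≃ₗ[ZMod 2] V} :
    g ∈ K h h1 k l hkl ↔ Low h g ∧ en g k l = 0 := Iff.rfl

/-- the entries of a root element -/
theorem en_xb {i j : Fin 8} (hij : ok i j) (k l : Fin 8) : en (xb i j) k l = Dc.Xf (Dc.b i) (Dc.b j) (Dc.b k) l := by
  unfold en
  rw [th_xb hij]

theorem ent1 : ∀ i j k : Fin 8, ok i j → Dc.Xf (Dc.b i) (Dc.b j) (Dc.b k) k = 1 := by decide +kernel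

theorem ent2 : ∀ i j k l : Fin 8, ok i j → l ≠ k → Dc.Xf (Dc.b i) (Dc.b j) (Dc.b k) l ≠ 0 →
    (k = i + 4 ∧ l = j) ∨ (k = j + 4 ∧ l = i) := by decide +kernel

theorem ent3 : ∀ i j : Fin 8, ok i j → Dc.Xf (Dc.b i) (Dc.b j) (Dc.b (i + 4)) j = 1 := by decide +kernel

theorem hw_bar : ∀ i : Fin 8, hw (i + 4) = - hw i := by decide

theorem low_xb {i j : Fin 8} (hij : ok i j) {h : ℤ} (hh : h ≤ hw i + hw j) : Low h (xb i j) where
  diag := fun k => by rw [en_xb hij, ent1 i j k hij]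
  off := fun k l hkl hlt => by
    rw [en_xb hij]
    by_contra h0
    rcases ent2 i j k l hij hkl h0 with ⟨e1, e2⟩ | ⟨e1, e2⟩
    · rw [e1, e2, hw_bar] at hlt
      omega
    · rw [e1, e2, hw_bar] at hlt
      omega

/-- A root element is independent of the root elements of the other roots of at least the same height. -/
theorem mem_K_of_ne {a b : E} (ha : a ∈ Φ) (hb : b ∈ Φ) (h1 : 1 ≤ ht a) (h2 : ht a ≤ ht b) (hab : b ≠ a) :
    ∃ k l, ∃ hkl : hw l - hw k = ht a, xO b ∈ K (ht a) h1 k l hkl ∧ en (xO a) k l = 1 ∧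
      k = (hd a).1 + 4 ∧ l = (hd a).2 := by
  obtain ⟨ha1, ha2⟩ := wt_hd a ha
  obtain ⟨hb1, hb2⟩ := wt_hd b hb
  have e : hw (hd a).2 - hw ((hd a).1 + 4) = ht a := by
    rw [hw_bar, ← ht_wt, ← ht_wt, sub_neg_eq_add, ← map_add, add_comm, ha1]
  refine ⟨(hd a).1 + 4, (hd a).2, e, mem_K.2 ⟨?_, ?_⟩, ?_, rfl, rfl⟩
  · unfold xO
    refine low_xb hb2 ?_
    rw [← ht_wt, ← ht_wt, ← map_add, hb1]
    exact h2
  · unfold xO
    rw [en_xb hb2]
    by_contra h0
    have hne : (hd a).2 ≠ (hd a).1 + 4 := ha2.2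
    rcases ent2 _ _ _ _ hb2 hne h0 with ⟨e1, e2⟩ | ⟨e1, e2⟩
    · apply hab
      rw [← ha1, ← hb1, ← e2, add_right_cancel e1]
    · apply hab
      rw [← ha1, ← hb1, ← e2, add_right_cancel e1, add_comm]
  · unfold xO
    rw [en_xb ha2, ent3 _ _ ha2]

variable {G : Type*} [Group G] (C : Ctx G)

theorem mem_zpowers {r : E} {g : G} (h : g ∈ Subgroup.zpowers (x C r)) : g = 1 ∨ g = x C r := by
  obtain ⟨k, rfl⟩ := h
  have h2 : x C r ^ (2 : ℤ) = 1 := by rw [zpow_ofNat, pow_two]; exact x_sq C r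
  rcases Int.even_or_odd' k with ⟨m, rfl | rfl⟩
  · left
    show x C r ^ (2 * m) = 1
    rw [zpow_mul, h2, one_zpow]
  · right
    show x C r ^ (2 * m + 1) = x C r
    rw [zpow_add, zpow_mul, h2, one_zpow, one_mul, zpow_one]

/-- **Independence.** -/
theorem not_mem {a : E} (ha : a ∈ Φ) (h1 : 0 < ht a) :
    x C a ∉ (⨆ b : E, ⨆ _ : b ∈ Φ ∧ ht a ≤ ht b ∧ b ≠ a, Subgroup.zpowers (x C b)) := by
  intro hmem
  obtain ⟨ha1, ha2⟩ := wt_hd a ha
  have e : hw (hd a).2 - hw ((hd a).1 + 4) = ht a := by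
    rw [hw_bar, ← ht_wt, ← ht_wt, sub_neg_eq_add, ← map_add, add_comm, ha1]
  have hle : (⨆ b : E, ⨆ _ : b ∈ Φ ∧ ht a ≤ ht b ∧ b ≠ a, Subgroup.zpowers (x C b)) ≤
      ((K (ht a) h1 ((hd a).1 + 4) (hd a).2 e).comap Om.subtype).map C.r := by
    refine iSup₂_le fun b hb => ?_
    rw [Subgroup.zpowers_le]
    obtain ⟨k, l, hkl, h2, -, rfl, rfl⟩ := mem_K_of_ne ha hb.1 h1 hb.2.1 hb.2.2
    exact ⟨xm b, h2, rfl⟩
  obtain ⟨m, hm, hm2⟩ := hle hmem
  have h3 : m = xm a := C.inj hm2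
  have h4 : en (xO a) ((hd a).1 + 4) (hd a).2 = 0 := by
    rw [h3] at hm
    have h5 : Low (ht a) (xO a) ∧ en (xO a) ((hd a).1 + 4) (hd a).2 = 0 := hm
    exact h5.2
  unfold xO at h4
  rw [en_xb ha2, ent3 _ _ ha2] at h4
  exact absurd h4 (by decide)

theorem dir {a : E} (ha : a ∈ Φ) (h1 : 0 < ht a) :
    Subgroup.zpowers (x C a) ⊓ (⨆ b : E, ⨆ _ : b ∈ Φ ∧ ht a ≤ ht b ∧ b ≠ a, Subgroup.zpowers (x C b)) = ⊥ := by
  rw [eq_bot_iff]
  intro g hg
  rw [Subgroup.mem_bot]
  rcases mem_zpowers C hg.1 with h | h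
  · exact h
  · exact absurd (h ▸ hg.2) (not_mem C ha h1)

/-! ### Orders -/

/-- Adjoining an involution. -/
theorem card_sup [Finite G] {H : Subgroup G} {g : G} (hg : g * g = 1) (hn : ∀ h ∈ H, g * h * g ∈ H) (hgH : g ∉ H) :
    Nat.card (H ⊔ Subgroup.zpowers g : Subgroup G) = 2 * Nat.card H := by
  have ginv : g⁻¹ = g := inv_eq_of_mul_eq_one_left hg
  let K : Subgroup G :=
    { carrier := {a | a ∈ H ∨ g * a ∈ H}
      one_mem' := Or.inl (one_mem _)
      mul_mem' := by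
        rintro a b (ha | ha) (hb | hb)
        · exact Or.inl (mul_mem ha hb)
        · right
          have h1 := mul_mem (hn a ha) hb
          have e : g * a * g * (g * b) = g * (a * b) := by
            calc g * a * g * (g * b) = g * a * (g * g) * b := by group
              _ = g * (a * b) := by rw [hg]; group
          rwa [e] at h1
        · right
          have h1 := mul_mem ha hb
          rwa [mul_assoc] at h1
        · left
          have h1 := mul_mem (hn _ ha) hb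
          have e : g * (g * a) * g * (g * b) = a * b := by
            calc g * (g * a) * g * (g * b) = (g * g) * a * (g * g) * b := by group
              _ = a * b := by rw [hg]; group
          rwa [e] at h1
      inv_mem' := by
        rintro a (ha | ha)
        · exact Or.inl (inv_mem ha)
        · right
          have h1 := hn _ (inv_mem ha)
          have e : g * (g * a)⁻¹ * g = g * a⁻¹ := by
            rw [mul_inv_rev, ginv]
            calc g * (a⁻¹ * g) * g = g * a⁻¹ * (g * g) := by group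
              _ = g * a⁻¹ := by rw [hg]; group
          rwa [e] at h1 }
  have hK : H ⊔ Subgroup.zpowers g = K := by
    apply le_antisymm
    · rw [sup_le_iff, Subgroup.zpowers_le]
      exact ⟨fun a ha => Or.inl ha, Or.inr (by rw [hg]; exact one_mem _)⟩
    · rintro a (ha | ha)
      · exact (le_sup_left : H ≤ H ⊔ Subgroup.zpowers g) ha
      · have e : a = g * (g * a) := by rw [← mul_assoc, hg, one_mul]
        rw [e]
        exact mul_mem ((le_sup_right : Subgroup.zpowers g ≤ H ⊔ Subgroup.zpowers g) (Subgroup.mem_zpowers g))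
          ((le_sup_left : H ≤ H ⊔ Subgroup.zpowers g) ha)
  rw [hK]
  have hHK : H ≤ K := fun a ha => Or.inl ha
  have hidx : (H.subgroupOf K).index = 2 := by
    rw [Subgroup.index_eq_two_iff]
    refine ⟨⟨g, Or.inr (by rw [hg]; exact one_mem _)⟩, fun a => ?_⟩
    rw [Subgroup.mem_subgroupOf, Subgroup.mem_subgroupOf]
    show Xor ((a : G) * g ∈ H) ((a : G) ∈ H)
    rcases a.2 with ha | ha
    · right
      exact ⟨ha, fun h => hgH ((Subgroup.mul_mem_cancel_left H ha).1 h)⟩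
    · left
      have h1 := hn _ ha
      have e : g * (g * (a : G)) * g = a * g := by
        calc g * (g * (a : G)) * g = (g * g) * a * g := by group
          _ = a * g := by rw [hg, one_mul]
      rw [e] at h1
      refine ⟨h1, fun h => hgH ?_⟩
      have h2 := (Subgroup.mul_mem_cancel_right H h).1 ha
      exact h2
  have h1 := Subgroup.card_mul_index (H.subgroupOf K)
  rw [hidx, Nat.card_congr (Subgroup.subgroupOfEquivOfLe hHK).toEquiv] at h1
  rw [← h1, mul_comm]

/-- The positive roots by decreasing height. -/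
def posl : List E :=
  [![1, 1, 0, 0], ![1, 0, 1, 0], ![1, 0, 0, 1], ![1, 0, 0, -1], ![0, 1, 1, 0], ![1, 0, -1, 0], ![0, 1, 0, 1], ![0, 1, 0, -1],
   ![1, -1, 0, 0], ![0, 1, -1, 0], ![0, 0, 1, 1], ![0, 0, 1, -1]]

/-- The sequence of the positive roots. -/
def seq (i : ℕ) : E := posl.getD i 0

theorem seq_mem : ∀ i < 12, seq i ∈ roots := by decide +kernel

theorem seq_ht : ∀ i < 12, ∀ j ≤ i, 0 < 3 * seq i 0 + 2 * seq i 1 + seq i 2 ∧
    3 * seq i 0 + 2 * seq i 1 + seq i 2 ≤ 3 * seq j 0 + 2 * seq j 1 + seq j 2 := by decide +kernel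

theorem seq_ne : ∀ i < 12, ∀ j < i, seq j ≠ seq i := by decide +kernel

theorem seq_surj : ∀ r ∈ roots, 0 < 3 * r 0 + 2 * r 1 + r 2 → ∃ i ∈ Finset.range 12, seq i = r := by decide +kernel

theorem seq_add : ∀ i < 12, ∀ j < i, 0 ≤ ip (seq j) (seq i) ∨
    (ip (seq j) (seq i) = -1 ∧ ∃ k ∈ Finset.range i, seq k = seq j + seq i) := by decide +kernel

/-- The group generated by the first `k` positive root elements. -/
noncomputable def Us (k : ℕ) : Subgroup G := Cfsg.Agent.Doubling.Growth.W (fun i => Subgroup.zpowers (x C (seq i))) k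

theorem Us_succ (k : ℕ) : Us C (k + 1) = Us C k ⊔ Subgroup.zpowers (x C (seq k)) :=
  Cfsg.Agent.Doubling.Growth.W_succ _ k

theorem mem_Us {i k : ℕ} (h : i < k) : x C (seq i) ∈ Us C k :=
  Cfsg.Agent.Doubling.Growth.le_W (fun i => Subgroup.zpowers (x C (seq i))) h (Subgroup.mem_zpowers _)

theorem norm_Us {k : ℕ} (hk : k < 12) : ∀ h ∈ Us C k, x C (seq k) * h * x C (seq k) ∈ Us C k := by
  have e : Us C k ≤ (Us C k).comap (MulAut.conj (x C (seq k))).toMonoidHom := by
    refine iSup₂_le fun i hi => ?_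
    rw [Subgroup.zpowers_le]
    show x C (seq k) * x C (seq i) * (x C (seq k))⁻¹ ∈ Us C k
    rw [inv_eq_of_mul_eq_one_left (x_sq C _)]
    rcases seq_add k hk i hi with h1 | ⟨h1, j, hj, h2⟩
    · rw [← x_comm C (seq_mem i (hi.trans hk)) (seq_mem k hk) h1, mul_assoc, x_sq, mul_one]
      exact mem_Us C hi
    · rw [x_conj C (seq_mem i (hi.trans hk)) (seq_mem k hk) h1, ← h2]
      exact mul_mem (mem_Us C hi) (mem_Us C (Finset.mem_range.1 hj))
  intro h hh
  have := e hh
  change x C (seq k) * h * (x C (seq k))⁻¹ ∈ Us C k at this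
  rwa [inv_eq_of_mul_eq_one_left (x_sq C _)] at this

theorem not_mem_Us {k : ℕ} (hk : k < 12) : x C (seq k) ∉ Us C k := by
  intro h
  have h1 := seq_ht k hk k le_rfl
  refine not_mem C (a := seq k) (seq_mem k hk) h1.1 ?_
  refine (?_ : Us C k ≤ _) h
  refine iSup₂_le fun i hi => ?_
  refine le_iSup₂_of_le (f := fun b (_ : b ∈ Φ ∧ ht (seq k) ≤ ht b ∧ b ≠ seq k) => Subgroup.zpowers (x C b)) (seq i)
    ⟨seq_mem i (hi.trans hk), (seq_ht k hk i hi.le).2, seq_ne k hk i hi⟩ le_rfl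

theorem card_Us [Finite G] : ∀ k ≤ 12, Nat.card (Us C k) = 2 ^ k := by
  intro k
  induction k with
  | zero =>
    intro _
    have : Us C 0 = ⊥ := Cfsg.Agent.Doubling.Growth.W_zero _
    rw [this]
    simp
  | succ k ih =>
    intro hk
    rw [Us_succ, card_sup (x_sq C _) (norm_Us C (Nat.lt_of_succ_le hk)) (not_mem_Us C (Nat.lt_of_succ_le hk)),
      ih (Nat.le_of_succ_le hk), pow_succ]
    ring

/-- The group generated by the positive root elements. -/
noncomputable abbrev U : Subgroup G := Bridge.pos ht Φ (fun r => Subgroup.zpowers (x C r))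

theorem U_eq : U C = Us C 12 := by
  apply le_antisymm
  · refine iSup₂_le fun a ha => ?_
    obtain ⟨i, hi, rfl⟩ := seq_surj a ha.1 ha.2
    rw [Subgroup.zpowers_le]
    exact mem_Us C (Finset.mem_range.1 hi)
  · refine iSup₂_le fun i hi => ?_
    exact Bridge.le_pos (X := fun r => Subgroup.zpowers (x C r)) (seq_mem i hi) (seq_ht i hi i le_rfl).1

/-- **The order of the group generated by the positive root elements.** -/
theorem card_U [Finite G] : Nat.card (U C) = 2 ^ 12 := by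
  rw [U_eq]
  exact card_Us C 12 le_rfl

theorem U_le : U C ≤ C.L := iSup₂_le fun a _ => by
  rw [Subgroup.zpowers_le]
  exact x_mem C a

theorem card_Om : Nat.card Om = 2 ^ 12 * 42525 := by
  obtain ⟨e⟩ := Model.exists_equiv (F := ZMod 2) (ZMod.card 2)
  rw [← Nat.card_congr e.toEquiv]
  have h := Cfsg.Agent.S0293.result (F := ZMod 2) (q := 2) (ZMod.card 2) 4 le_rfl
  have h1 : Nat.gcd 4 (2 ^ 4 - 1) = 1 := by norm_num
  rw [h1, one_mul] at h
  rw [h]
  simp [Finset.prod_range_succ]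

theorem card_L : Nat.card C.L = 2 ^ 12 * 42525 := by
  rw [← card_Om]
  exact (Nat.card_congr (MonoidHom.ofInjective C.inj).toEquiv).symm

theorem t_conj {H : Subgroup G} (hH : H ≤ C.L) : ∀ h ∈ H, C.t * h * C.t ∈ H := fun h hh => by
  obtain ⟨m, rfl⟩ := hH hh
  rw [← (C.comm m).eq, mul_assoc, C.tt, mul_one]
  exact hh

/-- `⟨t⟩ U` is a Sylow subgroup of `⟨t⟩ L`. -/
theorem odd_relIndex [Finite G] : Odd ((U C ⊔ Subgroup.zpowers C.t).relIndex (C.L ⊔ Subgroup.zpowers C.t)) := by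
  have h1 : Nat.card (U C ⊔ Subgroup.zpowers C.t : Subgroup G) = 2 ^ 13 := by
    rw [card_sup C.tt (t_conj C (U_le C)) (fun h => C.t_notMem (U_le C h)), card_U]
    norm_num
  have h2 : Nat.card (C.L ⊔ Subgroup.zpowers C.t : Subgroup G) = 2 ^ 13 * 42525 := by
    rw [card_sup C.tt (t_conj C le_rfl) C.t_notMem, card_L]
    norm_num
  have hle : U C ⊔ Subgroup.zpowers C.t ≤ C.L ⊔ Subgroup.zpowers C.t := sup_le_sup_right (U_le C) _
  have h3 := Subgroup.card_mul_index ((U C ⊔ Subgroup.zpowers C.t).subgroupOf (C.L ⊔ Subgroup.zpowers C.t))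
  rw [Nat.card_congr (Subgroup.subgroupOfEquivOfLe hle).toEquiv, h1, h2] at h3
  have h4 : (U C ⊔ Subgroup.zpowers C.t).relIndex (C.L ⊔ Subgroup.zpowers C.t) = 42525 :=
    Nat.eq_of_mul_eq_mul_left (by norm_num) h3
  rw [h4]
  decide

/-- **The end of the doubling argument** for `L ≅ Ω₈⁺(2)` and `|C(t) : ⟨t⟩ L|` odd. -/
theorem exists_hom [Finite G] {y : E → G} (y_sq : ∀ r ∈ Φ, y r * y r = 1) (ty : ∀ r ∈ Φ, y r * C.t * y r = C.t * x C r)
    (yC : ∀ r ∈ Φ, ∀ g ∈ C.L, g * x C r = x C r * g → g * y r = y r * g)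
    (hodd : Odd ((C.L ⊔ Subgroup.zpowers C.t).relIndex (Subgroup.centralizer {C.t}))) :
    ∃ m : G →* ℤˣ, m C.t = -1 := by
  refine (data C y_sq ty yC).exists_hom D4Root.root ht (fun a ha h1 => dir C ha h1) ?_
  have h1 : C.L ⊔ Subgroup.zpowers C.t ≤ Subgroup.centralizer {C.t} := by
    rw [sup_le_iff, Subgroup.zpowers_le]
    refine ⟨?_, Subgroup.mem_centralizer_singleton_iff.2 rfl⟩
    rintro _ ⟨m, rfl⟩
    exact Subgroup.mem_centralizer_singleton_iff.2 (C.comm m).eq
  have h2 := Subgroup.relIndex_mul_relIndex (U C ⊔ Subgroup.zpowers C.t) (C.L ⊔ Subgroup.zpowers C.t)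
    (Subgroup.centralizer {C.t}) (sup_le_sup_right (U_le C) _) h1
  rw [← h2]
  exact (odd_relIndex C).mul hodd

end Cfsg.Agent.StdO8.Uni
end

-- part: StdO8/FactF
section
set_option linter.all false
open scoped Cfsg.Agent.FastGrp

-- part: StdO8/FactD
section
/-!
# The groups `D` and `Q` in `Om` (facts (f4), (f5), (f6) and the linear part of (f3))
-/

set_option autoImplicit false

namespace Cfsg.Agent.StdO8.FactD

open Cfsg.Agent.StdO8.Model Cfsg.Agent.StdO8.Code Cfsg.Agent.StdO8.Gen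
open Cfsg.Agent.ClassicalGeometry.OrthAut1 Cfsg.Agent.ClassicalGeometry.OrthAut2
open Cfsg.Agent.StdO8.DoubCore (DD QQ TZ)

/-! ### Codes stay below 256 and the comparison of words is exact -/

/-- all entries of a word are below 256 -/
def lt (l : List (ℕ × ℕ)) : Bool := l.all fun p => decide (p.1 < 256) && decide (p.2 < 256)

theorem xn_lt {u w v : ℕ} (hu : u < 256) (hw : w < 256) (hv : v < 256) : xn u w v < 256 := by
  have key : ∀ {b : Bool} {x : ℕ}, x < 256 → (if b then x else 0) < 256 := by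
    intro b x hx
    cases b
    · norm_num
    · exact hx
  rw [xn_bits]
  exact Nat.xor_lt_two_pow (n := 8) (Nat.xor_lt_two_pow (n := 8) hv (Nat.xor_lt_two_pow (n := 8) (key hw) (key hu)))
    (key hu)

theorem ev_lt {l : List (ℕ × ℕ)} (h : lt l = true) {v : ℕ} (hv : v < 256) : ev l v < 256 := by
  induction l with
  | nil => exact hv
  | cons p l ih =>
    rw [lt, List.all_cons, Bool.and_eq_true, Bool.and_eq_true, decide_eq_true_eq, decide_eq_true_eq] at h
    exact xn_lt h.1.1 h.1.2 (ih h.2)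

/-- exact comparison -/
def exa (l l' : List (ℕ × ℕ)) : Bool := l.all ok && l'.all ok && lt l && lt l'

theorem word_eq_iff {l l' : List (ℕ × ℕ)} (h : exa l l' = true) : word l = word l' ↔ same l l' = true := by
  rw [exa, Bool.and_eq_true, Bool.and_eq_true, Bool.and_eq_true] at h
  obtain ⟨⟨⟨h1, h2⟩, h3⟩, h4⟩ := h
  refine ⟨fun e => ?_, word_eq⟩
  rw [same, h1, h2, Bool.true_and, Bool.true_and, List.all_eq_true]
  intro b hb
  have hb' : b < 256 := by
    simp only [basis, List.mem_cons, List.not_mem_nil, or_false] at hb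
    rcases hb with rfl | rfl | rfl | rfl | rfl | rfl | rfl | rfl <;> norm_num
  rw [beq_iff_eq]
  apply dec_inj (ev_lt h3 hb') (ev_lt h4 hb')
  rw [← word_dec h1, ← word_dec h2, e]

/-! ### The elements -/

/-- `z` -/
noncomputable def zO : Om := word (Gw 0)
/-- `r` -/
noncomputable def rO : Om := word (Gw 1)
/-- `dᵢ` -/
noncomputable def dO (i : Fin 3) : Om := word (Gw (2 + i.1))
/-- `τᵢ` -/
noncomputable def τO (i : Fin 3) : Om := word (Gw (5 + i.1))

theorem zO_eq : zO = gen (1, 2) := by rw [zO]; exact word_single _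

/-- power of a word -/
def pw (l : List (ℕ × ℕ)) : ℕ → List (ℕ × ℕ)
  | 0 => []
  | n + 1 => l ++ pw l n

/-- the word `d₀^i d₁^j d₂^k` -/
def cW (i j k : ℕ) : List (ℕ × ℕ) := pw (Gw 2) i ++ (pw (Gw 3) j ++ pw (Gw 4) k)

theorem cW_mul : ∀ i < 3, ∀ j < 3, ∀ k < 3, ∀ l : Fin 3,
    same (Gw (2 + l.1) ++ cW i j k) (cW (if l = 0 then (i + 1) % 3 else i) (if l = 1 then (j + 1) % 3 else j)
      (if l = 2 then (k + 1) % 3 else k)) = true := by decide +kernel

theorem d_cube : ∀ l : Fin 3, same (Gw (2 + l.1) ++ (Gw (2 + l.1) ++ Gw (2 + l.1))) [] = true := by decide +kernel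

theorem dO_cube (l : Fin 3) : dO l * (dO l * dO l) = 1 := by
  have := word_eq (d_cube l)
  rwa [word_append, word_append] at this

theorem dO_inv (l : Fin 3) : (dO l)⁻¹ = dO l * dO l := inv_eq_of_mul_eq_one_right (dO_cube l)

/-- normal form of the elements of `D` -/
theorem DD_nf {c : Om} (hc : c ∈ DD dO) : ∃ i < 3, ∃ j < 3, ∃ k < 3, c = word (cW i j k) := by
  have hm : ∀ (l : Fin 3) (x : Om), (∃ i < 3, ∃ j < 3, ∃ k < 3, x = word (cW i j k)) →
      ∃ i < 3, ∃ j < 3, ∃ k < 3, dO l * x = word (cW i j k) := by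
    rintro l x ⟨i, hi, j, hj, k, hk, rfl⟩
    have key : ∀ {n : ℕ} {b : Prop} [Decidable b], n < 3 → (if b then (n + 1) % 3 else n) < 3 := by
      intro n b _ hn
      split_ifs
      · exact Nat.mod_lt _ (by norm_num)
      · exact hn
    refine ⟨if l = 0 then (i + 1) % 3 else i, key hi, if l = 1 then (j + 1) % 3 else j, key hj,
      if l = 2 then (k + 1) % 3 else k, key hk, ?_⟩
    rw [dO, ← word_append]
    exact word_eq (cW_mul i hi j hj k hk l)
  induction hc using Subgroup.closure_induction_left with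
  | one => exact ⟨0, by norm_num, 0, by norm_num, 0, by norm_num, rfl⟩
  | mul_left x hx y hy ih =>
    obtain ⟨l, rfl⟩ := hx
    exact hm l y ih
  | inv_mul_cancel x hx y hy ih =>
    obtain ⟨l, rfl⟩ := hx
    rw [dO_inv, mul_assoc]
    exact hm l _ (hm l y ih)

theorem word_pw_mem {l : List (ℕ × ℕ)} (S : Subgroup Om) (h : word l ∈ S) (n : ℕ) : word (pw l n) ∈ S := by
  induction n with
  | zero => exact one_mem _
  | succ n ih => rw [pw, word_append]; exact mul_mem h ih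

theorem cW_mem (i j k : ℕ) : word (cW i j k) ∈ DD dO := by
  rw [cW, word_append, word_append]
  have h : ∀ i : Fin 3, word (Gw (2 + i.1)) ∈ DD dO := fun i => Subgroup.subset_closure ⟨i, rfl⟩
  exact mul_mem (word_pw_mem _ (h 0) i) (mul_mem (word_pw_mem _ (h 1) j) (word_pw_mem _ (h 2) k))

/-! ### The unipotent radical of the stabiliser of the line -/

/-- the line `⟨e₀, e₁⟩` -/
def W12 : Submodule (ZMod 2) V := Submodule.span (ZMod 2) {dec 1, dec 2}

theorem mem_W12 {v : V} : v ∈ W12 ↔ ∃ a < 4, v = dec a := by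
  rw [W12, Submodule.mem_span_pair]
  constructor
  · rintro ⟨a, b, rfl⟩
    rcases z2 a with rfl | rfl <;> rcases z2 b with rfl | rfl
    · exact ⟨0, by norm_num, by rw [zero_smul, zero_smul, add_zero, dec_zero]⟩
    · exact ⟨2, by norm_num, by rw [zero_smul, one_smul, zero_add]⟩
    · exact ⟨1, by norm_num, by rw [zero_smul, one_smul, add_zero]⟩
    · exact ⟨3, by norm_num, by rw [one_smul, one_smul, ← dec_xor]; rfl⟩
  · rintro ⟨a, ha, rfl⟩
    interval_cases a
    · exact ⟨0, 0, by rw [zero_smul, zero_smul, add_zero, dec_zero]⟩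
    · exact ⟨1, 0, by rw [zero_smul, one_smul, add_zero]⟩
    · exact ⟨0, 1, by rw [zero_smul, one_smul, zero_add]⟩
    · exact ⟨1, 1, by rw [one_smul, one_smul, ← dec_xor]; rfl⟩

theorem B_W12 {v w : V} (hv : v ∈ W12) (h1 : B (dec 1) w = 0) (h2 : B (dec 2) w = 0) : B v w = 0 := by
  obtain ⟨a, ha, rfl⟩ := mem_W12.1 hv
  interval_cases a
  · rw [dec_zero, B_zero_left]
  · exact h1
  · exact h2
  · have : dec 3 = dec 1 + dec 2 := by rw [← dec_xor]; rfl
    rw [this, B_add_left, h1, h2, add_zero]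

/-- membership of a word in the radical -/
def inU (l : List (ℕ × ℕ)) : Bool :=
  l.all ok && (ev l 1 == 1) && (ev l 2 == 2) &&
    (List.range 256).all fun v => Bn 1 v || Bn 2 v || decide ((ev l v ^^^ v) < 4)

theorem mem_U_of_inU {l : List (ℕ × ℕ)} (h : inU l = true) : word l ∈ U q W12 := by
  rw [inU, Bool.and_eq_true, Bool.and_eq_true, Bool.and_eq_true, beq_iff_eq, beq_iff_eq,
    List.all_eq_true (l := List.range 256)] at h
  obtain ⟨⟨⟨h0, h1⟩, h2⟩, h3⟩ := h
  have e1 : ((word l : Om) : V ≃ₗ[ZMod 2] V) (dec 1) = dec 1 := by rw [word_dec h0, h1]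
  have e2 : ((word l : Om) : V ≃ₗ[ZMod 2] V) (dec 2) = dec 2 := by rw [word_dec h0, h2]
  refine ⟨fun w hw => ?_, fun v hv => ?_⟩
  · obtain ⟨a, ha, rfl⟩ := mem_W12.1 hw
    interval_cases a
    · rw [dec_zero, map_zero]
    · exact e1
    · exact e2
    · have : dec 3 = dec 1 + dec 2 := by rw [← dec_xor]; rfl
      rw [this, map_add, e1, e2]
  · obtain ⟨b, hb, rfl⟩ := dec_surj v
    have b1 : Bn 1 b = false := by
      apply cc_eq_zero
      rw [← B_dec]
      exact hv _ (mem_W12.2 ⟨1, by norm_num, rfl⟩)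
    have b2 : Bn 2 b = false := by
      apply cc_eq_zero
      rw [← B_dec]
      exact hv _ (mem_W12.2 ⟨2, by norm_num, rfl⟩)
    have := h3 b (List.mem_range.2 hb)
    rw [b1, b2, Bool.false_or, Bool.false_or, decide_eq_true_eq] at this
    rw [word_dec h0, sub_eq, ← dec_xor]
    exact mem_W12.2 ⟨_, this, rfl⟩

theorem zO_mem_U : zO ∈ U q W12 := mem_U_of_inU (by decide +kernel)
theorem rO_mem_U : rO ∈ U q W12 := mem_U_of_inU (by decide +kernel)

/-- `D` stabilises the line -/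
theorem DD_stab {c : Om} (hc : c ∈ DD dO) : mapHom (c : V ≃ₗ[ZMod 2] V) W12 = W12 := by
  have h : DD dO ≤ (stab good W12).comap (QuotientGroup.mk' (Subgroup.center Om)) := by
    rw [DD, Subgroup.closure_le]
    rintro _ ⟨i, rfl⟩
    show ((dO i : Om) : P q) ∈ stab good W12
    refine mem_stab_of_map_le good fun w hw => ?_
    obtain ⟨a, ha, rfl⟩ := mem_W12.1 hw
    have key : ∀ i : Fin 3, (Gw (2 + i.1)).all ok = true ∧ ∀ a < 4, ev (Gw (2 + i.1)) a < 4 := by decide +kernel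
    rw [dO, word_dec (key i).1]
    exact mem_W12.2 ⟨_, (key i).2 a ha, rfl⟩
  have h1 := h hc
  have h2 : ((c : Om) : P q) ∈ stab good W12 := h1
  rw [mem_stab, pact_mk] at h2
  exact h2

theorem QQ_le_U : QQ zO rO dO ≤ U q W12 := by
  rw [QQ, Subgroup.closure_le]
  rintro x (hx | ⟨c, hc, rfl⟩)
  · rw [Set.mem_singleton_iff.1 hx]
    exact zO_mem_U
  · have := conj_mem_U (g := c) rO_mem_U
    rwa [DD_stab hc] at this

end Cfsg.Agent.StdO8.FactD
end

-- part: StdO8/FactE
section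
/-!
# Facts about `D` and `Q` in `Om`
-/

set_option autoImplicit false

namespace Cfsg.Agent.StdO8.FactE

open Cfsg.Agent.StdO8.Model Cfsg.Agent.StdO8.Code Cfsg.Agent.StdO8.Gen Cfsg.Agent.StdO8.FactD
open Cfsg.Agent.ClassicalGeometry.OrthAut1 Cfsg.Agent.ClassicalGeometry.OrthAut2
open Cfsg.Agent.StdO8.DoubCore (DD QQ TZ)

/-- commutation of an isometry with a word, on codes -/
theorem ev_of_comm {M : Om} {l : List (ℕ × ℕ)} (hl : l.all ok = true) (h : M * word l = word l * M) {v m : ℕ}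
    (hv : (M : V ≃ₗ[ZMod 2] V) (dec v) = dec m) : (M : V ≃ₗ[ZMod 2] V) (dec (ev l v)) = dec (ev l m) := by
  rw [← word_dec hl, ← word_dec hl, ← hv]
  exact LinearEquiv.congr_fun (congrArg Subtype.val h) (dec v)

/-- An isometry fixing `e₀, e₁, e₂, e₃, f₂, f₃` is `1` or `z`. -/
theorem kerz {M : Om} (hM : ∀ a ∈ [1, 2, 4, 8, 64, 128], (M : V ≃ₗ[ZMod 2] V) (dec a) = dec a) :
    M = 1 ∨ M = zO := by
  have hMO := Om_le M.2
  obtain ⟨b, hb, hbM, hq, -, -⟩ := exists_code hMO 16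
  obtain ⟨b', hb', hbM', hq', -, -⟩ := exists_code hMO 32
  have hc1 : cnd [(1, true), (2, false), (4, false), (8, false), (64, false), (128, false)] b = true :=
    cnd_of_fix hMO hbM (fun p hp => hM p.1 (by
      simp only [List.mem_cons, List.not_mem_nil, or_false] at hp
      rcases hp with rfl | rfl | rfl | rfl | rfl | rfl <;> decide)) (by decide)
  have hc2 : cnd [(1, false), (2, true), (4, false), (8, false), (64, false), (128, false)] b' = true :=
    cnd_of_fix hMO hbM' (fun p hp => hM p.1 (by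
      simp only [List.mem_cons, List.not_mem_nil, or_false] at hp
      rcases hp with rfl | rfl | rfl | rfl | rfl | rfl <;> decide)) (by decide)
  have k1 : ∀ b < 256, (!qn b && cnd [(1, true), (2, false), (4, false), (8, false), (64, false), (128, false)] b)
      = true → b = 16 ∨ b = 18 := by decide +kernel
  have k2 : ∀ b < 256, (!qn b && cnd [(1, false), (2, true), (4, false), (8, false), (64, false), (128, false)] b)
      = true → b = 32 ∨ b = 33 := by decide +kernel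
  have hbb : Bn b b' = false := by
    have e := O8_B hMO (dec 16) (dec 32)
    rw [hbM, hbM', B_dec, B_dec] at e
    rw [cc_inj e]; decide
  have fin : ∀ l : List (ℕ × ℕ), l.all ok = true → ev l 16 = b → ev l 32 = b' →
      (∀ a ∈ [1, 2, 4, 8, 64, 128], ev l a = a) → M = word l := by
    intro l hl h1 h2 h3
    apply Subtype.ext
    apply eval_eq hl
    intro a ha
    simp only [basis, List.mem_cons, List.not_mem_nil, or_false] at ha
    rcases ha with rfl | rfl | rfl | rfl | rfl | rfl | rfl | rfl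
    · rw [hM _ (by decide), h3 _ (by decide)]
    · rw [hM _ (by decide), h3 _ (by decide)]
    · rw [hM _ (by decide), h3 _ (by decide)]
    · rw [hM _ (by decide), h3 _ (by decide)]
    · rw [hbM, h1]
    · rw [hbM', h2]
    · rw [hM _ (by decide), h3 _ (by decide)]
    · rw [hM _ (by decide), h3 _ (by decide)]
  rcases k1 b hb (by rw [hq, hc1]; decide) with rfl | rfl <;>
    rcases k2 b' hb' (by rw [hq', hc2]; decide) with rfl | rfl
  · left; exact fin [] (by decide) (by decide) (by decide) (by decide)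
  · exact absurd hbb (by decide)
  · exact absurd hbb (by decide)
  · right; exact fin (Gw 0) (by decide) (by decide) (by decide) (by decide)

/-- codes of the images under an element of the radical -/
theorem code_of_U {M : Om} (hM : M ∈ U q W12) {v : ℕ} (h1 : Bn 1 v = false) (h2 : Bn 2 v = false) :
    ∃ a < 4, (M : V ≃ₗ[ZMod 2] V) (dec v) = dec (v ^^^ a) := by
  have h := hM.2 (dec v) (fun w hw => B_W12 hw (by rw [B_dec, h1]; rfl) (by rw [B_dec, h2]; rfl))
  obtain ⟨a, ha, e⟩ := mem_W12.1 h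
  refine ⟨a, ha, ?_⟩
  rw [dec_xor, ← e, sub_eq]
  rw [← add_assoc, add_comm (dec v), add_assoc, add_self, add_zero]

theorem fix_of_U {M : Om} (hM : M ∈ U q W12) : (M : V ≃ₗ[ZMod 2] V) (dec 1) = dec 1 ∧
    (M : V ≃ₗ[ZMod 2] V) (dec 2) = dec 2 :=
  ⟨hM.1 _ (mem_W12.2 ⟨1, by norm_num, rfl⟩), hM.1 _ (mem_W12.2 ⟨2, by norm_num, rfl⟩)⟩

theorem xor_lt_256 {v a : ℕ} (hv : v < 256) (ha : a < 4) : v ^^^ a < 256 :=
  Nat.xor_lt_two_pow (n := 8) hv (by omega)

/-- **(f6)**, first part -/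
theorem Qd {M : Om} (hM : M ∈ U q W12) (i : Fin 3) (h : M * dO i = dO i * M) : M = 1 ∨ M = zO := by
  have hMO := Om_le M.2
  obtain ⟨f1, f2⟩ := fix_of_U hM
  have okd : ∀ i : Fin 3, (Gw (2 + i.1)).all ok = true := by decide
  have ltd : ∀ i : Fin 3, lt (Gw (2 + i.1)) = true := by decide
  apply kerz
  -- the middle vectors are fixed
  have mid : ∀ v ∈ [4, 8, 64, 128], (M : V ≃ₗ[ZMod 2] V) (dec v) = dec v := by
    intro v hv
    have hv1 : Bn 1 v = false ∧ Bn 2 v = false ∧ v < 256 := by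
      have key : ∀ v ∈ [4, 8, 64, 128], Bn 1 v = false ∧ Bn 2 v = false ∧ v < 256 := by decide
      exact key v hv
    obtain ⟨a, ha, hMa⟩ := code_of_U hM hv1.1 hv1.2.1
    by_cases hi : i = 0
    · subst hi
      have key : ∀ v ∈ [4, 8, 64, 128], ∀ a < 4, ev (Gw 2) v = v ∧ (ev (Gw 2) (v ^^^ a) = v ^^^ a → a = 0) := by
        decide +kernel
      have h1 := ev_of_comm (okd 0) h hMa
      change (M : V ≃ₗ[ZMod 2] V) (dec (ev (Gw 2) v)) = dec (ev (Gw 2) (v ^^^ a)) at h1
      rw [(key v hv a ha).1, hMa] at h1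
      have h2 := dec_inj (xor_lt_256 hv1.2.2 ha) (ev_lt (ltd 0) (xor_lt_256 hv1.2.2 ha)) h1
      have h3 := (key v hv a ha).2 h2.symm
      rw [hMa, h3, Nat.xor_zero]
    · obtain ⟨b, hb, hbM, hq, -, hB⟩ := exists_code hMO 16
      obtain ⟨b', hb', hbM', hq', -, hB'⟩ := exists_code hMO 32
      have e16 : ∀ i : Fin 3, i ≠ 0 → ev (Gw (2 + i.1)) 16 = 16 ∧ ev (Gw (2 + i.1)) 32 = 32 := by decide
      have h1 := ev_of_comm (okd i) h hbM
      rw [(e16 i hi).1, hbM] at h1
      have h1 := dec_inj hb (ev_lt (ltd i) hb) h1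
      have h2 := ev_of_comm (okd i) h hbM'
      rw [(e16 i hi).2, hbM'] at h2
      have h2 := dec_inj hb' (ev_lt (ltd i) hb') h2
      have k1 : ∀ i : Fin 3, i ≠ 0 → ∀ b < 256, (!qn b && cnd [(1, true), (2, false)] b &&
          (ev (Gw (2 + i.1)) b == b)) = true → b = 16 ∨ b = 18 := by decide +kernel
      have k2 : ∀ i : Fin 3, i ≠ 0 → ∀ b < 256, (!qn b && cnd [(1, false), (2, true)] b &&
          (ev (Gw (2 + i.1)) b == b)) = true → b = 32 ∨ b = 33 := by decide +kernel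
      have hc1 : cnd [(1, true), (2, false)] b = true := cnd_of_fix hMO hbM (by
        intro p hp
        simp only [List.mem_cons, List.not_mem_nil, or_false] at hp
        rcases hp with rfl | rfl
        · exact f1
        · exact f2) (by decide)
      have hc2 : cnd [(1, false), (2, true)] b' = true := cnd_of_fix hMO hbM' (by
        intro p hp
        simp only [List.mem_cons, List.not_mem_nil, or_false] at hp
        rcases hp with rfl | rfl
        · exact f1
        · exact f2) (by decide)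
      have r1 := k1 i hi b hb (by rw [hq, hc1, ← h1]; simp; decide)
      have r2 := k2 i hi b' hb' (by rw [hq', hc2, ← h2]; simp; decide)
      have e1 : Bn (v ^^^ a) b = Bn v 16 := by
        have e := O8_B hMO (dec v) (dec 16)
        rw [hMa, hbM, B_dec, B_dec] at e
        exact cc_inj e
      have e2 : Bn (v ^^^ a) b' = Bn v 32 := by
        have e := O8_B hMO (dec v) (dec 32)
        rw [hMa, hbM', B_dec, B_dec] at e
        exact cc_inj e
      have key : ∀ v ∈ [4, 8, 64, 128], ∀ a < 4, ∀ b ∈ [16, 18], ∀ b' ∈ [32, 33],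
          Bn (v ^^^ a) b = Bn v 16 → Bn (v ^^^ a) b' = Bn v 32 → a = 0 := by decide +kernel
      have h3 := key v hv a ha b (by rcases r1 with rfl | rfl <;> decide) b'
        (by rcases r2 with rfl | rfl <;> decide) e1 e2
      rw [hMa, h3, Nat.xor_zero]
  intro a ha
  simp only [List.mem_cons, List.not_mem_nil, or_false] at ha
  rcases ha with rfl | rfl | rfl | rfl | rfl | rfl
  · exact f1
  · exact f2
  · exact mid _ (by decide)
  · exact mid _ (by decide)
  · exact mid _ (by decide)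
  · exact mid _ (by decide)

/-- **(f6)**, second part -/
theorem Qτ {M : Om} (hM : M ∈ U q W12) (h : ∀ i, M * τO i = τO i * M) :
    M = 1 ∨ M = zO ∨ M = rO ∨ M = rO * zO := by
  have hMO := Om_le M.2
  obtain ⟨f1, f2⟩ := fix_of_U hM
  have okd : ∀ i : Fin 3, (Gw (5 + i.1)).all ok = true := by decide
  have ltd : ∀ i : Fin 3, lt (Gw (5 + i.1)) = true := by decide
  obtain ⟨a4, ha4, m4⟩ := code_of_U hM (v := 4) (by decide) (by decide)
  obtain ⟨a8, ha8, m8⟩ := code_of_U hM (v := 8) (by decide) (by decide)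
  obtain ⟨a64, ha64, m64⟩ := code_of_U hM (v := 64) (by decide) (by decide)
  obtain ⟨a128, ha128, m128⟩ := code_of_U hM (v := 128) (by decide) (by decide)
  obtain ⟨b, hb, hbM, hq, -, hB⟩ := exists_code hMO 16
  -- commutation with `τ₀` on the middle
  have t0 : ∀ {v a : ℕ}, v < 256 → a < 4 → (M : V ≃ₗ[ZMod 2] V) (dec v) = dec (v ^^^ a) → ev (Gw 5) v = v →
      ev (Gw 5) (v ^^^ a) = v ^^^ a := by
    intro v a hv ha hMa hfix
    have h1 := ev_of_comm (okd 0) (h 0) hMa
    change (M : V ≃ₗ[ZMod 2] V) (dec (ev (Gw 5) v)) = dec (ev (Gw 5) (v ^^^ a)) at h1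
    rw [hfix, hMa] at h1
    exact (dec_inj (xor_lt_256 hv ha) (ev_lt (ltd 0) (xor_lt_256 hv ha)) h1).symm
  have c4 := t0 (by norm_num) ha4 m4 (by decide)
  have c8 := t0 (by norm_num) ha8 m8 (by decide)
  have c64 := t0 (by norm_num) ha64 m64 (by decide)
  have c128 := t0 (by norm_num) ha128 m128 (by decide)
  have small : ∀ v ∈ [4, 8, 64, 128], ∀ a < 4, ev (Gw 5) (v ^^^ a) = v ^^^ a → a = 0 ∨ a = 1 := by decide +kernel
  have s4 := small 4 (by decide) a4 ha4 c4
  have s8 := small 8 (by decide) a8 ha8 c8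
  have s64 := small 64 (by decide) a64 ha64 c64
  have s128 := small 128 (by decide) a128 ha128 c128
  -- `M (v + w)`
  have madd : ∀ {v w m n : ℕ}, (M : V ≃ₗ[ZMod 2] V) (dec v) = dec m → (M : V ≃ₗ[ZMod 2] V) (dec w) = dec n →
      (M : V ≃ₗ[ZMod 2] V) (dec (v ^^^ w)) = dec (m ^^^ n) := by
    intro v w m n h1 h2
    rw [dec_xor, map_add, h1, h2, ← dec_xor]
  have l4 : 4 ^^^ a4 < 256 := xor_lt_256 (by norm_num) ha4
  have l8 : 8 ^^^ a8 < 256 := xor_lt_256 (by norm_num) ha8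
  have l64 : 64 ^^^ a64 < 256 := xor_lt_256 (by norm_num) ha64
  have l128 : 128 ^^^ a128 < 256 := xor_lt_256 (by norm_num) ha128
  -- `τ₁ e₃ = e₃ + e₂`
  have x1 : (4 ^^^ a4) ^^^ (8 ^^^ a8) = ev (Gw 6) (8 ^^^ a8) := by
    have e1 := ev_of_comm (okd 1) (h 1) m8
    have e2 := madd m4 m8
    have e3 : ev (Gw (5 + (1 : Fin 3).1)) 8 = 4 ^^^ 8 := by decide
    rw [e3, e2] at e1
    exact dec_inj (Nat.xor_lt_two_pow (n := 8) l4 l8) (ev_lt (ltd 1) l8) e1
  -- `τ₁ f₂ = f₂ + f₃`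
  have x2 : (64 ^^^ a64) ^^^ (128 ^^^ a128) = ev (Gw 6) (64 ^^^ a64) := by
    have e1 := ev_of_comm (okd 1) (h 1) m64
    have e2 := madd m64 m128
    have e3 : ev (Gw (5 + (1 : Fin 3).1)) 64 = 64 ^^^ 128 := by decide
    rw [e3, e2] at e1
    exact dec_inj (Nat.xor_lt_two_pow (n := 8) l64 l128) (ev_lt (ltd 1) l64) e1
  -- `τ₂ f₂ = f₂ + e₃`
  have x3 : (64 ^^^ a64) ^^^ (8 ^^^ a8) = ev (Gw 7) (64 ^^^ a64) := by
    have e1 := ev_of_comm (okd 2) (h 2) m64
    have e2 := madd m64 m8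
    have e3 : ev (Gw (5 + (2 : Fin 3).1)) 64 = 64 ^^^ 8 := by decide
    rw [e3, e2] at e1
    exact dec_inj (Nat.xor_lt_two_pow (n := 8) l64 l8) (ev_lt (ltd 2) l64) e1
  have z4 : a4 = 0 := by
    have key : ∀ a4 < 4, ∀ a8 < 2, (4 ^^^ a4) ^^^ (8 ^^^ a8) = ev (Gw 6) (8 ^^^ a8) → a4 = 0 := by decide +kernel
    exact key a4 ha4 a8 (by omega) x1
  have z128 : a128 = 0 := by
    have key : ∀ a128 < 4, ∀ a64 < 2, (64 ^^^ a64) ^^^ (128 ^^^ a128) = ev (Gw 6) (64 ^^^ a64) → a128 = 0 := by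
      decide +kernel
    exact key a128 ha128 a64 (by omega) x2
  have z8 : a8 = 0 := by
    have key : ∀ a8 < 4, ∀ a64 < 2, (64 ^^^ a64) ^^^ (8 ^^^ a8) = ev (Gw 7) (64 ^^^ a64) → a8 = 0 := by
      decide +kernel
    exact key a8 ha8 a64 (by omega) x3
  subst z4 z8 z128
  rw [Nat.xor_zero] at m4 m8 m128
  -- the image of `f₁`
  have m48 : (M : V ≃ₗ[ZMod 2] V) (dec 32) = dec (b ^^^ ev (Gw 5) b) := by
    have e1 := ev_of_comm (okd 0) (h 0) hbM
    have e3 : ev (Gw (5 + (0 : Fin 3).1)) 16 = 16 ^^^ 32 := by decide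
    rw [e3] at e1
    have e2 := madd hbM e1
    have e4 : 16 ^^^ (16 ^^^ 32) = 32 := by decide
    rw [e4] at e2
    exact e2
  have hc : cnd [(1, true), (2, false), (4, false), (8, false), (128, false)] b = true := cnd_of_fix hMO hbM (by
    intro p hp
    simp only [List.mem_cons, List.not_mem_nil, or_false] at hp
    rcases hp with rfl | rfl | rfl | rfl | rfl
    · exact f1
    · exact f2
    · exact m4
    · exact m8
    · exact m128) (by decide)
  have hB64 : Bn (64 ^^^ a64) b = false := by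
    have e := O8_B hMO (dec 64) (dec 16)
    rw [m64, hbM, B_dec, B_dec] at e
    rw [cc_inj e]; decide
  have k0 : ∀ b < 256, (!qn b && cnd [(1, true), (2, false), (4, false), (8, false), (128, false)] b &&
      !Bn (64 ^^^ 0) b) = true → b = 16 ∨ b = 18 := by decide +kernel
  have k1 : ∀ b < 256, (!qn b && cnd [(1, true), (2, false), (4, false), (8, false), (128, false)] b &&
      !Bn (64 ^^^ 1) b) = true → b = 20 ∨ b = 22 := by decide +kernel
  have fin : ∀ l : List (ℕ × ℕ), l.all ok = true → ev l 64 = 64 ^^^ a64 → ev l 16 = b →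
      ev l 32 = b ^^^ ev (Gw 5) b → (∀ a ∈ [1, 2, 4, 8, 128], ev l a = a) → M = word l := by
    intro l hl h1 h2 h3 h4
    apply Subtype.ext
    apply eval_eq hl
    intro a ha
    simp only [basis, List.mem_cons, List.not_mem_nil, or_false] at ha
    rcases ha with rfl | rfl | rfl | rfl | rfl | rfl | rfl | rfl
    · rw [f1, h4 _ (by decide)]
    · rw [f2, h4 _ (by decide)]
    · rw [m4, h4 _ (by decide)]
    · rw [m8, h4 _ (by decide)]
    · rw [hbM, h2]
    · rw [m48, h3]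
    · rw [m64, h1]
    · rw [m128, h4 _ (by decide)]
  rcases s64 with rfl | rfl
  · rcases k0 b hb (by rw [hq, hc, hB64]; decide) with rfl | rfl
    · left; exact fin [] (by decide) (by decide) (by decide) (by decide) (by decide)
    · right; left; exact fin (Gw 0) (by decide) (by decide) (by decide) (by decide) (by decide)
  · rcases k1 b hb (by rw [hq, hc, hB64]; decide) with rfl | rfl
    · right; right; left; exact fin (Gw 1) (by decide) (by decide) (by decide) (by decide) (by decide)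
    · right; right; right
      have := fin (Gw 1 ++ Gw 0) (by decide) (by decide) (by decide) (by decide) (by decide)
      rw [this, word_append]; rfl

end Cfsg.Agent.StdO8.FactE
end

-- part: StdO8/FactF
section
/-!
# Facts about `D` and `Q` in `Om`, second part
-/

set_option autoImplicit false

namespace Cfsg.Agent.StdO8.FactF

open Cfsg.Agent.StdO8.Model Cfsg.Agent.StdO8.Code Cfsg.Agent.StdO8.Gen Cfsg.Agent.StdO8.FactD
open Cfsg.Agent.ClassicalGeometry.OrthAut1 Cfsg.Agent.ClassicalGeometry.OrthAut2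
open Cfsg.Agent.StdO8.DoubCore (DD QQ TZ)

/-! ### Elementary consequences -/

theorem rz_mem : rO ∈ QQ zO rO dO :=
  Subgroup.subset_closure (Or.inr ⟨1, one_mem _, by group⟩)

theorem z_mem : zO ∈ QQ zO rO dO := Subgroup.subset_closure (Or.inl rfl)

/-- `r` and an element of `D` -/
theorem rc {c : Om} (hc : c ∈ DD dO) (h : rO * c = c * rO) : c = 1 := by
  obtain ⟨i, hi, j, hj, k, hk, rfl⟩ := DD_nf hc
  have e1 : ∀ i < 3, ∀ j < 3, ∀ k < 3, (exa (Gw 1 ++ cW i j k) (cW i j k ++ Gw 1) &&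
      (!same (Gw 1 ++ cW i j k) (cW i j k ++ Gw 1) || (i == 0 && j == 0 && k == 0))) = true := by decide +kernel
  have e2 := e1 i hi j hj k hk
  rw [Bool.and_eq_true] at e2
  have h3 : word (Gw 1 ++ cW i j k) = word (cW i j k ++ Gw 1) := by
    rw [word_append, word_append]; exact h
  have e3 := e2.2
  rw [(word_eq_iff e2.1).1 h3] at e3
  simp only [Bool.not_true, Bool.false_or, Bool.and_eq_true, beq_iff_eq] at e3
  obtain ⟨⟨rfl, rfl⟩, rfl⟩ := e3
  rfl

/-- the conjugate of `r` by `d₀^a d₁^b d₂^c` as a word -/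
def rw1 (p : ℕ × ℕ × ℕ) : List (ℕ × ℕ) := cW p.1 p.2.1 p.2.2 ++ (Gw 1 ++ (cW p.1 p.2.1 p.2.2).reverse)

/-- products -/
def qw : List (ℕ × ℕ × ℕ) → List (ℕ × ℕ)
  | [] => []
  | p :: l => rw1 p ++ qw l

theorem rw1_mem (p : ℕ × ℕ × ℕ) : word (rw1 p) ∈ Subgroup.closure {x | ∃ c ∈ DD dO, x = c * rO * c⁻¹} := by
  apply Subgroup.subset_closure
  refine ⟨word (cW p.1 p.2.1 p.2.2), cW_mem _ _ _, ?_⟩
  rw [rw1, word_append, word_append, word_reverse, mul_assoc]
  rfl

theorem qw_mem' (l : List (ℕ × ℕ × ℕ)) :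
    word (qw l) ∈ Subgroup.closure {x | ∃ c ∈ DD dO, x = c * rO * c⁻¹} := by
  induction l with
  | nil => exact one_mem _
  | cons p l ih => rw [qw, word_append]; exact mul_mem (rw1_mem p) ih

theorem qw_mem (l : List (ℕ × ℕ × ℕ)) : word (qw l) ∈ QQ zO rO dO :=
  Subgroup.closure_mono Set.subset_union_right (qw_mem' l)

/-- the table for `Qc` -/
def tb : ℕ → ℕ → ℕ → List (ℕ × ℕ × ℕ)
  | 0, 1, 1 => [(0, 0, 0), (0, 1, 2)]
  | 0, 1, 2 => [(0, 0, 0), (0, 1, 1)]
  | 0, 2, 1 => [(0, 0, 0), (0, 1, 1)]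
  | 0, 2, 2 => [(0, 0, 0), (0, 1, 2)]
  | 1, 0, 1 => [(0, 0, 0), (1, 0, 2)]
  | 1, 0, 2 => [(0, 0, 0), (1, 0, 1)]
  | 1, 1, 0 => [(0, 0, 0), (1, 2, 0)]
  | 1, 2, 0 => [(0, 0, 0), (1, 1, 0)]
  | 2, 0, 1 => [(0, 0, 0), (1, 0, 1)]
  | 2, 0, 2 => [(0, 0, 0), (1, 0, 2)]
  | 2, 1, 0 => [(0, 0, 0), (1, 1, 0)]
  | 2, 2, 0 => [(0, 0, 0), (1, 2, 0)]
  | 1, 1, 1 => [(0, 0, 0), (1, 1, 1), (2, 2, 2)]
  | 2, 2, 2 => [(0, 0, 0), (1, 1, 1), (2, 2, 2)]
  | 1, 1, 2 => [(0, 0, 0), (1, 1, 2), (2, 2, 1)]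
  | 2, 2, 1 => [(0, 0, 0), (1, 1, 2), (2, 2, 1)]
  | 1, 2, 1 => [(0, 0, 0), (1, 2, 1), (2, 1, 2)]
  | 2, 1, 2 => [(0, 0, 0), (1, 2, 1), (2, 1, 2)]
  | 1, 2, 2 => [(0, 0, 0), (1, 2, 2), (2, 1, 1)]
  | 2, 1, 1 => [(0, 0, 0), (1, 2, 2), (2, 1, 1)]
  | _, _, _ => []

/-- the check for one element -/
def chkQc (i j k : ℕ) : Bool :=
  exa (qw (tb i j k)) [] && exa (qw (tb i j k)) (Gw 0) && !same (qw (tb i j k)) [] &&
    !same (qw (tb i j k)) (Gw 0) && same (qw (tb i j k) ++ cW i j k) (cW i j k ++ qw (tb i j k))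

/-- the trivial cases -/
def triv (i j k : ℕ) : Bool :=
  same (cW i j k) [] || same (cW i j k) (Gw 2) || same (cW i j k) (Gw 3) || same (cW i j k) (Gw 4) ||
    same (cW i j k) (Gw 2 ++ Gw 2) || same (cW i j k) (Gw 3 ++ Gw 3) || same (cW i j k) (Gw 4 ++ Gw 4)

theorem chkQ : ∀ i < 3, ∀ j < 3, ∀ k < 3, triv i j k = true ∨ chkQc i j k = true := by decide +kernel

/-- **(f6)**, third part -/
theorem Qc {c : Om} (hc : c ∈ DD dO) (h1 : c ≠ 1) (h2 : ∀ i, c ≠ dO i ∧ c ≠ (dO i)⁻¹) :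
    ∃ q ∈ QQ zO rO dO, q ≠ 1 ∧ q ≠ zO ∧ q * c = c * q := by
  obtain ⟨i, hi, j, hj, k, hk, rfl⟩ := DD_nf hc
  rcases chkQ i hi j hj k hk with h | h
  · exfalso
    have e1 : ∀ {l : List (ℕ × ℕ)}, same (cW i j k) l = true → word (cW i j k) = word l := fun h => word_eq h
    have e2 : ∀ i : Fin 3, (dO i)⁻¹ = word (Gw (2 + i.1) ++ Gw (2 + i.1)) := by
      intro i
      rw [dO_inv, word_append]; rfl
    simp only [triv, Bool.or_eq_true] at h
    rcases h with (((((h | h) | h) | h) | h) | h) | h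
    · exact h1 (e1 h)
    · exact (h2 0).1 (e1 h)
    · exact (h2 1).1 (e1 h)
    · exact (h2 2).1 (e1 h)
    · exact (h2 0).2 (by rw [e2]; exact e1 h)
    · exact (h2 1).2 (by rw [e2]; exact e1 h)
    · exact (h2 2).2 (by rw [e2]; exact e1 h)
  · rw [chkQc, Bool.and_eq_true, Bool.and_eq_true, Bool.and_eq_true, Bool.and_eq_true, Bool.not_eq_true',
      Bool.not_eq_true'] at h
    obtain ⟨⟨⟨⟨a1, a2⟩, a3⟩, a4⟩, a5⟩ := h
    refine ⟨word (qw (tb i j k)), qw_mem _, fun e => ?_, fun e => ?_, ?_⟩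
    · have := (word_eq_iff a1).1 e
      rw [a3] at this
      exact absurd this (by decide)
    · have := (word_eq_iff a2).1 e
      rw [a4] at this
      exact absurd this (by decide)
    · rw [← word_append, ← word_append]
      exact word_eq a5

/-- `z` is a product of conjugates of `r` -/
theorem zQ : zO ∈ Subgroup.closure {x | ∃ c ∈ DD dO, x = c * rO * c⁻¹} := by
  have h := qw_mem' [(0, 0, 0), (1, 1, 1), (0, 0, 0), (1, 1, 1)]
  have e : word (qw [(0, 0, 0), (1, 1, 1), (0, 0, 0), (1, 1, 1)]) = zO := word_eq (by decide +kernel)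
  rwa [e] at h

/-- cubes in `D` -/
theorem D_cube {c : Om} (hc : c ∈ DD dO) : c * c * c = 1 := by
  obtain ⟨i, hi, j, hj, k, hk, rfl⟩ := DD_nf hc
  have e1 : ∀ i < 3, ∀ j < 3, ∀ k < 3, same (cW i j k ++ cW i j k ++ cW i j k) [] = true := by decide +kernel
  have := word_eq (e1 i hi j hj k hk)
  rwa [word_append, word_append] at this

/-- `D ∩ U = 1` -/
theorem D_U {c : Om} (hc : c ∈ DD dO) (hU : c ∈ U q W12) : c = 1 := by
  obtain ⟨i, hi, j, hj, k, hk, rfl⟩ := DD_nf hc
  obtain ⟨f1, -⟩ := FactE.fix_of_U hU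
  obtain ⟨a, ha, f4⟩ := FactE.code_of_U hU (v := 4) (by decide) (by decide)
  have e1 : ∀ i < 3, ∀ j < 3, ∀ k < 3, ∀ a < 4, ((cW i j k).all ok && lt (cW i j k) &&
      (!((ev (cW i j k) 1 == 1) && (ev (cW i j k) 4 == 4 ^^^ a)) || (i == 0 && j == 0 && k == 0))) = true := by
    decide +kernel
  have e2 := e1 i hi j hj k hk a ha
  rw [Bool.and_eq_true, Bool.and_eq_true] at e2
  obtain ⟨⟨h1, h2⟩, h3⟩ := e2
  rw [word_dec h1] at f1 f4
  have g1 := dec_inj (ev_lt h2 (by norm_num)) (by norm_num) f1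
  have g4 := dec_inj (ev_lt h2 (by norm_num)) (FactE.xor_lt_256 (by norm_num) ha) f4
  rw [g1, g4] at h3
  simp only [beq_self_eq_true, Bool.and_self, Bool.not_true, Bool.false_or, Bool.and_eq_true, beq_iff_eq] at h3
  obtain ⟨⟨rfl, rfl⟩, rfl⟩ := h3
  rfl

theorem conj_QQ {c : Om} (hc : c ∈ DD dO) {x : Om} (hx : x ∈ QQ zO rO dO) : c * x * c⁻¹ ∈ QQ zO rO dO := by
  have hz : zO * c = c * zO := by
    have : DD dO ≤ Subgroup.centralizer {zO} := by
      rw [DD, Subgroup.closure_le]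
      rintro _ ⟨i, rfl⟩
      rw [SetLike.mem_coe, Subgroup.mem_centralizer_singleton_iff]
      have key : ∀ i : Fin 3, same (Gw (2 + i.1) ++ Gw 0) (Gw 0 ++ Gw (2 + i.1)) = true := by decide +kernel
      have := word_eq (key i)
      rwa [word_append, word_append] at this
    exact (Subgroup.mem_centralizer_singleton_iff.1 (this hc)).symm
  induction hx using Subgroup.closure_induction with
  | mem x hx =>
    rcases hx with hx | ⟨e, he, rfl⟩
    · rw [Set.mem_singleton_iff.1 hx, ← hz, mul_inv_cancel_right]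
      exact z_mem
    · exact Subgroup.subset_closure (Or.inr ⟨c * e, mul_mem hc he, by group⟩)
  | one => rw [mul_one, mul_inv_cancel]; exact one_mem _
  | mul a b _ _ ha hb =>
    have : c * (a * b) * c⁻¹ = c * a * c⁻¹ * (c * b * c⁻¹) := by group
    rw [this]; exact mul_mem ha hb
  | inv a _ ha =>
    have : c * a⁻¹ * c⁻¹ = (c * a * c⁻¹)⁻¹ := by group
    rw [this]; exact inv_mem ha

/-- **(f5)** -/
theorem QD2 {x c : Om} (hx : x ∈ QQ zO rO dO) (hc : c ∈ DD dO) (h : x * c * (x * c) = 1) : c = 1 := by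
  have h1 : c * c = (x * (c * x * c⁻¹))⁻¹ := by
    have e1 : x * c * (x * c) = x * (c * x * c⁻¹) * (c * c) := by group
    rw [e1] at h
    exact (inv_eq_of_mul_eq_one_right h).symm
  have h2 : c * c ∈ U q W12 := by
    rw [h1]
    exact inv_mem (QQ_le_U (mul_mem hx (conj_QQ hc hx)))
  have h3 := D_U (mul_mem hc hc) h2
  have h4 := D_cube hc
  rwa [h3, one_mul] at h4

/-- elements of the radical have order dividing four -/
theorem U4 {M : Om} (hM : M ∈ U q W12) : M * M * (M * M) = 1 := by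
  have hMO := Om_le M.2
  -- `M v + v ∈ W⊥`
  have h1 : ∀ v : V, ∀ w ∈ W12, B w ((M : V ≃ₗ[ZMod 2] V) v + v) = 0 := by
    intro v w hw
    have e := O8_B hMO w v
    rw [hM.1 w hw] at e
    rw [B_add_right, e]
    exact Cfsg.Agent.StdO8.Root.z2_add_self _
  have h2 : ∀ v : V, (∀ w ∈ W12, B w v = 0) → (M : V ≃ₗ[ZMod 2] V) v + v ∈ W12 := by
    intro v hv
    rw [← sub_eq]
    exact hM.2 v hv
  have h3 : ∀ w ∈ W12, (M : V ≃ₗ[ZMod 2] V) w + w = 0 := by
    intro w hw
    rw [hM.1 w hw, add_self]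
  -- `(M + 1)³ = 0`
  obtain ⟨N, hN⟩ : ∃ N : V → V, ∀ v, N v = (M : V ≃ₗ[ZMod 2] V) v + v := ⟨_, fun _ => rfl⟩
  have hNadd : ∀ v w, N (v + w) = N v + N w := by
    intro v w
    rw [hN, hN, hN, map_add]; abel
  have h4 : ∀ v, N (N (N v)) = 0 := by
    intro v
    rw [hN (N (N v))]
    apply h3
    rw [hN (N v)]
    apply h2
    intro w hw
    rw [hN]
    exact h1 v w hw
  have hMM : ∀ v, (M : V ≃ₗ[ZMod 2] V) v = N v + v := by
    intro v
    rw [hN, add_assoc, add_self, add_zero]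
  have h5 : ∀ v, (M : V ≃ₗ[ZMod 2] V) ((M : V ≃ₗ[ZMod 2] V) v) = N (N v) + v := by
    intro v
    rw [hMM, hMM v, hNadd]
    have : N (N v) + N v + (N v + v) = N (N v) + (N v + N v) + v := by abel
    rw [this, add_self, add_zero]
  apply Subtype.ext
  ext v : 1
  show (M : V ≃ₗ[ZMod 2] V) ((M : V ≃ₗ[ZMod 2] V) ((M : V ≃ₗ[ZMod 2] V) ((M : V ≃ₗ[ZMod 2] V) v))) = v
  rw [h5 v, map_add, map_add, h5, h5 v, h4, zero_add, ← add_assoc, add_self, zero_add]

theorem Q4 {x : Om} (hx : x ∈ QQ zO rO dO) : x * x * (x * x) = 1 := U4 (QQ_le_U hx)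

/-! ### Independence -/

theorem pw_word (l : List (ℕ × ℕ)) (n : ℕ) : word (pw l n) = word l ^ n := by
  induction n with
  | zero => rw [pow_zero]; rfl
  | succ n ih => rw [pw, word_append, ih, pow_succ']

theorem zpow_mod (i : Fin 3) (a : ℤ) : ∃ n < 3, dO i ^ a = dO i ^ n ∧ (n = 0 → (3 : ℤ) ∣ a) := by
  have h3 : dO i ^ 3 = 1 := by
    rw [pow_succ, pow_two, mul_assoc]
    exact dO_cube i
  refine ⟨(a % 3).toNat, by omega, ?_, fun h => by omega⟩
  have e1 : dO i ^ (a % 3).toNat = dO i ^ (a % 3) := by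
    rw [← zpow_natCast, Int.toNat_of_nonneg (by omega)]
  rw [e1]
  conv_lhs => rw [← Int.emod_add_mul_ediv a 3, zpow_add, zpow_mul]
  have : dO i ^ (3 : ℤ) = 1 := by exact_mod_cast h3
  rw [this, one_zpow, mul_one]

theorem ind (a b c : ℤ) (h : dO 0 ^ a * dO 1 ^ b * dO 2 ^ c = 1) : (3 : ℤ) ∣ a ∧ (3 : ℤ) ∣ b ∧ (3 : ℤ) ∣ c := by
  obtain ⟨i, hi, e1, d1⟩ := zpow_mod 0 a
  obtain ⟨j, hj, e2, d2⟩ := zpow_mod 1 b
  obtain ⟨k, hk, e3, d3⟩ := zpow_mod 2 c
  rw [e1, e2, e3] at h
  have h1 : word (cW i j k) = word [] := by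
    rw [cW, word_append, word_append, pw_word, pw_word, pw_word, ← mul_assoc, word_nil]
    exact h
  have e : ∀ i < 3, ∀ j < 3, ∀ k < 3, (exa (cW i j k) [] &&
      (!same (cW i j k) [] || (i == 0 && j == 0 && k == 0))) = true := by decide +kernel
  have f := e i hi j hj k hk
  rw [Bool.and_eq_true] at f
  have f2 := f.2
  rw [(word_eq_iff f.1).1 h1] at f2
  simp only [Bool.not_true, Bool.false_or, Bool.and_eq_true, beq_iff_eq] at f2
  exact ⟨d1 f2.1.1, d2 f2.1.2, d3 f2.2⟩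

end Cfsg.Agent.StdO8.FactF
end

private theorem dce_21c2436d8b3f : _root_.True := by
  try have : _root_.True := by simp only [_root_.Cfsg.Agent.StdO8.FactD.inU.eq_1]
  try have : _root_.True := by simp only [_root_.Cfsg.Agent.StdO8.FactF.chkQc.eq_1]
  try have : _root_.True := by simp only [_root_.Cfsg.Agent.StdO8.FactD.exa.eq_1]
  try have : _root_.True := by simp only [_root_.Cfsg.Agent.StdO8.FactF.qw.eq_2]
  try have : _root_.True := by simp only [_root_.Cfsg.Agent.StdO8.FactD.cW.eq_1]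
  try have : _root_.True := by simp only [_root_.Cfsg.Agent.StdO8.FactF.qw.eq_def]
  try have : _root_.True := by simp only [_root_.Cfsg.Agent.StdO8.FactF.qw.eq_1]
  try have : _root_.True := by simp only [_root_.Cfsg.Agent.StdO8.FactD.W12.eq_1]
  try have : _root_.True := by simp only [_root_.Cfsg.Agent.StdO8.FactD.zO.eq_1]
  try have : _root_.True := by simp only [_root_.Cfsg.Agent.StdO8.FactD.pw.eq_1]
  try have : _root_.True := by simp only [_root_.Cfsg.Agent.StdO8.FactD.lt.eq_1]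
  try have : _root_.True := by simp only [_root_.Cfsg.Agent.StdO8.FactD.dO.eq_1]
  try have : _root_.True := by simp only [_root_.Cfsg.Agent.StdO8.FactD.pw.eq_2]
  try have : _root_.True := by simp only [_root_.Cfsg.Agent.StdO8.FactF.rw1.eq_1]
  try have : _root_.True := by simp only [_root_.Cfsg.Agent.StdO8.FactD.pw.eq_def]
  try have : _root_.True := by simp only [_root_.Cfsg.Agent.StdO8.FactF.triv.eq_1]
  exact _root_.True.intro
end

-- part: StdO8/FactG
section
prune_inst 0x101045004522000000000082210024443c0000920063000161400f020248236380002f00bc0017120122ae34200c002813540009423000000a008800413c05a184021202d1c9000001000100a884000000000000000000000000000000000000000400000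
set_option linter.all false
open scoped Cfsg.Agent.FastGrp

/-!
# Facts about `D` and `Q` in `Om`, third part: squares in `C(z)`, the centraliser of `D` and `z`
-/

set_option autoImplicit false

namespace Cfsg.Agent.StdO8.FactG

open Cfsg.Agent.StdO8.Model Cfsg.Agent.StdO8.Code Cfsg.Agent.StdO8.Gen Cfsg.Agent.StdO8.FactD
open Cfsg.Agent.StdO8.FactF
open Cfsg.Agent.ClassicalGeometry.OrthAut1 Cfsg.Agent.ClassicalGeometry.OrthAut2
open Cfsg.Agent.StdO8.DoubCore (DD QQ TZ)

/-! ### Relations -/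

theorem rel {l l' : List (ℕ × ℕ)} {a b : Om} (ha : word l = a) (hb : word l' = b) (h : same l l' = true) : a = b := by
  rw [← ha, ← hb]
  exact word_eq h

theorem wz : word (Gw 0) = zO := rfl
theorem wd (i : Fin 3) : word (Gw (2 + i.1)) = dO i := rfl
theorem wdi (i : Fin 3) : word (Gw (2 + i.1)).reverse = (dO i)⁻¹ := word_reverse _

theorem zz : zO * zO = 1 := by
  have := word_eq (l := Gw 0 ++ Gw 0) (l' := []) (by decide +kernel)
  rwa [word_append] at this

theorem rr : rO * rO = 1 := by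
  have := word_eq (l := Gw 1 ++ Gw 1) (l' := []) (by decide +kernel)
  rwa [word_append] at this

theorem ττ (i : Fin 3) : τO i * τO i = 1 := by
  have key : ∀ i : Fin 3, same (Gw (5 + i.1) ++ Gw (5 + i.1)) [] = true := by decide +kernel
  have := word_eq (key i)
  rwa [word_append] at this

theorem d3 (i : Fin 3) : dO i * dO i * dO i = 1 := by rw [mul_assoc]; exact dO_cube i

theorem zr : zO * rO = rO * zO := by
  have := word_eq (l := Gw 0 ++ Gw 1) (l' := Gw 1 ++ Gw 0) (by decide +kernel)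
  rwa [word_append, word_append] at this

theorem zd (i : Fin 3) : zO * dO i = dO i * zO := by
  have key : ∀ i : Fin 3, same (Gw 0 ++ Gw (2 + i.1)) (Gw (2 + i.1) ++ Gw 0) = true := by decide +kernel
  have := word_eq (key i)
  rwa [word_append, word_append] at this

theorem zτ (i : Fin 3) : zO * τO i = τO i * zO := by
  have key : ∀ i : Fin 3, same (Gw 0 ++ Gw (5 + i.1)) (Gw (5 + i.1) ++ Gw 0) = true := by decide +kernel
  have := word_eq (key i)
  rwa [word_append, word_append] at this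

theorem dd (i j : Fin 3) : dO i * dO j = dO j * dO i := by
  have key : ∀ i j : Fin 3, same (Gw (2 + i.1) ++ Gw (2 + j.1)) (Gw (2 + j.1) ++ Gw (2 + i.1)) = true := by
    decide +kernel
  have := word_eq (key i j)
  rwa [word_append, word_append] at this

theorem τc (i j : Fin 3) : τO i * τO j = τO j * τO i := by
  have key : ∀ i j : Fin 3, same (Gw (5 + i.1) ++ Gw (5 + j.1)) (Gw (5 + j.1) ++ Gw (5 + i.1)) = true := by
    decide +kernel
  have := word_eq (key i j)
  rwa [word_append, word_append] at this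

theorem τd (i j : Fin 3) (h : i ≠ j) : τO i * dO j = dO j * τO i := by
  have key : ∀ i j : Fin 3, i ≠ j → same (Gw (5 + i.1) ++ Gw (2 + j.1)) (Gw (2 + j.1) ++ Gw (5 + i.1)) = true := by
    decide +kernel
  have := word_eq (key i j h)
  rwa [word_append, word_append] at this

theorem τdi (i : Fin 3) : τO i * dO i * τO i = (dO i)⁻¹ := by
  have key : ∀ i : Fin 3, same (Gw (5 + i.1) ++ Gw (2 + i.1) ++ Gw (5 + i.1)) (Gw (2 + i.1)).reverse = true := by
    decide +kernel
  have := word_eq (key i)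
  rw [word_append, word_append, wdi] at this
  exact this

theorem rτ (i : Fin 3) : rO * τO i = τO i * rO := by
  have key : ∀ i : Fin 3, same (Gw 1 ++ Gw (5 + i.1)) (Gw (5 + i.1) ++ Gw 1) = true := by decide +kernel
  have := word_eq (key i)
  rwa [word_append, word_append] at this

theorem rd (i : Fin 3) : rO * (dO i * rO * (dO i)⁻¹) * ((dO i)⁻¹ * rO * dO i) = 1 := by
  have key : ∀ i : Fin 3, same (Gw 1 ++ (Gw (2 + i.1) ++ Gw 1 ++ (Gw (2 + i.1)).reverse) ++
      ((Gw (2 + i.1)).reverse ++ Gw 1 ++ Gw (2 + i.1))) [] = true := by decide +kernel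
  have := word_eq (key i)
  rw [word_append, word_append, word_append, word_append, word_append, word_append, wdi] at this
  exact this

theorem ne_of {l l' : List (ℕ × ℕ)} (h : exa l l' = true) (h' : same l l' = false) : word l ≠ word l' := by
  intro e
  have := (word_eq_iff h).1 e
  rw [h'] at this
  exact absurd this (by decide)

theorem z1 : zO ≠ 1 := ne_of (l := Gw 0) (l' := []) (by decide +kernel) (by decide +kernel)
theorem r1 : rO ≠ 1 := ne_of (l := Gw 1) (l' := []) (by decide +kernel) (by decide +kernel)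
theorem rz : rO ≠ zO := ne_of (l := Gw 1) (l' := Gw 0) (by decide +kernel) (by decide +kernel)
theorem d1 (i : Fin 3) : dO i ≠ 1 := by
  have key : ∀ i : Fin 3, exa (Gw (2 + i.1)) [] = true ∧ same (Gw (2 + i.1)) [] = false := by decide +kernel
  exact ne_of (key i).1 (key i).2

theorem τinv (i : Fin 3) : (τO i)⁻¹ = τO i := inv_eq_of_mul_eq_one_left (ττ i)

/-! ### `τᵢ` normalises `D` and `Q` -/

theorem τ_D (i : Fin 3) {c : Om} (hc : c ∈ DD dO) : τO i * c * (τO i)⁻¹ ∈ DD dO := by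
  have hd : ∀ j, dO j ∈ DD dO := fun j => Subgroup.subset_closure ⟨j, rfl⟩
  have h : DD dO ≤ (DD dO).comap (MulAut.conj (τO i)).toMonoidHom := by
    conv_lhs => rw [DD]
    rw [Subgroup.closure_le]
    rintro _ ⟨j, rfl⟩
    show τO i * dO j * (τO i)⁻¹ ∈ DD dO
    by_cases hij : i = j
    · subst hij
      rw [τinv, τdi]
      exact inv_mem (hd _)
    · rw [τd i j hij, mul_inv_cancel_right]
      exact hd j
  exact h hc

theorem τ_Q (i : Fin 3) {x : Om} (hx : x ∈ QQ zO rO dO) : τO i * x * (τO i)⁻¹ ∈ QQ zO rO dO := by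
  have h : QQ zO rO dO ≤ (QQ zO rO dO).comap (MulAut.conj (τO i)).toMonoidHom := by
    conv_lhs => rw [QQ]
    rw [Subgroup.closure_le]
    rintro x (hx | ⟨c, hc, rfl⟩)
    · rw [Set.mem_singleton_iff.1 hx]
      show τO i * zO * (τO i)⁻¹ ∈ QQ zO rO dO
      rw [← zτ, mul_inv_cancel_right]
      exact z_mem
    · show τO i * (c * rO * c⁻¹) * (τO i)⁻¹ ∈ QQ zO rO dO
      refine Subgroup.subset_closure (Or.inr ⟨_, τ_D i hc, ?_⟩)
      have e : τO i * rO * (τO i)⁻¹ = rO := by rw [← rτ, mul_inv_cancel_right]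
      calc τO i * (c * rO * c⁻¹) * (τO i)⁻¹
          = τO i * c * (τO i)⁻¹ * (τO i * rO * (τO i)⁻¹) * (τO i * c * (τO i)⁻¹)⁻¹ := by group
        _ = _ := by rw [e]
  exact h hx

/-- the group of the `τᵢ` -/
def TT : Subgroup Om := Subgroup.closure (Set.range τO)

theorem TT_ind {P : Om → Prop} (h1 : P 1) (h : ∀ i s, P s → P (τO i * s)) {s : Om} (hs : s ∈ TT) : P s := by
  rw [TT] at hs
  induction hs using Subgroup.closure_induction_left with
  | one => exact h1
  | mul_left x hx y hy ih =>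
    obtain ⟨i, rfl⟩ := hx
    exact h i y ih
  | inv_mul_cancel x hx y hy ih =>
    obtain ⟨i, rfl⟩ := hx
    rw [τinv]
    exact h i y ih

theorem TT_comm {s : Om} (hs : s ∈ TT) (j : Fin 3) : τO j * s = s * τO j := by
  refine TT_ind (P := fun s => τO j * s = s * τO j) (by rw [mul_one, one_mul]) (fun i s h => ?_) hs
  rw [← mul_assoc, τc j i, mul_assoc, h, mul_assoc]

theorem TT_sq {s : Om} (hs : s ∈ TT) : s * s = 1 := by
  have : s * s = 1 ∧ s ∈ TT := by
    refine TT_ind (P := fun s => s * s = 1 ∧ s ∈ TT) ⟨one_mul _, one_mem _⟩ (fun i s h => ?_) hs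
    refine ⟨?_, mul_mem (Subgroup.subset_closure ⟨i, rfl⟩) h.2⟩
    calc τO i * s * (τO i * s) = τO i * (s * τO i) * s := by group
      _ = τO i * (τO i * s) * s := by rw [TT_comm h.2]
      _ = (τO i * τO i) * (s * s) := by group
      _ = 1 := by rw [ττ, h.1, one_mul]
  exact this.1

theorem TT_D {s c : Om} (hs : s ∈ TT) (hc : c ∈ DD dO) : s * c * s⁻¹ ∈ DD dO := by
  refine TT_ind (P := fun s => ∀ c ∈ DD dO, s * c * s⁻¹ ∈ DD dO) (fun c hc => by
    rw [one_mul, inv_one, mul_one]; exact hc) (fun i s h c hc => ?_) hs c hc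
  have : τO i * s * c * (τO i * s)⁻¹ = τO i * (s * c * s⁻¹) * (τO i)⁻¹ := by group
  rw [this]
  exact τ_D i (h c hc)

theorem TT_Q {s c : Om} (hs : s ∈ TT) (hc : c ∈ QQ zO rO dO) : s * c * s⁻¹ ∈ QQ zO rO dO := by
  refine TT_ind (P := fun s => ∀ c ∈ QQ zO rO dO, s * c * s⁻¹ ∈ QQ zO rO dO) (fun c hc => by
    rw [one_mul, inv_one, mul_one]; exact hc) (fun i s h c hc => ?_) hs c hc
  have : τO i * s * c * (τO i * s)⁻¹ = τO i * (s * c * s⁻¹) * (τO i)⁻¹ := by group
  rw [this]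
  exact τ_Q i (h c hc)

/-- normal form of the elements of `C(z)` -/
theorem H8_nf {x : Om} (hx : x ∈ H8) : ∃ a ∈ QQ zO rO dO, ∃ c ∈ DD dO, ∃ s ∈ TT, x = a * c * s := by
  have hgen : ∀ (i : Fin 8) (y : Om), (∃ a ∈ QQ zO rO dO, ∃ c ∈ DD dO, ∃ s ∈ TT, y = a * c * s) →
      ∃ a ∈ QQ zO rO dO, ∃ c ∈ DD dO, ∃ s ∈ TT, word (Gw i.1) * y = a * c * s := by
    rintro i y ⟨a, ha, c, hc, s, hs, rfl⟩
    have hD : ∀ i : Fin 3, ∃ a' ∈ QQ zO rO dO, ∃ c' ∈ DD dO, ∃ s' ∈ TT, dO i * (a * c * s) = a' * c' * s' := by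
      intro i
      have hd : dO i ∈ DD dO := Subgroup.subset_closure ⟨i, rfl⟩
      exact ⟨_, conj_QQ hd ha, dO i * c, mul_mem hd hc, s, hs, by group⟩
    have hT : ∀ i : Fin 3, ∃ a' ∈ QQ zO rO dO, ∃ c' ∈ DD dO, ∃ s' ∈ TT, τO i * (a * c * s) = a' * c' * s' := by
      intro i
      exact ⟨_, τ_Q i ha, _, τ_D i hc, τO i * s, mul_mem (Subgroup.subset_closure ⟨i, rfl⟩) hs, by group⟩
    match i with
    | 0 => exact ⟨zO * a, mul_mem z_mem ha, c, hc, s, hs, by rw [mul_assoc, mul_assoc, mul_assoc]; rfl⟩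
    | 1 => exact ⟨rO * a, mul_mem rz_mem ha, c, hc, s, hs, by rw [mul_assoc, mul_assoc, mul_assoc]; rfl⟩
    | 2 => exact hD 0
    | 3 => exact hD 1
    | 4 => exact hD 2
    | 5 => exact hT 0
    | 6 => exact hT 1
    | 7 => exact hT 2
  have hrev : ∀ i : Fin 8, ∃ j : ℕ, (word (Gw i.1))⁻¹ = word (Gw i.1) ^ j := by
    intro i
    have h2 : ∀ {y : Om}, y * y = 1 → ∃ j : ℕ, y⁻¹ = y ^ j := fun h => ⟨1, by
      rw [pow_one]; exact inv_eq_of_mul_eq_one_left h⟩
    have h3 : ∀ i : Fin 3, ∃ j : ℕ, (dO i)⁻¹ = dO i ^ j := fun i => ⟨2, by rw [pow_two]; exact dO_inv i⟩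
    match i with
    | 0 => exact h2 zz
    | 1 => exact h2 rr
    | 2 => exact h3 0
    | 3 => exact h3 1
    | 4 => exact h3 2
    | 5 => exact h2 (ττ 0)
    | 6 => exact h2 (ττ 1)
    | 7 => exact h2 (ττ 2)
  rw [H8] at hx
  induction hx using Subgroup.closure_induction_left with
  | one => exact ⟨1, one_mem _, 1, one_mem _, 1, one_mem _, by group⟩
  | mul_left x hx y hy ih =>
    obtain ⟨i, rfl⟩ := hx
    exact hgen i y ih
  | inv_mul_cancel x hx y hy ih =>
    obtain ⟨i, rfl⟩ := hx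
    obtain ⟨j, hj⟩ := hrev i
    show ∃ a ∈ QQ zO rO dO, ∃ c ∈ DD dO, ∃ s ∈ TT, (word (Gw i.1))⁻¹ * y = a * c * s
    rw [hj]
    clear hj
    induction j with
    | zero => rw [pow_zero, one_mul]; exact ih
    | succ j ihj =>
      rw [pow_succ', mul_assoc]
      exact hgen i _ ihj

theorem mul_nf {a c a' c' : Om} (ha : a ∈ QQ zO rO dO) (hc : c ∈ DD dO) (ha' : a' ∈ QQ zO rO dO)
    (hc' : c' ∈ DD dO) : ∃ b ∈ QQ zO rO dO, ∃ e ∈ DD dO, a * c * (a' * c') = b * e :=
  ⟨a * (c * a' * c⁻¹), mul_mem ha (conj_QQ hc ha'), c * c', mul_mem hc hc', by group⟩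

/-- squares in `C(z)` are in `Q D` -/
theorem sq {h : Om} (hz : h * zO = zO * h) : ∃ a ∈ QQ zO rO dO, ∃ c ∈ DD dO, h * h = a * c := by
  rw [zO_eq] at hz
  obtain ⟨a, ha, c, hc, s, hs, rfl⟩ := H8_nf (mem_H8 hz)
  obtain ⟨b, hb, e, he, h1⟩ := mul_nf ha hc (TT_Q hs ha) (TT_D hs hc)
  refine ⟨b, hb, e, he, ?_⟩
  rw [← h1]
  calc a * c * s * (a * c * s) = a * c * (s * a * s⁻¹ * (s * c * s⁻¹)) * (s * s) := by group
    _ = _ := by rw [TT_sq hs, mul_one]

/-- elements of order three in `C(z)` are in `Q D` -/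
theorem ord3 {h : Om} (hz : h * zO = zO * h) (h3 : h * h * h = 1) : ∃ a ∈ QQ zO rO dO, ∃ c ∈ DD dO, h = a * c := by
  obtain ⟨a, ha, c, hc, e⟩ := sq hz
  obtain ⟨b, hb, f, hf, e'⟩ := mul_nf ha hc ha hc
  refine ⟨b, hb, f, hf, ?_⟩
  rw [← e', ← e]
  calc h = (h * h * h) * h := by rw [h3, one_mul]
    _ = _ := by group

/-! ### Squares in `O8` -/

/-- a reflection -/
noncomputable def rh : V ≃ₗ[ZMod 2] V := Cfsg.Agent.LieClassical.OrthCore.refl q (dec 136) q136

theorem rh_inv : rh⁻¹ = rh := Cfsg.Agent.LieClassical.OrthCore.refl_inv q136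

theorem rh_mul : rh * rh = 1 := Cfsg.Agent.LieClassical.OrthCore.refl_mul_self q136

theorem rh_mem : rh ∈ O8 := Cfsg.Agent.LieClassical.OrthCore.refl_mem_O q136

theorem mem_or {M : V ≃ₗ[ZMod 2] V} (hM : M ∈ O8) : M ∈ Om ∨ M * rh ∈ Om := by
  have e : O8 = Subgroup.closure (Cfsg.Agent.LieClassical.OrthCore.reflSet q ∪
    Cfsg.Agent.LieClassical.OrthCore.siegelSet q) := Cfsg.Agent.LieClassical.OrthCore.O_eq_closure good.nondeg
  have step : ∀ g y : V ≃ₗ[ZMod 2] V, g ∈ Cfsg.Agent.LieClassical.OrthCore.reflSet q ∪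
      Cfsg.Agent.LieClassical.OrthCore.siegelSet q → (y ∈ Om ∨ y * rh ∈ Om) → (g * y ∈ Om ∨ g * y * rh ∈ Om) := by
    rintro g y (⟨v, hv, rfl⟩ | ⟨u, w, hu, hw, rfl⟩) hy
    · set g := Cfsg.Agent.LieClassical.OrthCore.refl q v hv with hg
      have hgO : g ∈ O8 := Cfsg.Agent.LieClassical.OrthCore.refl_mem_O hv
      have h1 : q v = q (dec 136) := by
        rw [(z2 (q v)).resolve_left hv, (z2 (q (dec 136))).resolve_left q136]
      have h2 : g * rh ∈ Om := by
        have := good.refl_mul_refl_mem q136 hv h1.symm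
        exact this
      rcases hy with hy | hy
      · right
        have e1 : g * y * rh = g * y * g⁻¹ * (g * rh) := by group
        rw [e1]
        exact mul_mem (Cfsg.Agent.LieClassical.OrthCore.conj_mem_E hgO hy) h2
      · left
        have e1 : g * y = g * (y * rh) * g⁻¹ * (g * rh⁻¹) := by group
        rw [e1, rh_inv]
        exact mul_mem (Cfsg.Agent.LieClassical.OrthCore.conj_mem_E hgO hy) h2
    · have hg : Cfsg.Agent.LieClassical.OrthCore.siegel q u w hu hw ∈ Om :=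
        Cfsg.Agent.LieClassical.OrthCore.siegel_mem_E hu hw
      rcases hy with hy | hy
      · left; exact mul_mem hg hy
      · right; rw [mul_assoc]; exact mul_mem hg hy
  have hinv : ∀ g : V ≃ₗ[ZMod 2] V, g ∈ Cfsg.Agent.LieClassical.OrthCore.reflSet q ∪
      Cfsg.Agent.LieClassical.OrthCore.siegelSet q → g⁻¹ ∈ Cfsg.Agent.LieClassical.OrthCore.reflSet q ∪
      Cfsg.Agent.LieClassical.OrthCore.siegelSet q := by
    rintro g (⟨v, hv, rfl⟩ | ⟨u, w, hu, hw, rfl⟩)
    · left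
      rw [Cfsg.Agent.LieClassical.OrthCore.refl_inv]
      exact ⟨v, hv, rfl⟩
    · right
      have h1 := X_inv u w
      rw [X_eq hu hw] at h1
      rw [h1]
      exact ⟨u, w, hu, hw, rfl⟩
  rw [e] at hM
  induction hM using Subgroup.closure_induction_left with
  | one => left; exact one_mem _
  | mul_left x hx y hy ih => exact step x y hx ih
  | inv_mul_cancel x hx y hy ih => exact step _ y (hinv x hx) ih

/-- **squares of isometries are in `Om`** -/
theorem sq_mem_Om {M : V ≃ₗ[ZMod 2] V} (hM : M ∈ O8) : M * M ∈ Om := by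
  rcases mem_or hM with h | h
  · exact mul_mem h h
  · have e : M * M = M * rh * (rh * (M * rh) * rh⁻¹) * (rh * rh) := by
      have : M * rh * (rh * (M * rh) * rh⁻¹) * (rh * rh) = M * (rh * rh) * M * (rh * rh) := by group
      rw [this, rh_mul]; group
    rw [e, rh_mul, mul_one]
    exact mul_mem h (Cfsg.Agent.LieClassical.OrthCore.conj_mem_E rh_mem h)

/-! ### The centraliser of `z` and `D` in `O8` -/

/-- An isometry fixing `e₀, e₁, e₂, e₃, f₂, f₃` is `1` or `z`. -/
theorem kerz {M : V ≃ₗ[ZMod 2] V} (hMO : M ∈ O8) (hM : ∀ a ∈ [1, 2, 4, 8, 64, 128], M (dec a) = dec a) :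
    M = 1 ∨ M = (zO : V ≃ₗ[ZMod 2] V) := by
  obtain ⟨b, hb, hbM, hq, -, -⟩ := exists_code hMO 16
  obtain ⟨b', hb', hbM', hq', -, -⟩ := exists_code hMO 32
  have hc1 : cnd [(1, true), (2, false), (4, false), (8, false), (64, false), (128, false)] b = true :=
    cnd_of_fix hMO hbM (fun p hp => hM p.1 (by
      simp only [List.mem_cons, List.not_mem_nil, or_false] at hp
      rcases hp with rfl | rfl | rfl | rfl | rfl | rfl <;> decide)) (by decide)
  have hc2 : cnd [(1, false), (2, true), (4, false), (8, false), (64, false), (128, false)] b' = true :=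
    cnd_of_fix hMO hbM' (fun p hp => hM p.1 (by
      simp only [List.mem_cons, List.not_mem_nil, or_false] at hp
      rcases hp with rfl | rfl | rfl | rfl | rfl | rfl <;> decide)) (by decide)
  have k1 : ∀ b < 256, (!qn b && cnd [(1, true), (2, false), (4, false), (8, false), (64, false), (128, false)] b)
      = true → b = 16 ∨ b = 18 := by decide +kernel
  have k2 : ∀ b < 256, (!qn b && cnd [(1, false), (2, true), (4, false), (8, false), (64, false), (128, false)] b)
      = true → b = 32 ∨ b = 33 := by decide +kernel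
  have hbb : Bn b b' = false := by
    have e := O8_B hMO (dec 16) (dec 32)
    rw [hbM, hbM', B_dec, B_dec] at e
    rw [cc_inj e]; decide
  have fin : ∀ l : List (ℕ × ℕ), l.all ok = true → ev l 16 = b → ev l 32 = b' →
      (∀ a ∈ [1, 2, 4, 8, 64, 128], ev l a = a) → M = word l := by
    intro l hl h1 h2 h3
    apply eval_eq hl
    intro a ha
    simp only [basis, List.mem_cons, List.not_mem_nil, or_false] at ha
    rcases ha with rfl | rfl | rfl | rfl | rfl | rfl | rfl | rfl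
    · rw [hM _ (by decide), h3 _ (by decide)]
    · rw [hM _ (by decide), h3 _ (by decide)]
    · rw [hM _ (by decide), h3 _ (by decide)]
    · rw [hM _ (by decide), h3 _ (by decide)]
    · rw [hbM, h1]
    · rw [hbM', h2]
    · rw [hM _ (by decide), h3 _ (by decide)]
    · rw [hM _ (by decide), h3 _ (by decide)]
  rcases k1 b hb (by rw [hq, hc1]; decide) with rfl | rfl <;>
    rcases k2 b' hb' (by rw [hq', hc2]; decide) with rfl | rfl
  · left; exact fin [] (by decide) (by decide) (by decide) (by decide)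
  · exact absurd hbb (by decide)
  · exact absurd hbb (by decide)
  · right; exact fin (Gw 0) (by decide) (by decide) (by decide) (by decide)

theorem ev_comm {M : V ≃ₗ[ZMod 2] V} {l : List (ℕ × ℕ)} (hl : l.all ok = true)
    (h : M * (word l : V ≃ₗ[ZMod 2] V) = word l * M) {v m : ℕ}
    (hv : M (dec v) = dec m) : M (dec (ev l v)) = dec (ev l m) := by
  rw [← word_dec hl, ← word_dec hl, ← hv]
  exact LinearEquiv.congr_fun h (dec v)

theorem comm_pw {M : V ≃ₗ[ZMod 2] V} {l : List (ℕ × ℕ)}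
    (h : M * (word l : V ≃ₗ[ZMod 2] V) = word l * M) (n : ℕ) :
    M * (word (pw l n) : V ≃ₗ[ZMod 2] V) = word (pw l n) * M := by
  rw [pw_word]
  have : Commute M (word l : V ≃ₗ[ZMod 2] V) := h
  exact (this.pow_right n).eq

/-- **(f3), linear part** -/
theorem c3 {M : V ≃ₗ[ZMod 2] V} (hM : M ∈ O8) (hz : M * (zO : V ≃ₗ[ZMod 2] V) = zO * M)
    (hd : ∀ i, M * (dO i : V ≃ₗ[ZMod 2] V) = dO i * M) :
    ∃ c ∈ DD dO, M = (c : V ≃ₗ[ZMod 2] V) ∨ M = ((zO * c : Om) : V ≃ₗ[ZMod 2] V) := by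
  have h12 : dec 1 ≠ dec 2 := fun h => absurd (dec_inj (by norm_num) (by norm_num) h) (by norm_num)
  have hz' : M * X (dec 1) (dec 2) = X (dec 1) (dec 2) * M := by
    rw [zO_eq] at hz; exact hz
  have h := mem_of_commute hM (u := dec 1) (w := dec 2) (by rw [q_dec]; decide) (by rw [q_dec]; decide)
    (by rw [B_dec]; decide) (dec_ne_zero (by norm_num) (by norm_num)) (dec_ne_zero (by norm_num) (by norm_num))
    h12 hz'
  obtain ⟨a, ha, hMa⟩ := line_code h.1
  have k1 : ∀ a ∈ [1, 2, 3], ∃ i < 3, ev (pw (Gw 2) i) 1 = a := by decide +kernel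
  obtain ⟨i, hi, hia⟩ := k1 a ha
  have okc : ∀ i < 3, ∀ j < 3, ∀ k < 3, ((cW i j k).all ok && (pw (Gw 2) i).all ok &&
      (pw (Gw 3) j ++ pw (Gw 4) k).all ok) = true := by decide +kernel
  have oki : (pw (Gw 2) i).all ok = true := by
    have := okc i hi 0 (by norm_num) 0 (by norm_num)
    rw [Bool.and_eq_true, Bool.and_eq_true] at this
    exact this.1.2
  -- commuting with `D`
  have hcD : ∀ N : V ≃ₗ[ZMod 2] V, (∀ i, N * (dO i : V ≃ₗ[ZMod 2] V) = dO i * N) → ∀ j k : ℕ,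
      N * (word (pw (Gw 3) j ++ pw (Gw 4) k) : V ≃ₗ[ZMod 2] V) = word (pw (Gw 3) j ++ pw (Gw 4) k) * N := by
    intro N hN j k
    rw [word_append]
    have e1 : Commute N (word (pw (Gw 3) j) : V ≃ₗ[ZMod 2] V) := comm_pw (hN 1) j
    have e2 : Commute N (word (pw (Gw 4) k) : V ≃ₗ[ZMod 2] V) := comm_pw (hN 2) k
    exact (e1.mul_right e2).eq
  set A : Om := word (pw (Gw 2) i) with hA
  have hAd : ∀ j, A * dO j = dO j * A := by
    intro j
    have : Commute (word (Gw 2)) (dO j) := dd 0 j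
    rw [hA, pw_word]
    exact (this.pow_left i).eq
  set M1 : V ≃ₗ[ZMod 2] V := (A : V ≃ₗ[ZMod 2] V)⁻¹ * M with hM1
  have hM1O : M1 ∈ O8 := mul_mem (inv_mem (Om_le A.2)) hM
  have hM1d : ∀ j, M1 * (dO j : V ≃ₗ[ZMod 2] V) = dO j * M1 := by
    intro j
    have e1 : Commute (A : V ≃ₗ[ZMod 2] V) (dO j : V ≃ₗ[ZMod 2] V) := congrArg Subtype.val (hAd j)
    have e2 : Commute M (dO j : V ≃ₗ[ZMod 2] V) := hd j
    exact (e1.inv_left.mul_left e2).eq
  have f1 : M1 (dec 1) = dec 1 := by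
    show (A : V ≃ₗ[ZMod 2] V).symm (M (dec 1)) = dec 1
    rw [LinearEquiv.symm_apply_eq, hA, word_dec oki, hia, hMa]
  have f2 : M1 (dec 2) = dec 2 := by
    have k2 : ∃ j < 3, ev (pw (Gw 2) j) 1 = 2 := k1 2 (by decide)
    obtain ⟨j, hj, e⟩ := k2
    have okj : (pw (Gw 2) j).all ok = true := by
      have := okc j hj 0 (by norm_num) 0 (by norm_num)
      rw [Bool.and_eq_true, Bool.and_eq_true] at this
      exact this.1.2
    have := ev_comm okj (comm_pw (hM1d 0) j) f1
    rwa [e] at this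
  obtain ⟨b, hb, hbM, hqb, hb0, -⟩ := exists_code hM1O 4
  have hfix : ev (Gw 2) b = b := by
    have h1 := ev_comm (l := Gw 2) (by decide) (hM1d 0) hbM
    have e : ev (Gw 2) 4 = 4 := by decide
    rw [e, hbM] at h1
    exact (dec_inj hb (ev_lt (by decide) hb) h1).symm
  have k3 : ∀ b < 256, ((b == 0) || qn b || !(ev (Gw 2) b == b) ||
      (List.range 3).any fun j => (List.range 3).any fun k => ev (pw (Gw 3) j ++ pw (Gw 4) k) 4 == b) = true := by
    decide +kernel
  have h3 := k3 b hb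
  have hb0' : (b == 0) = false := by simpa using hb0 (dec_ne_zero (by norm_num) (by norm_num))
  have hqb' : qn b = false := by rw [hqb]; decide
  have hfix' : (ev (Gw 2) b == b) = true := by rw [hfix]; simp
  rw [hb0', hqb', hfix', Bool.not_true, Bool.false_or, Bool.false_or, Bool.false_or, List.any_eq_true] at h3
  obtain ⟨j, hj, h3⟩ := h3
  rw [List.any_eq_true] at h3
  obtain ⟨k, hk, h3⟩ := h3
  rw [List.mem_range] at hj hk
  rw [beq_iff_eq] at h3
  have okjk : (pw (Gw 3) j ++ pw (Gw 4) k).all ok = true := by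
    have := okc 0 (by norm_num) j hj k hk
    rw [Bool.and_eq_true] at this
    exact this.2
  set A' : Om := word (pw (Gw 3) j ++ pw (Gw 4) k) with hA'
  have hAd' : ∀ l, A' * dO l = dO l * A' := by
    intro l
    have e1 : Commute (word (Gw 3)) (dO l) := dd 1 l
    have e2 : Commute (word (Gw 4)) (dO l) := dd 2 l
    rw [hA', word_append, pw_word, pw_word]
    exact ((e1.pow_left j).mul_left (e2.pow_left k)).eq
  set M2 : V ≃ₗ[ZMod 2] V := (A' : V ≃ₗ[ZMod 2] V)⁻¹ * M1 with hM2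
  have hM2O : M2 ∈ O8 := mul_mem (inv_mem (Om_le A'.2)) hM1O
  have hM2d : ∀ j, M2 * (dO j : V ≃ₗ[ZMod 2] V) = dO j * M2 := by
    intro j
    have e1 : Commute (A' : V ≃ₗ[ZMod 2] V) (dO j : V ≃ₗ[ZMod 2] V) := congrArg Subtype.val (hAd' j)
    have e2 : Commute M1 (dO j : V ≃ₗ[ZMod 2] V) := hM1d j
    exact (e1.inv_left.mul_left e2).eq
  have k4 : ∀ j < 3, ∀ k < 3, (ev (pw (Gw 3) j ++ pw (Gw 4) k) 1 == 1 &&
      (ev (pw (Gw 3) j ++ pw (Gw 4) k) 2 == 2)) = true := by decide +kernel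
  have h4 := k4 j hj k hk
  rw [Bool.and_eq_true, beq_iff_eq, beq_iff_eq] at h4
  have g1 : M2 (dec 1) = dec 1 := by
    show (A' : V ≃ₗ[ZMod 2] V).symm (M1 (dec 1)) = dec 1
    rw [LinearEquiv.symm_apply_eq, hA', word_dec okjk, h4.1, f1]
  have g2 : M2 (dec 2) = dec 2 := by
    show (A' : V ≃ₗ[ZMod 2] V).symm (M1 (dec 2)) = dec 2
    rw [LinearEquiv.symm_apply_eq, hA', word_dec okjk, h4.2, f2]
  have g4 : M2 (dec 4) = dec 4 := by
    show (A' : V ≃ₗ[ZMod 2] V).symm (M1 (dec 4)) = dec 4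
    rw [LinearEquiv.symm_apply_eq, hA', word_dec okjk, h3, hbM]
  have k5 : ∀ v ∈ [8, 64, 128], ∃ j < 3, ∃ k < 3, ev (pw (Gw 3) j ++ pw (Gw 4) k) 4 = v := by decide +kernel
  have g5 : ∀ v ∈ [8, 64, 128], M2 (dec v) = dec v := by
    intro v hv
    obtain ⟨j', hj', k', hk', e⟩ := k5 v hv
    have okjk' : (pw (Gw 3) j' ++ pw (Gw 4) k').all ok = true := by
      have := okc 0 (by norm_num) j' hj' k' hk'
      rw [Bool.and_eq_true] at this
      exact this.2
    have := ev_comm okjk' (hcD M2 hM2d j' k') g4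
    rwa [e] at this
  have hfin := kerz hM2O (by
    intro a ha
    simp only [List.mem_cons, List.not_mem_nil, or_false] at ha
    rcases ha with rfl | rfl | rfl | rfl | rfl | rfl
    · exact g1
    · exact g2
    · exact g4
    · exact g5 _ (by decide)
    · exact g5 _ (by decide)
    · exact g5 _ (by decide))
  have hAA : A * A' ∈ DD dO := by
    have : A * A' = word (cW i j k) := by
      rw [cW, word_append]
    rw [this]
    exact cW_mem _ _ _
  have hMe : M = (A : V ≃ₗ[ZMod 2] V) * A' * M2 := by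
    rw [hM2, hM1]; group
  refine ⟨A * A', hAA, ?_⟩
  rcases hfin with h5 | h5
  · left
    rw [hMe, h5, mul_one]; rfl
  · right
    rw [hMe, h5]
    have hzA : A * A' * zO = zO * (A * A') := by
      have : DD dO ≤ Subgroup.centralizer {zO} := by
        rw [DD, Subgroup.closure_le]
        rintro _ ⟨i, rfl⟩
        rw [SetLike.mem_coe, Subgroup.mem_centralizer_singleton_iff]
        exact (zd i).symm
      exact Subgroup.mem_centralizer_singleton_iff.1 (this hAA)
    exact congrArg Subtype.val hzA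

end Cfsg.Agent.StdO8.FactG

private theorem dce_a28f7a8711b2 : _root_.True := by
  try have : _root_.True := by simp only [_root_.Cfsg.Agent.StdO8.Gen.H8.eq_1]
  try have : _root_.True := by simp only [_root_.Cfsg.Agent.StdO8.FactG.TT.eq_1]
  exact _root_.True.intro
end

-- part: StdO8/FactI
section
prune_inst 0x101005400500000000000082210024043c0000900063000141000f020200236000002f008c20150200220a0400040068135400404000000000000000413c05a18002100201400000000001002080000000000000000000000000000000000000000400000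
set_option linter.all false
open scoped Cfsg.Agent.FastGrp

-- part: StdO8/FactH
section
/-!
# The facts about `C_G(t)` for the doubling of a root element
-/

set_option autoImplicit false

namespace Cfsg.Agent.StdO8.FactH

open Cfsg.Agent.StdO8.Model Cfsg.Agent.StdO8.Code Cfsg.Agent.StdO8.Gen Cfsg.Agent.StdO8.FactD
open Cfsg.Agent.StdO8.Aut Cfsg.Agent.StdO8.Frame Cfsg.Agent.StdO8.Root
open Cfsg.Agent.StdO8.FactG hiding zr rr dd
open Cfsg.Agent.StdO8.DoubCore (DD QQ TZ)
open Cfsg.Agent.StdO8.DoubRoot (zr rr al dd ta)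
open Cfsg.Agent.StdO8.DataOf (x xm)
open Cfsg.Agent.StdO8.Bas (bv wt)

/-! ### Coordinates -/

theorem bv_dec : ∀ i : Fin 8, bv i = dec (2 ^ i.1) := by decide +kernel

seal _root_.Finset.sum _root_.Function.update in
theorem xm_wt {i j : Fin 8} (h : Bas.ok i j) : xm (wt i + wt j) = gen (2 ^ i.1, 2 ^ j.1) := by
  apply Subtype.ext
  show Bas.xO (wt i + wt j) = X (dec _) (dec _)
  rw [Bas.xO_wt h, Bas.xb, bv_dec, bv_dec]

theorem zr_eq : zr = wt 0 + wt 1 := by decide
theorem rr_eq : rr = wt 0 + wt 2 := by decide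

theorem xm_z : xm zr = zO := by
  rw [zr_eq, xm_wt (by decide), zO_eq]; rfl

theorem gen_eq (p : ℕ × ℕ) {l : List (ℕ × ℕ)} (h : l = [p]) : word l = gen p := by rw [h, word_single]

theorem xm_r : xm rr = rO := by
  rw [rr_eq, xm_wt (by decide), rO]
  exact (gen_eq _ rfl).symm

theorem xm_τ (i : Fin 3) : xm (al i) = τO i := by
  match i with
  | 0 =>
    have e : al 0 = wt 0 + wt 5 := by decide
    rw [e, xm_wt (by decide), τO]
    exact (gen_eq _ rfl).symm
  | 1 =>
    have e : al 1 = wt 2 + wt 7 := by decide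
    rw [e, xm_wt (by decide), τO]
    exact (gen_eq _ rfl).symm
  | 2 =>
    have e : al 2 = wt 2 + wt 3 := by decide
    rw [e, xm_wt (by decide), τO]
    exact (gen_eq _ rfl).symm

theorem xm_d (i : Fin 3) : xm (al i) * xm (-al i) = dO i := by
  match i with
  | 0 =>
    have e : al 0 = wt 0 + wt 5 := by decide
    have e' : -al 0 = wt 1 + wt 4 := by decide
    rw [e', e, xm_wt (by decide), xm_wt (by decide), dO]
    show _ = word [(1, 32), (2, 16)]
    rw [word_cons, word_single]; rfl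
  | 1 =>
    have e : al 1 = wt 2 + wt 7 := by decide
    have e' : -al 1 = wt 3 + wt 6 := by decide
    rw [e', e, xm_wt (by decide), xm_wt (by decide), dO]
    show _ = word [(4, 128), (8, 64)]
    rw [word_cons, word_single]; rfl
  | 2 =>
    have e : al 2 = wt 2 + wt 3 := by decide
    have e' : -al 2 = wt 6 + wt 7 := by decide
    rw [e', e, xm_wt (by decide), xm_wt (by decide), dO]
    show _ = word [(4, 8), (64, 128)]
    rw [word_cons, word_single]; rfl

/-! ### Transport -/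

theorem DD_map {H K : Type*} [Group H] [Group K] (f : H →* K) (d : Fin 3 → H) :
    (DD d).map f = DD (fun i => f (d i)) := by
  rw [DD, DD, MonoidHom.map_closure, ← Set.range_comp]
  rfl

theorem QQ_map {H K : Type*} [Group H] [Group K] (f : H →* K) (z r : H) (d : Fin 3 → H) :
    (QQ z r d).map f = QQ (f z) (f r) (fun i => f (d i)) := by
  rw [QQ, QQ, MonoidHom.map_closure, Set.image_union, Set.image_singleton]
  congr 2
  ext y
  constructor
  · rintro ⟨_, ⟨c, hc, rfl⟩, rfl⟩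
    refine ⟨f c, ?_, by rw [map_mul, map_mul, map_inv]⟩
    rw [← DD_map]
    exact ⟨c, hc, rfl⟩
  · rintro ⟨c', hc', rfl⟩
    rw [← DD_map] at hc'
    obtain ⟨c, hc, rfl⟩ := hc'
    exact ⟨_, ⟨c, hc, rfl⟩, by rw [map_mul, map_mul, map_inv]⟩

variable {G : Type*} [Group G] (C : Ctx G)

theorem x_z : x C zr = C.r zO := by rw [x, xm_z]
theorem x_r : x C rr = C.r rO := by rw [x, xm_r]
theorem x_τ : ta (x C) = fun i => C.r (τO i) := by
  funext i
  show C.r (xm (al i)) = _
  rw [xm_τ]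
theorem x_d : dd (x C) = fun i => C.r (dO i) := by
  funext i
  show C.r (xm (al i)) * C.r (xm (-al i)) = _
  rw [← map_mul, xm_d]

theorem mem_DD {g : G} : g ∈ DD (fun i => C.r (dO i)) ↔ ∃ c ∈ DD dO, C.r c = g := by
  rw [← DD_map]; rfl

theorem mem_QQ {g : G} : g ∈ QQ (C.r zO) (C.r rO) (fun i => C.r (dO i)) ↔ ∃ c ∈ QQ zO rO dO, C.r c = g := by
  rw [← QQ_map]; rfl

/-! ### (f3) -/

theorem not_root_c2 {c : V ≃ₗ[ZMod 2] V} (h1 : IsRoot c) (h2 : IsC2 c) : False := by
  obtain ⟨u, w, hu, hw, huw, hu0, hw0, hne, rfl⟩ := h1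
  obtain ⟨u', w', hu', hu0', huw', hw', e⟩ := h2
  obtain ⟨v, hv⟩ : ∃ v, B u' v ≠ 0 := by
    by_contra hcon
    push Not at hcon
    exact hu0' (nondeg hcon)
  have hv1 : B u' v = 1 := (z2 _).resolve_left hv
  have h3 : B v (X u w v) = 0 := by
    rw [X_apply hu hw huw, B_add_right, B_add_right, B_self, B_smul_right, B_smul_right, zero_add,
      B_comm v u, B_comm v w, mul_comm]
    exact z2_add_self _
  have h4 : B v (X u' w' v) = 1 := by
    rw [X_apply' hu' huw', B_add_right, B_add_right, B_add_right, B_self, B_smul_right, B_smul_right,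
      B_smul_right, B_comm v u', B_comm v w', hw', hv1, zero_add, one_mul, mul_one, mul_one, z2_add_self, zero_add,
      mul_one]
  rw [e, h4] at h3
  exact absurd h3 (by decide)

theorem τ0_eq : (τO 0 : V ≃ₗ[ZMod 2] V) = X (dec 1) (dec 32) := by
  have : τO 0 = gen (1, 32) := gen_eq _ rfl
  rw [this]; rfl

theorem τ0_root : IsRoot (τO 0 : V ≃ₗ[ZMod 2] V) := by
  refine ⟨dec 1, dec 32, by rw [q_dec]; decide, by rw [q_dec]; decide, by rw [B_dec]; decide,
    dec_ne_zero (by norm_num) (by norm_num), dec_ne_zero (by norm_num) (by norm_num),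
    fun h => absurd (dec_inj (by norm_num) (by norm_num) h) (by norm_num), τ0_eq⟩

seal _root_.Finset.sum in
theorem zτ0_c2 : IsC2 ((zO * τO 0 : Om) : V ≃ₗ[ZMod 2] V) := by
  refine ⟨dec 1, dec 2 + dec 32, by rw [q_dec]; decide, dec_ne_zero (by norm_num) (by norm_num), ?_, ?_, ?_⟩
  · rw [B_add_right, B_dec, B_dec]; decide
  · rw [← dec_xor, q_dec]; decide
  · show (zO : V ≃ₗ[ZMod 2] V) * (τO 0 : V ≃ₗ[ZMod 2] V) = _
    rw [τ0_eq, zO_eq]
    exact X_mul (by rw [q_dec]; decide) (by rw [B_dec]; decide) (by rw [B_dec]; decide)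

theorem z_D {c : Om} (hc : c ∈ DD dO) : zO * c = c * zO := by
  have : DD dO ≤ Subgroup.centralizer {zO} := by
    rw [DD, Subgroup.closure_le]
    rintro _ ⟨i, rfl⟩
    rw [SetLike.mem_coe, Subgroup.mem_centralizer_singleton_iff]
    exact (zd i).symm
  exact (Subgroup.mem_centralizer_singleton_iff.1 (this hc)).symm

/-- The image of `τ₀` under an automorphism fixing `z` and `D`. -/
theorem c2_map (α : MulAut Om) (hz : α zO = zO) (hd : ∀ i, α (dO i) = dO i) :
    IsC2 ((α (zO * τO 0) : Om) : V ≃ₗ[ZMod 2] V) := by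
  set! y := α (τO 0) with hy
  have hyy : y * y = 1 := by rw [hy, ← map_mul, ττ, map_one]
  have hyz : y * zO = zO * y := by
    have := congrArg α (zτ 0)
    rw [map_mul, map_mul, hz] at this
    exact this.symm
  have hyd : ∀ i, i ≠ 0 → y * dO i = dO i * y := by
    intro i hi
    have := congrArg α (τd 0 i (Ne.symm hi))
    rw [map_mul, map_mul, hd] at this
    exact this
  have hyd0 : y * dO 0 * y = (dO 0)⁻¹ := by
    have := congrArg α (τdi 0)
    rw [map_mul, map_mul, map_inv, hd] at this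
    exact this
  have hyi : y⁻¹ = y := (inv_eq_of_mul_eq_one_left hyy :)
  have hτd0 := τdi 0
  -- `y τ₀` centralises `z` and `D`
  have h1 : (y * τO 0) * zO = zO * (y * τO 0) := by
    rw [mul_assoc, ← zτ, ← mul_assoc, hyz, mul_assoc]
  have h2 : ∀ i, (y * τO 0) * dO i = dO i * (y * τO 0) := by
    intro i
    by_cases hi : i = 0
    · subst hi
      have e1 : τO 0 * dO 0 = (dO 0)⁻¹ * τO 0 := by
        rw [← hτd0]
        calc τO 0 * dO 0 = τO 0 * dO 0 * (τO 0 * τO 0) := by rw [ττ, mul_one]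
          _ = _ := by group
      have e2 : y * (dO 0)⁻¹ = dO 0 * y := by
        rw [← hyd0]
        calc y * (y * dO 0 * y) = (y * y) * dO 0 * y := by group
          _ = _ := by rw [hyy, one_mul]
      rw [mul_assoc, e1, ← mul_assoc, e2, mul_assoc]
    · rw [mul_assoc, τd 0 i (Ne.symm hi), ← mul_assoc, hyd i hi, mul_assoc]
  obtain ⟨c, hc, h3⟩ := c3 (M := ((y * τO 0 : Om) : V ≃ₗ[ZMod 2] V)) (Om_le (y * τO 0).2)
    ((congrArg Subtype.val h1 :)) (fun i => (congrArg Subtype.val (h2 i) :))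
  -- the conjugate of `τ₀`
  have key : ∀ c ∈ DD dO, c * τO 0 * (c * τO 0) = 1 → c * τO 0 = c⁻¹ * τO 0 * c⁻¹⁻¹ := by
    intro c hc h
    have e1 : c * c * c = 1 := Cfsg.Agent.StdO8.FactF.D_cube hc
    have e2 : τO 0 * c * τO 0 = c⁻¹ := by
      rw [eq_inv_iff_mul_eq_one]
      have : c⁻¹ * (c * τO 0 * (c * τO 0)) * c = c⁻¹ * 1 * c := by rw [h]
      rw [mul_one, inv_mul_cancel] at this
      rw [← this]; group
    have e3 : τO 0 * c = c⁻¹ * τO 0 := by
      rw [← e2]
      calc τO 0 * c = τO 0 * c * (τO 0 * τO 0) := by rw [ττ, mul_one]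
        _ = _ := by group
    calc c * τO 0 = c⁻¹ * c⁻¹ * (c * c * c) * τO 0 := by group
      _ = c⁻¹ * (c⁻¹ * τO 0) := by rw [e1]; group
      _ = c⁻¹ * (τO 0 * c) := by rw [e3]
      _ = _ := by group
  have hconj : ∀ c ∈ DD dO, IsC2 ((zO * (c⁻¹ * τO 0 * c⁻¹⁻¹) : Om) : V ≃ₗ[ZMod 2] V) := by
    intro c hc
    have e : zO * (c⁻¹ * τO 0 * c⁻¹⁻¹) = c⁻¹ * (zO * τO 0) * c⁻¹⁻¹ := by
      have := z_D (inv_mem hc)
      calc zO * (c⁻¹ * τO 0 * c⁻¹⁻¹) = (zO * c⁻¹) * τO 0 * c⁻¹⁻¹ := by group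
        _ = _ := by rw [this]; group
    rw [e]
    exact zτ0_c2.conj (M := ((c⁻¹ : Om) : V ≃ₗ[ZMod 2] V)) (Om_le (c⁻¹).2)
  rw [map_mul, hz, ← hy]
  rcases h3 with h3 | h3
  · have h4 : y * τO 0 = c := Subtype.ext h3
    have h5 : y = c * τO 0 := by rw [← h4, mul_assoc, ττ, mul_one]
    rw [h5, key c hc (by rw [← h5]; exact hyy)]
    exact hconj c hc
  · exfalso
    have h4 : y * τO 0 = zO * c := Subtype.ext h3
    have h5 : y = zO * (c * τO 0) := by rw [← mul_assoc, ← h4, mul_assoc, ττ, mul_one]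
    have h6 : c * τO 0 * (c * τO 0) = 1 := by
      have e1 : (c * τO 0) * zO = zO * (c * τO 0) := by
        rw [mul_assoc, ← zτ, ← mul_assoc, ← z_D hc, mul_assoc]
      calc c * τO 0 * (c * τO 0) = (zO * zO) * (c * τO 0) * (c * τO 0) := by rw [zz, one_mul]
        _ = zO * (zO * (c * τO 0)) * (c * τO 0) := by group
        _ = zO * ((c * τO 0) * zO) * (c * τO 0) := by rw [e1]
        _ = y * y := by rw [h5]; group
        _ = 1 := hyy
    refine not_root_c2 (c := ((y : Om) : V ≃ₗ[ZMod 2] V)) (isRoot_map α τ0_root) ?_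
    rw [h5, key c hc h6]
    exact hconj c hc

theorem isLin_of_D {g : G} (ht : g * C.t = C.t * g) (hz : g * C.r zO = C.r zO * g)
    (hd : ∀ i, g * C.r (dO i) = C.r (dO i) * g) : ∃ M, C.IsLin g M := by
  obtain ⟨α, hα⟩ := C.norm g ht
  have hfix : ∀ m, g * C.r m = C.r m * g → α m = m := by
    intro m hm
    apply C.inj
    rw [← hα, hm, mul_inv_cancel_right]
  exact C.isLin_of_c2 ht zτ0_c2 (c2_map α (hfix _ hz) fun i => hfix _ (hd i)) (hα _)

theorem cD {g : G} (ht : g * C.t = C.t * g) (hz : g * C.r zO = C.r zO * g)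
    (hd : ∀ i, g * C.r (dO i) = C.r (dO i) * g) :
    ∃ s, TZ C.t (C.r zO) s ∧ ∃ c ∈ DD (fun i => C.r (dO i)), g = s * c := by
  obtain ⟨M, hM⟩ := isLin_of_D C ht hz hd
  obtain ⟨c, hc, h⟩ := c3 M.2 ((hM.commute_iff zO).1 hz) (fun i => (hM.commute_iff (dO i)).1 (hd i))
  have hcD : C.r c ∈ DD (fun i => C.r (dO i)) := (mem_DD C).2 ⟨c, hc, rfl⟩
  rcases h with h | h
  · rcases DataOf.eq_of_isLin C hM h with h1 | h1
    · exact ⟨1, Or.inl rfl, C.r c, hcD, by rw [h1, one_mul]⟩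
    · exact ⟨C.t, Or.inr (Or.inl rfl), C.r c, hcD, h1⟩
  · rcases DataOf.eq_of_isLin C hM h with h1 | h1
    · exact ⟨C.r zO, Or.inr (Or.inr (Or.inl rfl)), C.r c, hcD, by rw [h1, map_mul]⟩
    · exact ⟨C.t * C.r zO, Or.inr (Or.inr (Or.inr rfl)), C.r c, hcD, by rw [h1, map_mul, mul_assoc]⟩

/-! ### (f4) -/

theorem nQD {g : G} (ht : g * C.t = C.t * g) (hz : g * C.r zO = C.r zO * g) (i : Fin 3) :
    ∃ q ∈ QQ (C.r zO) (C.r rO) (fun i => C.r (dO i)), ∃ c ∈ DD (fun i => C.r (dO i)),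
      g * C.r (dO i) * g⁻¹ = q * c := by
  obtain ⟨α, hα⟩ := C.norm g ht
  have h1 : α zO = zO := by
    apply C.inj
    rw [← hα, hz, mul_inv_cancel_right]
  have h2 : α (dO i) * zO = zO * α (dO i) := by
    have := congrArg α (zd i)
    rw [map_mul, map_mul, h1] at this
    exact this.symm
  have h3 : α (dO i) * α (dO i) * α (dO i) = 1 := by
    rw [← map_mul, ← map_mul, d3, map_one]
  obtain ⟨a, ha, c, hc, e⟩ := ord3 h2 h3
  exact ⟨C.r a, (mem_QQ C).2 ⟨a, ha, rfl⟩, C.r c, (mem_DD C).2 ⟨c, hc, rfl⟩, by rw [hα, e, map_mul]⟩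

/-- The form of (f2). -/
def Frat : Prop := ∀ g : G, g * C.r zO * g⁻¹ = C.r zO → g * C.t * g⁻¹ = C.t * C.r zO →
    ∃ c : G, c * C.t = C.t * c ∧ c * C.r zO = C.r zO * c ∧
      ∀ e ∈ DD (fun i => C.r (dO i)), (c * g) * e * (c * g)⁻¹ ∈ DD (fun i => C.r (dO i))

theorem rne {a b : Om} (h : a ≠ b) : C.r a ≠ C.r b := fun e => h (C.inj e)

theorem core_of_frat (hF : Frat C) :
    DoubCore.Core C.t (C.r zO) (C.r rO) C.L (fun i => C.r (dO i)) (fun i => C.r (τO i)) where
  tt := C.tt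
  tL := by
    rintro _ ⟨m, rfl⟩
    exact (C.comm m).eq.symm
  t_notMem := C.t_notMem
  zL := C.r_mem _
  rL := C.r_mem _
  dL := fun i => C.r_mem _
  τL := fun i => C.r_mem _
  z1 := by rw [← map_one C.r]; exact rne C z1
  zz := by rw [← map_mul, zz, map_one]
  r1 := by rw [← map_one C.r]; exact rne C r1
  rz := rne C rz
  rr := by rw [← map_mul, FactG.rr, map_one]
  ττ := fun i => by rw [← map_mul, ττ, map_one]
  d3 := fun i => by rw [← map_mul, ← map_mul, d3, map_one]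
  d1 := fun i => by rw [← map_one C.r]; exact rne C (d1 i)
  zr := by rw [← map_mul, FactG.zr, map_mul]
  zd := fun i => by rw [← map_mul, zd, map_mul]
  zτ := fun i => by rw [← map_mul, zτ, map_mul]
  dd := fun i j => by rw [← map_mul, FactG.dd, map_mul]
  τc := fun i j => by rw [← map_mul, τc, map_mul]
  τd := fun i j h => by rw [← map_mul, τd i j h, map_mul]
  τdi := fun i => by rw [← map_mul, ← map_mul, τdi, map_inv]
  rτ := fun i => by rw [← map_mul, rτ, map_mul]
  rd := fun i => by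
    have := congrArg C.r (rd i)
    rw [map_mul, map_mul, map_mul, map_mul, map_mul, map_mul, map_inv, map_one] at this
    exact this
  frat := hF
  cD := fun g h1 h2 h3 => cD C h1 h2 h3
  nQD := fun g h1 h2 i => nQD C h1 h2 i
  QD2 := by
    intro q hq c hc h
    obtain ⟨a, ha, rfl⟩ := (mem_QQ C).1 hq
    obtain ⟨b, hb, rfl⟩ := (mem_DD C).1 hc
    rw [← map_mul, ← map_mul, ← map_one C.r] at h
    rw [Cfsg.Agent.StdO8.FactF.QD2 ha hb (C.inj h), map_one]
  Qd := by
    intro i q hq h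
    obtain ⟨a, ha, rfl⟩ := (mem_QQ C).1 hq
    rw [← map_mul, ← map_mul] at h
    rcases Cfsg.Agent.StdO8.FactE.Qd (QQ_le_U ha) i (C.inj h) with h | h
    · left; rw [h, map_one]
    · right; rw [h]
  Qτ := by
    intro q hq h
    obtain ⟨a, ha, rfl⟩ := (mem_QQ C).1 hq
    have h' : ∀ i, a * τO i = τO i * a := fun i => by
      apply C.inj
      rw [map_mul, map_mul]
      exact h i
    rcases Cfsg.Agent.StdO8.FactE.Qτ (QQ_le_U ha) h' with h | h | h | h
    · left; rw [h, map_one]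
    · right; left; rw [h]
    · right; right; left; rw [h]
    · right; right; right; rw [h, map_mul]
  rc := by
    intro c hc h
    obtain ⟨b, hb, rfl⟩ := (mem_DD C).1 hc
    rw [← map_mul, ← map_mul] at h
    rw [Cfsg.Agent.StdO8.FactF.rc hb (C.inj h), map_one]
  Qc := by
    intro c hc h1 h2
    obtain ⟨b, hb, rfl⟩ := (mem_DD C).1 hc
    obtain ⟨a, ha, e1, e2, e3⟩ := Cfsg.Agent.StdO8.FactF.Qc hb (fun h => h1 (by rw [h, map_one]))
      (fun i => ⟨fun h => (h2 i).1 (by rw [h]), fun h => (h2 i).2 (by rw [h, map_inv])⟩)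
    refine ⟨C.r a, (mem_QQ C).2 ⟨a, ha, rfl⟩, ?_, rne C e2, by rw [← map_mul, e3, map_mul]⟩
    rw [← map_one C.r]; exact rne C e1

/-- In the coordinates of the root elements. -/
theorem core_of_frat' (hF : Frat C) : DoubCore.Core C.t (x C zr) (x C rr) C.L (dd (x C)) (ta (x C)) := by
  rw [x_z, x_r, x_d, x_τ]
  exact core_of_frat C hF

/-! ### (f7) -/

theorem f7' {g : G} (hg : g ∈ C.L) (h : g * C.r zO = C.r zO * g) : g ∈ Subgroup.closure
    ({C.r zO, C.r rO} ∪ Set.range (fun i => C.r (dO i)) ∪ Set.range (fun i => C.r (τO i))) := by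
  obtain ⟨m, rfl⟩ := hg
  rw [← map_mul, ← map_mul] at h
  have h1 : m ∈ H8 := mem_H8 (by rw [← zO_eq]; exact C.inj h)
  have h2 : C.r m ∈ H8.map C.r := ⟨m, h1, rfl⟩
  rw [H8, MonoidHom.map_closure] at h2
  refine Subgroup.closure_mono ?_ h2
  rintro _ ⟨_, ⟨i, rfl⟩, rfl⟩
  match i with
  | 0 => exact Or.inl (Or.inl (Or.inl rfl))
  | 1 => exact Or.inl (Or.inl (Or.inr rfl))
  | 2 => exact Or.inl (Or.inr ⟨0, rfl⟩)
  | 3 => exact Or.inl (Or.inr ⟨1, rfl⟩)
  | 4 => exact Or.inl (Or.inr ⟨2, rfl⟩)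
  | 5 => exact Or.inr ⟨0, rfl⟩
  | 6 => exact Or.inr ⟨1, rfl⟩
  | 7 => exact Or.inr ⟨2, rfl⟩

theorem f7 : ∀ g ∈ C.L, g * x C zr = x C zr * g → g ∈ Subgroup.closure
    ({x C zr, x C rr} ∪ Set.range (dd (x C)) ∪ Set.range (ta (x C))) := by
  intro g hg h
  rw [x_z] at h
  rw [x_z, x_r, x_d, x_τ]
  exact f7' C hg h

end Cfsg.Agent.StdO8.FactH
end

-- part: StdO8/Frat
section
/-!
# The Frattini fact (f2) for `DoubCore.Core` (S1734, `L = Ω₈⁺(2)`)

If `g` fixes `z` and interchanges `t` and `t z`, then some `c` in `C(t) ∩ C(z)` is such that `c g` normalises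
`D = ⟨d₀, d₁, d₂⟩`.
-/

set_option autoImplicit false
set_option linter.all false

namespace Cfsg.Agent.StdO8.Frat

open Subgroup Cfsg.Agent.StdO8.DoubCore

variable {G : Type*} [Group G]

structure Pre (t z r : G) (L Λ : Subgroup G) (d : Fin 3 → G) : Prop where
  tt : t * t = 1
  tL : ∀ g ∈ L, t * g = g * t
  t_notMem : t ∉ L
  zL : z ∈ L
  rL : r ∈ L
  dL : ∀ i, d i ∈ L
  z1 : z ≠ 1
  zz : z * z = 1
  rr : r * r = 1
  zr : z * r = r * z
  d3 : ∀ i, d i * d i * d i = 1
  zd : ∀ i, z * d i = d i * z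
  dd : ∀ i j, d i * d j = d j * d i
  rd : ∀ i, r * (d i * r * (d i)⁻¹) * ((d i)⁻¹ * r * d i) = 1
  LN : ∀ g, g * t = t * g → ∀ l ∈ L, g * l * g⁻¹ ∈ L
  sq : ∀ h ∈ L, h * z = z * h → ∃ q ∈ QQ z r d, ∃ c ∈ DD d, h * h = q * c
  Q4 : ∀ q ∈ QQ z r d, q * q * (q * q) = 1
  zQ : z ∈ _root_.Subgroup.closure {x | ∃ c ∈ DD d, x = c * r * c⁻¹}
  ind : ∀ a b c : ℤ, d 0 ^ a * d 1 ^ b * d 2 ^ c = 1 → (3 : ℤ) ∣ a ∧ (3 : ℤ) ∣ b ∧ (3 : ℤ) ∣ c
  cD : ∀ g : G, g * t = t * g → g * z = z * g → (∀ i, g * d i = d i * g) → ∃ s, TZ t z s ∧ ∃ c ∈ DD d, g = s * c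
  Qd : ∀ i, ∀ q ∈ QQ z r d, q * d i = d i * q → q = 1 ∨ q = z
  Qc : ∀ c ∈ DD d, c ≠ 1 → (∀ i, c ≠ d i ∧ c ≠ (d i)⁻¹) → ∃ q ∈ QQ z r d, q ≠ 1 ∧ q ≠ z ∧ q * c = c * q
  Λt : Λ ≤ centralizer {t}
  Λi : Λ.relIndex (centralizer {t}) ≤ 3
  Λ2 : ∀ g ∈ Λ, g * g ∈ L ∨ t * (g * g) ∈ L

namespace Pre

variable {t z r : G} {L Λ : Subgroup G} {d : Fin 3 → G}

section basic

variable (P : Pre t z r L Λ d)

include P

theorem DL {c : G} (hc : c ∈ DD d) : c ∈ L := by
  have : DD d ≤ L := by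
    rw [DD, closure_le]
    rintro _ ⟨i, rfl⟩
    exact P.dL i
  exact this hc

theorem D_z {c : G} (hc : c ∈ DD d) : z * c = c * z := by
  have : DD d ≤ centralizer {z} := by
    rw [DD, closure_le]
    rintro _ ⟨i, rfl⟩
    exact mem_centralizer_singleton_iff.2 (P.zd i).symm
  exact (mem_centralizer_singleton_iff.1 (this hc)).symm

theorem D_d {c : G} (hc : c ∈ DD d) (i : Fin 3) : d i * c = c * d i := by
  have : DD d ≤ centralizer {d i} := by
    rw [DD, closure_le]
    rintro _ ⟨j, rfl⟩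
    exact mem_centralizer_singleton_iff.2 (P.dd j i)
  exact (mem_centralizer_singleton_iff.1 (this hc)).symm

theorem D_comm {a b : G} (ha : a ∈ DD d) (hb : b ∈ DD d) : a * b = b * a := by
  have : DD d ≤ centralizer {b} := by
    rw [DD, closure_le]
    rintro _ ⟨i, rfl⟩
    exact mem_centralizer_singleton_iff.2 (P.D_d hb i)
  exact mem_centralizer_singleton_iff.1 (this ha)

theorem d_mem (i : Fin 3) : d i ∈ DD d := subset_closure ⟨i, rfl⟩

theorem D3 {c : G} (hc : c ∈ DD d) : c ^ 3 = 1 := by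
  induction hc using closure_induction with
  | mem x hx =>
    obtain ⟨i, rfl⟩ := hx
    rw [pow_succ, pow_two]
    exact P.d3 i
  | one => exact one_pow 3
  | mul a b ha hb h1 h2 =>
    have hab : Commute a b := P.D_comm ha hb
    rw [hab.mul_pow, h1, h2, one_mul]
  | inv a ha h1 => rw [inv_pow, h1, inv_one]

theorem nf {c : G} (hc : c ∈ DD d) : ∃ a b e : ℤ, c = d 0 ^ a * d 1 ^ b * d 2 ^ e := by
  have c01 : Commute (d 0) (d 1) := P.dd 0 1
  have c02 : Commute (d 0) (d 2) := P.dd 0 2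
  have c12 : Commute (d 1) (d 2) := P.dd 1 2
  induction hc using closure_induction with
  | mem x hx =>
    obtain ⟨i, rfl⟩ := hx
    fin_cases i
    · exact ⟨1, 0, 0, by simp⟩
    · exact ⟨0, 1, 0, by simp⟩
    · exact ⟨0, 0, 1, by simp⟩
  | one => exact ⟨0, 0, 0, by simp⟩
  | mul x y hx hy h1 h2 =>
    obtain ⟨a, b, e, rfl⟩ := h1
    obtain ⟨a', b', e', rfl⟩ := h2
    refine ⟨a + a', b + b', e + e', ?_⟩
    rw [zpow_add, zpow_add, zpow_add]
    have e1 : d 2 ^ e * d 0 ^ a' = d 0 ^ a' * d 2 ^ e := (c02.symm.zpow_zpow e a').eq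
    have e2 : d 2 ^ e * d 1 ^ b' = d 1 ^ b' * d 2 ^ e := (c12.symm.zpow_zpow e b').eq
    have e3 : d 1 ^ b * d 0 ^ a' = d 0 ^ a' * d 1 ^ b := (c01.symm.zpow_zpow b a').eq
    calc d 0 ^ a * d 1 ^ b * d 2 ^ e * (d 0 ^ a' * d 1 ^ b' * d 2 ^ e')
        = d 0 ^ a * d 1 ^ b * (d 2 ^ e * d 0 ^ a') * d 1 ^ b' * d 2 ^ e' := by group
      _ = d 0 ^ a * (d 1 ^ b * d 0 ^ a') * (d 2 ^ e * d 1 ^ b') * d 2 ^ e' := by rw [e1]; group
      _ = d 0 ^ a * d 0 ^ a' * (d 1 ^ b * d 1 ^ b') * (d 2 ^ e * d 2 ^ e') := by rw [e2, e3]; group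
  | inv x hx h1 =>
    obtain ⟨a, b, e, rfl⟩ := h1
    refine ⟨-a, -b, -e, ?_⟩
    rw [zpow_neg, zpow_neg, zpow_neg, mul_inv_rev, mul_inv_rev]
    have e1 : Commute (d 2 ^ e)⁻¹ (d 1 ^ b)⁻¹ := (c12.symm.zpow_zpow e b).inv_inv
    have e2 : Commute (d 2 ^ e)⁻¹ (d 0 ^ a)⁻¹ := (c02.symm.zpow_zpow e a).inv_inv
    have e3 : Commute (d 1 ^ b)⁻¹ (d 0 ^ a)⁻¹ := (c01.symm.zpow_zpow b a).inv_inv
    rw [e1.mul_right e2 |>.eq, e3.eq]

/-- equality of normal forms -/
theorem nf_inj {a b c a' b' c' : ℤ} (h : d 0 ^ a * d 1 ^ b * d 2 ^ c = d 0 ^ a' * d 1 ^ b' * d 2 ^ c') :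
    (3 : ℤ) ∣ a - a' ∧ (3 : ℤ) ∣ b - b' ∧ (3 : ℤ) ∣ c - c' := by
  have c01 : Commute (d 0) (d 1) := P.dd 0 1
  have c02 : Commute (d 0) (d 2) := P.dd 0 2
  have c12 : Commute (d 1) (d 2) := P.dd 1 2
  apply P.ind
  rw [zpow_sub, zpow_sub, zpow_sub]
  have e1 : (d 0 ^ a')⁻¹ * (d 1 ^ b * (d 1 ^ b')⁻¹) = (d 1 ^ b * (d 1 ^ b')⁻¹) * (d 0 ^ a')⁻¹ :=
    (((c01.zpow_zpow a' b).mul_right (c01.zpow_zpow a' b').inv_right).inv_left).eq
  have e2 : (d 0 ^ a')⁻¹ * (d 2 ^ c * (d 2 ^ c')⁻¹) = (d 2 ^ c * (d 2 ^ c')⁻¹) * (d 0 ^ a')⁻¹ :=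
    (((c02.zpow_zpow a' c).mul_right (c02.zpow_zpow a' c').inv_right).inv_left).eq
  have e3 : (d 1 ^ b')⁻¹ * (d 2 ^ c * (d 2 ^ c')⁻¹) = (d 2 ^ c * (d 2 ^ c')⁻¹) * (d 1 ^ b')⁻¹ :=
    (((c12.zpow_zpow b' c).mul_right (c12.zpow_zpow b' c').inv_right).inv_left).eq
  calc d 0 ^ a * (d 0 ^ a')⁻¹ * (d 1 ^ b * (d 1 ^ b')⁻¹) * (d 2 ^ c * (d 2 ^ c')⁻¹)
      = d 0 ^ a * ((d 0 ^ a')⁻¹ * (d 1 ^ b * (d 1 ^ b')⁻¹)) * (d 2 ^ c * (d 2 ^ c')⁻¹) := by group
    _ = d 0 ^ a * (d 1 ^ b * (d 1 ^ b')⁻¹) * ((d 0 ^ a')⁻¹ * (d 2 ^ c * (d 2 ^ c')⁻¹)) := by rw [e1]; group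
    _ = d 0 ^ a * d 1 ^ b * ((d 1 ^ b')⁻¹ * (d 2 ^ c * (d 2 ^ c')⁻¹)) * (d 0 ^ a')⁻¹ := by rw [e2]; group
    _ = d 0 ^ a * d 1 ^ b * d 2 ^ c * (d 0 ^ a' * d 1 ^ b' * d 2 ^ c')⁻¹ := by rw [e3]; group
    _ = 1 := by rw [h, mul_inv_cancel]

theorem d_ne (i : Fin 3) : d i ≠ 1 := by
  intro h
  fin_cases i
  · have := (P.ind 1 0 0 (by simpa using h)).1
    omega
  · have := (P.ind 0 1 0 (by simpa using h)).2.1
    omega
  · have := (P.ind 0 0 1 (by simpa using h)).2.2
    omega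

/-- powers of different generators -/
theorem pw_ne {i j : Fin 3} {m n : ℤ} (h : d i ^ m = d j ^ n) (hm : ¬ (3 : ℤ) ∣ m) : i = j := by
  by_contra hij
  have key : ∀ i j : Fin 3, i ≠ j → d i ^ m = d j ^ n → (3 : ℤ) ∣ m := by
    intro i j hij h
    fin_cases i <;> fin_cases j
    · exact absurd rfl hij
    · have := (P.nf_inj (a := m) (b := 0) (c := 0) (a' := 0) (b' := n) (c' := 0) (by simpa using h)).1
      omega
    · have := (P.nf_inj (a := m) (b := 0) (c := 0) (a' := 0) (b' := 0) (c' := n) (by simpa using h)).1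
      omega
    · have := (P.nf_inj (a := 0) (b := m) (c := 0) (a' := n) (b' := 0) (c' := 0) (by simpa using h)).2.1
      omega
    · exact absurd rfl hij
    · have := (P.nf_inj (a := 0) (b := m) (c := 0) (a' := 0) (b' := 0) (c' := n) (by simpa using h)).2.1
      omega
    · have := (P.nf_inj (a := 0) (b := 0) (c := m) (a' := n) (b' := 0) (c' := 0) (by simpa using h)).2.2
      omega
    · have := (P.nf_inj (a := 0) (b := 0) (c := m) (a' := 0) (b' := n) (c' := 0) (by simpa using h)).2.2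
      omega
    · exact absurd rfl hij
  exact hm (key i j hij h)

theorem QL {q : G} (hq : q ∈ QQ z r d) : q ∈ L := by
  have : QQ z r d ≤ L := by
    rw [QQ, closure_le]
    rintro x (hx | ⟨c, hc, rfl⟩)
    · rw [Set.mem_singleton_iff.1 hx]
      exact P.zL
    · exact mul_mem (mul_mem (P.DL hc) P.rL) (inv_mem (P.DL hc))
  exact this hq

theorem D_conj_Q {c q : G} (hc : c ∈ DD d) (hq : q ∈ QQ z r d) : c * q * c⁻¹ ∈ QQ z r d := by
  induction hq using closure_induction with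
  | mem x hx =>
    rcases hx with hx | ⟨c', hc', rfl⟩
    · rw [Set.mem_singleton_iff.1 hx, ← P.D_z hc, mul_inv_cancel_right]
      exact _root_.Subgroup.subset_closure (Or.inl rfl)
    · refine _root_.Subgroup.subset_closure (Or.inr ⟨c * c', mul_mem hc hc', ?_⟩)
      group
  | one => rw [mul_one, mul_inv_cancel]; exact one_mem _
  | mul x y _ _ h1 h2 =>
    have : c * (x * y) * c⁻¹ = (c * x * c⁻¹) * (c * y * c⁻¹) := by group
    rw [this]
    exact mul_mem h1 h2
  | inv x _ h1 =>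
    have : c * x⁻¹ * c⁻¹ = (c * x * c⁻¹)⁻¹ := by group
    rw [this]
    exact inv_mem h1

/-- `Q D` -/
def QDs : Subgroup G where
  carrier := {x | ∃ q ∈ QQ z r d, ∃ c ∈ DD d, x = q * c}
  one_mem' := ⟨1, one_mem _, 1, one_mem _, (one_mul 1).symm⟩
  mul_mem' := by
    rintro _ _ ⟨q, hq, c, hc, rfl⟩ ⟨q', hq', c', hc', rfl⟩
    refine ⟨q * (c * q' * c⁻¹), mul_mem hq (P.D_conj_Q hc hq'), c * c', mul_mem hc hc', ?_⟩
    group
  inv_mem' := by
    rintro _ ⟨q, hq, c, hc, rfl⟩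
    refine ⟨c⁻¹ * q⁻¹ * c⁻¹⁻¹, P.D_conj_Q (inv_mem hc) (inv_mem hq), c⁻¹, inv_mem hc, ?_⟩
    group

theorem mem_QDs {x : G} : x ∈ P.QDs ↔ ∃ q ∈ QQ z r d, ∃ c ∈ DD d, x = q * c := Iff.rfl

/-- an element of `QD` of exponent 4 lies in `Q` -/
theorem mem_Q_of_QDs {x : G} (hx : x ∈ P.QDs) (h4 : x ^ 4 = 1) : x ∈ QQ z r d := by
  obtain ⟨q, hq, c, hc, rfl⟩ := hx
  have h1 : ∀ n : ℕ, ∃ q' ∈ QQ z r d, (q * c) ^ n = q' * c ^ n := by
    intro n
    induction n with
    | zero => exact ⟨1, one_mem _, by simp⟩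
    | succ n ih =>
      obtain ⟨q', hq', h⟩ := ih
      refine ⟨q' * (c ^ n * q * (c ^ n)⁻¹), mul_mem hq' (P.D_conj_Q (pow_mem hc n) hq), ?_⟩
      rw [pow_succ, h, pow_succ]
      group
  obtain ⟨q', hq', h⟩ := h1 4
  have hc4 : c ^ 4 = c := by rw [pow_succ, P.D3 hc, one_mul]
  rw [h4, hc4] at h
  have hcQ : c ∈ QQ z r d := by
    have : c = q'⁻¹ := (inv_eq_of_mul_eq_one_right h.symm).symm
    rw [this]
    exact inv_mem hq'
  have hc1 : c = 1 := by
    have h2 := P.Q4 c hcQ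
    have h3 : c ^ 4 = 1 := by
      rw [← h2]
      simp only [pow_succ, pow_zero, one_mul]
      group
    rwa [hc4] at h3
  rw [hc1, mul_one]
  exact hq

/-- every element of `C(t) ∩ C(z)` normalises `Q` -/
theorem norm_Q {y : G} (hyt : y * t = t * y) (hyz : y * z = z * y) {q : G} (hq : q ∈ QQ z r d) :
    y * q * y⁻¹ ∈ QQ z r d := by
  set! N : Subgroup G := _root_.Subgroup.closure {h | h ∈ L ∧ h * z = z * h ∧ h ^ 3 = 1} with hN
  have hinv : ∀ y : G, y * t = t * y → y * z = z * y → ∀ x ∈ N, y * x * y⁻¹ ∈ N := by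
    intro y hyt hyz x hx
    rw [hN] at hx
    induction hx using closure_induction with
    | mem x hx =>
      obtain ⟨h1, h2, h3⟩ := hx
      refine subset_closure ⟨P.LN y hyt x h1, ?_, ?_⟩
      · have hc1 : Commute y z := hyz
        have hc2 : Commute x z := h2
        exact ((hc1.mul_left hc2).mul_left hc1.inv_left).eq
      · rw [conj_pow, h3, mul_one, mul_inv_cancel]
    | one => rw [mul_one, mul_inv_cancel]; exact one_mem _
    | mul a b _ _ h1 h2 =>
      have : y * (a * b) * y⁻¹ = (y * a * y⁻¹) * (y * b * y⁻¹) := by group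
      rw [this]
      exact mul_mem h1 h2
    | inv a _ h1 =>
      have : y * a⁻¹ * y⁻¹ = (y * a * y⁻¹)⁻¹ := by group
      rw [this]
      exact inv_mem h1
  have hNQD : N ≤ P.QDs := by
    rw [hN, closure_le]
    rintro h ⟨h1, h2, h3⟩
    obtain ⟨q, hq, c, hc, h4⟩ := P.sq h h1 h2
    have h5 : h = h * h * (h * h) := by
      calc h = h ^ 3 * h := by rw [h3, one_mul]
        _ = h * h * (h * h) := by
          simp only [pow_succ, pow_zero, one_mul]
          group
    rw [h5, h4]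
    exact mul_mem (P.mem_QDs.2 ⟨q, hq, c, hc, rfl⟩) (P.mem_QDs.2 ⟨q, hq, c, hc, rfl⟩)
  have hDN : ∀ c ∈ DD d, c ∈ N := fun c hc => subset_closure ⟨P.DL hc, (P.D_z hc).symm, P.D3 hc⟩
  have hrt : r * t = t * r := (P.tL r P.rL).symm
  have hcr : ∀ c ∈ DD d, c * r * c⁻¹ * r⁻¹ ∈ N := by
    intro c hc
    have h1 := hinv r hrt P.zr.symm c⁻¹ (hDN _ (inv_mem hc))
    have h2 : c * r * c⁻¹ * r⁻¹ = c * (r * c⁻¹ * r⁻¹) := by group
    rw [h2]
    exact mul_mem (hDN c hc) h1
  have hr : r ∈ N := by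
    have h1 := hcr _ (P.d_mem 0)
    have h2 := hcr _ (inv_mem (P.d_mem 0))
    rw [inv_inv] at h2
    have h3 := P.rd 0
    have h4 := hinv r hrt P.zr.symm _ h1
    have h5 : r = ((r * (d 0 * r * (d 0)⁻¹ * r⁻¹) * r⁻¹) * ((d 0)⁻¹ * r * d 0 * r⁻¹))⁻¹ := by
      have hri : r⁻¹ = r := inv_eq_of_mul_eq_one_right P.rr
      rw [hri]
      have h6 : r * (d 0 * r * (d 0)⁻¹ * r) * r * ((d 0)⁻¹ * r * d 0 * r) = r := by
        calc r * (d 0 * r * (d 0)⁻¹ * r) * r * ((d 0)⁻¹ * r * d 0 * r)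
            = r * (d 0 * r * (d 0)⁻¹) * (r * r) * ((d 0)⁻¹ * r * d 0) * r := by group
          _ = r * (d 0 * r * (d 0)⁻¹) * ((d 0)⁻¹ * r * d 0) * r := by rw [P.rr, mul_one]
          _ = r := by rw [h3, one_mul]
      rw [h6, hri]
    rw [h5]
    exact inv_mem (mul_mem h4 h2)
  have hcrc : ∀ c ∈ DD d, c * r * c⁻¹ ∈ N := by
    intro c hc
    have := mul_mem (hcr c hc) hr
    rwa [inv_mul_cancel_right] at this
  have hQN : QQ z r d ≤ N := by
    have h1 : _root_.Subgroup.closure {x | ∃ c ∈ DD d, x = c * r * c⁻¹} ≤ N := by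
      rw [closure_le]
      rintro _ ⟨c, hc, rfl⟩
      exact hcrc c hc
    rw [QQ, closure_le]
    rintro x (hx | ⟨c, hc, rfl⟩)
    · rw [Set.mem_singleton_iff.1 hx]
      exact h1 P.zQ
    · exact hcrc c hc
  refine P.mem_Q_of_QDs (hNQD (hinv y hyt hyz q (hQN hq))) ?_
  rw [conj_pow]
  have h1 := P.Q4 q hq
  have h2 : q ^ 4 = 1 := by
    rw [← h1]
    simp only [pow_succ, pow_zero, one_mul]
    group
  rw [h2, mul_one, mul_inv_cancel]

end basic

/-! ### a 3-subgroup containing `D` -/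

theorem eq_sq_pow {y : G} {k : ℕ} (h : y ^ 3 ^ k = 1) : ∃ m : ℕ, y = (y * y) ^ m := by
  have h1 : Odd (3 ^ k) := Odd.pow (by decide)
  obtain ⟨n, hn⟩ := h1
  refine ⟨n + 1, ?_⟩
  rw [← pow_two, ← pow_mul]
  have h2 : 2 * (n + 1) = 3 ^ k + 1 := by omega
  rw [h2, pow_succ, h, one_mul]

section three

variable (P : Pre t z r L Λ d) {P1 : Subgroup G} (h3 : ∀ x ∈ P1, ∃ k : ℕ, x ^ 3 ^ k = 1) (hD : DD d ≤ P1)
  (ht : ∀ x ∈ P1, x * t = t * x) (hz : ∀ x ∈ P1, x * z = z * x)

include P h3 hD ht hz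

theorem step1 {y : G} (hy : y ∈ P1) (hyL : y ∈ L) : y ∈ DD d := by
  obtain ⟨q, hq, c, hc, h1⟩ := P.sq y hyL (hz y hy)
  obtain ⟨k, hk⟩ := h3 y hy
  obtain ⟨m, hm⟩ := eq_sq_pow hk
  have h2 : y ∈ P.QDs := by
    rw [hm, h1]
    exact pow_mem (P.mem_QDs.2 ⟨q, hq, c, hc, rfl⟩) m
  obtain ⟨q', hq', c', hc', h4⟩ := P.mem_QDs.1 h2
  have h5 : q' ∈ P1 := by
    have : q' = y * c'⁻¹ := by rw [h4]; group
    rw [this]
    exact mul_mem hy (inv_mem (hD hc'))
  obtain ⟨j, hj⟩ := h3 q' h5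
  have h6 : q' ^ 4 = 1 := by
    rw [← P.Q4 q' hq']
    simp only [pow_succ, pow_zero, one_mul]
    group
  have h7 : orderOf q' ∣ 1 := by
    have h8 := orderOf_dvd_of_pow_eq_one hj
    have h9 := orderOf_dvd_of_pow_eq_one h6
    have h10 : Nat.Coprime (3 ^ j) 4 := Nat.Coprime.pow_left j (by decide)
    have := Nat.dvd_gcd h8 h9
    rwa [h10.gcd_eq_one] at this
  have h8 : q' = 1 := orderOf_eq_one_iff.1 (Nat.dvd_one.1 h7)
  rw [h4, h8, one_mul]
  exact hc'

theorem step2 {y : G} (hy : y ∈ P1) (hyΛ : y ∈ Λ) : y ∈ DD d := by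
  obtain ⟨k, hk⟩ := h3 y hy
  rcases P.Λ2 y hyΛ with h1 | h1
  · obtain ⟨m, hm⟩ := eq_sq_pow hk
    have h2 := step1 P h3 hD ht hz (mul_mem hy hy) h1
    rw [hm]
    exact pow_mem h2 m
  · exfalso
    apply P.t_notMem
    have hc : Commute t (y * y) := by
      have : Commute t y := (ht y hy).symm
      exact this.mul_right this
    have h2 : (t * (y * y)) ^ 3 ^ k = t := by
      rw [hc.mul_pow, ← pow_two y, ← pow_mul, mul_comm 2, pow_mul, hk, one_pow, mul_one]
      have h4 : Odd (3 ^ k) := Odd.pow (by decide)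
      obtain ⟨n, hn⟩ := h4
      rw [hn, pow_succ, pow_mul, pow_two, P.tt, one_pow, one_mul]
    rw [← h2]
    exact pow_mem h1 _

theorem step3 {y e : G} (hy : y ∈ P1) (he : e ∈ DD d) : y * e * y⁻¹ ∈ DD d :=
  step1 P h3 hD ht hz (mul_mem (mul_mem hy (hD he)) (inv_mem hy)) (P.LN y (ht y hy) e (P.DL he))

theorem step5 {y : G} (hy : y ∈ P1) (i : Fin 3) :
    ∃ j : Fin 3, ∃ s : ℤ, (s = 1 ∨ s = -1) ∧ y * d i * y⁻¹ = d j ^ s := by
  by_contra hcon'
  have hcon : ∀ (j : Fin 3) (s : ℤ), (s = 1 ∨ s = -1) → y * d i * y⁻¹ ≠ d j ^ s :=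
    fun j s hs h => hcon' ⟨j, s, hs, h⟩
  have h1 := step3 P h3 hD ht hz hy (P.d_mem i)
  have h2 : y * d i * y⁻¹ ≠ 1 := by
    intro h
    apply P.d_ne i
    have : d i = y⁻¹ * (y * d i * y⁻¹) * y := by group
    rw [this, h]
    group
  obtain ⟨q, hq, hq1, hqz, hqc⟩ := P.Qc _ h1 h2 (fun j => by
    refine ⟨fun h => hcon j 1 (Or.inl rfl) ?_, fun h => hcon j (-1) (Or.inr rfl) ?_⟩
    · rw [zpow_one]; exact h
    · rw [zpow_neg_one]; exact h)
  have hyi := inv_mem hy
  have h4 := P.norm_Q (ht _ hyi) (hz _ hyi) hq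
  rw [inv_inv] at h4
  have h5 : y⁻¹ * q * y * d i = d i * (y⁻¹ * q * y) := by
    calc y⁻¹ * q * y * d i = y⁻¹ * (q * (y * d i * y⁻¹)) * y := by group
      _ = y⁻¹ * (y * d i * y⁻¹ * q) * y := by rw [hqc]
      _ = d i * (y⁻¹ * q * y) := by group
  have h6 : q = y * (y⁻¹ * q * y) * y⁻¹ := by group
  rcases P.Qd i _ h4 h5 with h | h
  · apply hq1
    rw [h6, h]
    group
  · apply hqz
    rw [h6, h, hz y hy, mul_inv_cancel_right]

end three

section count

variable (P : Pre t z r L Λ d)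

include P

theorem zpow_eq {a b : ℤ} (i : Fin 3) (h : (3 : ℤ) ∣ a - b) : d i ^ a = d i ^ b := by
  obtain ⟨k, hk⟩ := h
  have h1 : a = b + 3 * k := by omega
  have h2 : d i ^ (3 : ℤ) = 1 := by
    have := P.D3 (P.d_mem i)
    exact_mod_cast this
  rw [h1, zpow_add, zpow_mul, h2, one_zpow, mul_one]

theorem card_D [Finite G] : 27 ≤ Nat.card (DD d) := by
  have h : Nat.card (Fin 3 × Fin 3 × Fin 3) ≤ Nat.card (DD d) := by
    refine Nat.card_le_card_of_injective (fun p : Fin 3 × Fin 3 × Fin 3 =>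
      (⟨d 0 ^ (p.1.val : ℤ) * d 1 ^ (p.2.1.val : ℤ) * d 2 ^ (p.2.2.val : ℤ),
        mul_mem (mul_mem (zpow_mem (P.d_mem 0) _) (zpow_mem (P.d_mem 1) _)) (zpow_mem (P.d_mem 2) _)⟩ : DD d)) ?_
    rintro ⟨a, b, c⟩ ⟨a', b', c'⟩ hab
    have h1 := P.nf_inj (congrArg Subtype.val hab)
    dsimp only at h1
    obtain ⟨h2, h3, h4⟩ := h1
    have ha := a.2
    have ha' := a'.2
    have hb := b.2
    have hb' := b'.2
    have hc := c.2
    have hc' := c'.2
    have e1 : a = a' := Fin.ext (by omega)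
    have e2 : b = b' := Fin.ext (by omega)
    have e3 : c = c' := Fin.ext (by omega)
    rw [e1, e2, e3]
  rw [Nat.card_eq_fintype_card, Fintype.card_prod, Fintype.card_prod, Fintype.card_fin] at h
  omega

theorem TZ_sq {s : G} (hs : TZ t z s) : s * s = 1 := by
  have htz : t * z = z * t := P.tL z P.zL
  rcases hs with rfl | rfl | rfl | rfl
  · exact mul_one _
  · exact P.tt
  · exact P.zz
  · calc t * z * (t * z) = t * (z * t) * z := by group
      _ = (t * t) * (z * z) := by rw [← htz]; group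
      _ = 1 := by rw [P.tt, P.zz, one_mul]

theorem TZ_comm {s c : G} (hs : TZ t z s) (hc : c ∈ DD d) : Commute s c := by
  have h1 : Commute t c := P.tL c (P.DL hc)
  have h2 : Commute z c := P.D_z hc
  rcases hs with rfl | rfl | rfl | rfl
  · exact Commute.one_left c
  · exact h1
  · exact h2
  · exact h1.mul_left h2

/-- an element of order 3 centralising `D` lies in `D` -/
theorem mem_of_comm {b : G} (ht : b * t = t * b) (hz : b * z = z * b) (h3 : b ^ 3 = 1)
    (hb : ∀ i, b * d i = d i * b) : b ∈ DD d := by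
  obtain ⟨s, hs, c, hc, h1⟩ := P.cD b ht hz hb
  have h2 : b ^ 3 = s := by
    rw [h1, (P.TZ_comm hs hc).mul_pow, P.D3 hc, mul_one, pow_succ, pow_two, P.TZ_sq hs, one_mul]
  rw [h3] at h2
  rw [h1, ← h2, one_mul]
  exact hc

/-- the centraliser in `D` of an element permuting the `⟨d i⟩` as a 3-cycle -/
theorem card_cent [Finite G] {b : G} {π : Fin 3 → Fin 3} {s : Fin 3 → ℤ}
    (h : ∀ i, b * d i * b⁻¹ = d (π i) ^ s i)
    (hπ : (π 0 = 1 ∧ π 1 = 2 ∧ π 2 = 0) ∨ (π 0 = 2 ∧ π 2 = 1 ∧ π 1 = 0)) :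
    Nat.card (DD d ⊓ centralizer {b} : Subgroup G) ≤ 3 := by
  have c01 : Commute (d 0) (d 1) := P.dd 0 1
  have c02 : Commute (d 0) (d 2) := P.dd 0 2
  have c12 : Commute (d 1) (d 2) := P.dd 1 2
  have hconj : ∀ (i : Fin 3) (a : ℤ), b * d i ^ a * b⁻¹ = d (π i) ^ (s i * a) := by
    intro i a
    rw [← conj_zpow, h, ← zpow_mul]
  have hconj3 : ∀ a0 a1 a2 : ℤ, b * (d 0 ^ a0 * d 1 ^ a1 * d 2 ^ a2) * b⁻¹ =
      d (π 0) ^ (s 0 * a0) * d (π 1) ^ (s 1 * a1) * d (π 2) ^ (s 2 * a2) := by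
    intro a0 a1 a2
    rw [← hconj, ← hconj, ← hconj]
    group
  -- relations between the exponents of an element centralised by `b`
  have hrel1 : (π 0 = 1 ∧ π 1 = 2 ∧ π 2 = 0) → ∀ a0 a1 a2 : ℤ,
      b * (d 0 ^ a0 * d 1 ^ a1 * d 2 ^ a2) * b⁻¹ = d 0 ^ a0 * d 1 ^ a1 * d 2 ^ a2 →
      (3 : ℤ) ∣ s 0 * a0 - a1 ∧ (3 : ℤ) ∣ s 1 * a1 - a2 := by
    rintro ⟨p0, p1, p2⟩ a0 a1 a2 h1
    rw [hconj3, p0, p1, p2] at h1
    have e : d 1 ^ (s 0 * a0) * d 2 ^ (s 1 * a1) * d 0 ^ (s 2 * a2) =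
        d 0 ^ (s 2 * a2) * d 1 ^ (s 0 * a0) * d 2 ^ (s 1 * a1) := by
      have e1 : Commute (d 1 ^ (s 0 * a0) * d 2 ^ (s 1 * a1)) (d 0 ^ (s 2 * a2)) :=
        (c01.symm.zpow_zpow _ _).mul_left (c02.symm.zpow_zpow _ _)
      rw [e1.eq, mul_assoc]
    rw [e] at h1
    have h2 := P.nf_inj h1
    exact ⟨h2.2.1, h2.2.2⟩
  have hrel2 : (π 0 = 2 ∧ π 2 = 1 ∧ π 1 = 0) → ∀ a0 a1 a2 : ℤ,
      b * (d 0 ^ a0 * d 1 ^ a1 * d 2 ^ a2) * b⁻¹ = d 0 ^ a0 * d 1 ^ a1 * d 2 ^ a2 →
      (3 : ℤ) ∣ s 0 * a0 - a2 ∧ (3 : ℤ) ∣ s 2 * a2 - a1 := by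
    rintro ⟨p0, p2, p1⟩ a0 a1 a2 h1
    rw [hconj3, p0, p1, p2] at h1
    have e : d 2 ^ (s 0 * a0) * d 0 ^ (s 1 * a1) * d 1 ^ (s 2 * a2) =
        d 0 ^ (s 1 * a1) * d 1 ^ (s 2 * a2) * d 2 ^ (s 0 * a0) := by
      have e1 : Commute (d 2 ^ (s 0 * a0)) (d 0 ^ (s 1 * a1) * d 1 ^ (s 2 * a2)) :=
        (c02.symm.zpow_zpow _ _).mul_right (c12.symm.zpow_zpow _ _)
      rw [mul_assoc, e1.eq]
    rw [e] at h1
    have h2 := P.nf_inj h1
    exact ⟨h2.2.2, h2.2.1⟩
  have hms : ∀ u a c : ℤ, (3 : ℤ) ∣ a - c → (3 : ℤ) ∣ u * a - u * c := by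
    intro u a c h1
    rw [← mul_sub]
    exact Dvd.dvd.mul_left h1 _
  have hex : ∀ x : (DD d ⊓ centralizer {b} : Subgroup G), ∃ a : ℤ × ℤ × ℤ,
      (x : G) = d 0 ^ a.1 * d 1 ^ a.2.1 * d 2 ^ a.2.2 := by
    intro x
    obtain ⟨a, b, c, h1⟩ := P.nf (mem_inf.1 x.2).1
    exact ⟨(a, b, c), h1⟩
  choose f hf using hex
  have hfb : ∀ x : (DD d ⊓ centralizer {b} : Subgroup G), b * (x : G) * b⁻¹ = x := by
    intro x
    have h1 := mem_centralizer_singleton_iff.1 (mem_inf.1 x.2).2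
    rw [← h1, mul_inv_cancel_right]
  have hle : Nat.card (DD d ⊓ centralizer {b} : Subgroup G) ≤ Nat.card (ZMod 3) := by
    refine Nat.card_le_card_of_injective (fun x => (((f x).1 : ℤ) : ZMod 3)) ?_
    intro x y hxy
    have h0 : (3 : ℤ) ∣ (f y).1 - (f x).1 := (ZMod.intCast_eq_intCast_iff_dvd_sub _ _ 3).1 hxy
    have hx := hfb x
    have hy := hfb y
    rw [hf x] at hx
    rw [hf y] at hy
    apply Subtype.ext
    rw [hf x, hf y]
    have h0' : (3 : ℤ) ∣ (f x).1 - (f y).1 := by omega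
    have e0 := hms (s 0) _ _ h0'
    have hfin : (3 : ℤ) ∣ (f x).2.1 - (f y).2.1 → (3 : ℤ) ∣ (f x).2.2 - (f y).2.2 →
        d 0 ^ (f x).1 * d 1 ^ (f x).2.1 * d 2 ^ (f x).2.2 = d 0 ^ (f y).1 * d 1 ^ (f y).2.1 * d 2 ^ (f y).2.2 := by
      intro h1 h2
      rw [P.zpow_eq 0 h0', P.zpow_eq 1 h1, P.zpow_eq 2 h2]
    rcases hπ with hp | hp
    · obtain ⟨x1, x2⟩ := hrel1 hp _ _ _ hx
      obtain ⟨y1, y2⟩ := hrel1 hp _ _ _ hy
      have e1 : (3 : ℤ) ∣ (f x).2.1 - (f y).2.1 := by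
        have e2 := dvd_sub (dvd_add e0 y1) x1
        have e3 : s 0 * (f x).1 - s 0 * (f y).1 + (s 0 * (f y).1 - (f y).2.1) - (s 0 * (f x).1 - (f x).2.1) =
            (f x).2.1 - (f y).2.1 := by ring
        rwa [e3] at e2
      have e4 := hms (s 1) _ _ e1
      refine hfin e1 ?_
      have e2 := dvd_sub (dvd_add e4 y2) x2
      have e3 : s 1 * (f x).2.1 - s 1 * (f y).2.1 + (s 1 * (f y).2.1 - (f y).2.2) - (s 1 * (f x).2.1 - (f x).2.2) =
          (f x).2.2 - (f y).2.2 := by ring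
      rwa [e3] at e2
    · obtain ⟨x1, x2⟩ := hrel2 hp _ _ _ hx
      obtain ⟨y1, y2⟩ := hrel2 hp _ _ _ hy
      have e1 : (3 : ℤ) ∣ (f x).2.2 - (f y).2.2 := by
        have e2 := dvd_sub (dvd_add e0 y1) x1
        have e3 : s 0 * (f x).1 - s 0 * (f y).1 + (s 0 * (f y).1 - (f y).2.2) - (s 0 * (f x).1 - (f x).2.2) =
            (f x).2.2 - (f y).2.2 := by ring
        rwa [e3] at e2
      have e4 := hms (s 2) _ _ e1
      refine hfin ?_ e1
      have e2 := dvd_sub (dvd_add e4 y2) x2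
      have e3 : s 2 * (f x).2.2 - s 2 * (f y).2.2 + (s 2 * (f y).2.2 - (f y).2.1) - (s 2 * (f x).2.2 - (f x).2.1) =
          (f x).2.1 - (f y).2.1 := by ring
      rwa [e3] at e2
  rw [Nat.card_eq_fintype_card (α := ZMod 3), ZMod.card] at hle
  exact hle

end count

/-! ### the end -/

theorem perm_three : ∀ π : Fin 3 → Fin 3, (∀ i, π (π (π i)) = i) →
    (∀ i, π i = i) ∨ (π 0 = 1 ∧ π 1 = 2 ∧ π 2 = 0) ∨ (π 0 = 2 ∧ π 2 = 1 ∧ π 1 = 0) := by
  decide +kernel

/-- an abelian subgroup of exponent 3 and order `|D|` of the Sylow 3-subgroup lies in `D` -/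
theorem le_D [Finite G] (P : Pre t z r L Λ d) {P1 : Subgroup G} (h3 : ∀ x ∈ P1, ∃ k : ℕ, x ^ 3 ^ k = 1)
    (hD : DD d ≤ P1) (ht : ∀ x ∈ P1, x * t = t * x) (hz : ∀ x ∈ P1, x * z = z * x) {E : Subgroup G} (hE : E ≤ P1)
    (hEc : ∀ x ∈ E, ∀ y ∈ E, x * y = y * x) (hE3 : ∀ x ∈ E, x ^ 3 = 1) (hEcard : Nat.card E = Nat.card (DD d)) :
    E ≤ DD d := by
  intro b hb
  by_contra hbD
  have hbP := hE hb
  -- the action on the `d i`
  have h5 := fun i => step5 P h3 hD ht hz hbP i
  choose π s hs hπ using h5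
  have hconj : ∀ (i : Fin 3) (a : ℤ), b * d i ^ a * b⁻¹ = d (π i) ^ (s i * a) := by
    intro i a
    rw [← conj_zpow, hπ, ← zpow_mul]
  have hb3 := hE3 b hb
  have hccc : ∀ i, d i = d (π (π (π i))) ^ (s (π (π i)) * (s (π i) * s i)) := by
    intro i
    have h1 : b * (b * (b * d i * b⁻¹) * b⁻¹) * b⁻¹ = d i := by
      have h2 : b * (b * (b * d i * b⁻¹) * b⁻¹) * b⁻¹ = b ^ 3 * d i * (b ^ 3)⁻¹ := by
        simp only [pow_succ, pow_zero, one_mul]
        group
      rw [h2, hb3, one_mul, inv_one, mul_one]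
    rw [hπ, hconj, hconj] at h1
    exact h1.symm
  have hsi : ∀ i, s i * s i = 1 := by
    intro i
    rcases hs i with h | h <;> rw [h] <;> norm_num
  have hπ3 : ∀ i, π (π (π i)) = i := by
    intro i
    have h1 : d i ^ (1 : ℤ) = d (π (π (π i))) ^ (s (π (π i)) * (s (π i) * s i)) := by
      rw [zpow_one]
      exact hccc i
    exact (P.pw_ne h1 (by norm_num)).symm
  have hcyc := (perm_three π hπ3).resolve_left (by
    intro hid
    apply hbD
    refine P.mem_of_comm (ht b hbP) (hz b hbP) hb3 fun i => ?_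
    have h1 := hccc i
    rw [hid i, hid i, hid i, hsi i, mul_one] at h1
    have h2 : s i = 1 := by
      rcases hs i with h | h
      · exact h
      · exfalso
        rw [h, zpow_neg_one] at h1
        have h4 : d i * d i = 1 := by
          calc d i * d i = (d i)⁻¹ * d i := by rw [← h1]
            _ = 1 := inv_mul_cancel _
        have h6 := P.d3 i
        rw [h4, one_mul] at h6
        exact P.d_ne i h6
    have h4 := hπ i
    rw [hid i, h2, zpow_one] at h4
    exact mul_inv_eq_iff_eq_mul.1 h4)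
  have hC := P.card_cent hπ hcyc
  -- `E ⊓ Λ ≤ C_D(b)`
  have hle : E ⊓ Λ ≤ DD d ⊓ centralizer {b} := by
    intro x hx
    refine mem_inf.2 ⟨step2 P h3 hD ht hz (hE (mem_inf.1 hx).1) (mem_inf.1 hx).2, ?_⟩
    exact mem_centralizer_singleton_iff.2 (hEc x (mem_inf.1 hx).1 b hb)
  have hc1 : Nat.card (E ⊓ Λ : Subgroup G) ≤ 3 := (Subgroup.card_le_of_le hle).trans hC
  have hEt : E ≤ centralizer {t} := fun x hx => mem_centralizer_singleton_iff.2 (ht x (hE hx))
  have hidx : Λ.relIndex E ≤ 3 := by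
    refine le_trans (relIndex_le_of_le_right hEt ?_) P.Λi
    exact index_ne_zero_of_finite
  have hcard : Nat.card E = Nat.card (E ⊓ Λ : Subgroup G) * Λ.relIndex E := by
    rw [relIndex, ← card_mul_index (Λ.subgroupOf E)]
    congr 1
    rw [← inf_subgroupOf_left]
    exact Nat.card_congr (subgroupOfEquivOfLe inf_le_left).toEquiv
  have h27 := P.card_D
  rw [← hEcard, hcard] at h27
  have := Nat.mul_le_mul hc1 hidx
  omega

theorem frat [Finite G] (P : Pre t z r L Λ d) : ∀ g : G, g * z * g⁻¹ = z → g * t * g⁻¹ = t * z →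
    ∃ c : G, c * t = t * c ∧ c * z = z * c ∧ ∀ e ∈ DD d, (c * g) * e * (c * g)⁻¹ ∈ DD d := by
  intro g hgz hgt
  haveI : Fact (Nat.Prime 3) := ⟨by norm_num⟩
  set! Γ : Subgroup G := centralizer {t} ⊓ centralizer {z} with hΓ
  have hmΓ : ∀ x, x ∈ Γ ↔ x * t = t * x ∧ x * z = z * x := by
    intro x
    rw [hΓ, mem_inf, mem_centralizer_singleton_iff, mem_centralizer_singleton_iff]
  have hDΓ : DD d ≤ Γ := fun x hx => (hmΓ x).2 ⟨(P.tL x (P.DL hx)).symm, (P.D_z hx).symm⟩
  set! E : Subgroup G := (DD d).map (MulAut.conj g).toMonoidHom with hEdef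
  have hmE : ∀ x ∈ DD d, g * x * g⁻¹ ∈ E := fun x hx => ⟨x, hx, rfl⟩
  have hEΓ : E ≤ Γ := by
    rintro _ ⟨x, hx, rfl⟩
    change g * x * g⁻¹ ∈ Γ
    obtain ⟨h1, h2⟩ := (hmΓ x).1 (hDΓ hx)
    have hz' : g * x * g⁻¹ * z = z * (g * x * g⁻¹) := by
      calc g * x * g⁻¹ * z = g * x * g⁻¹ * (g * z * g⁻¹) := by rw [hgz]
        _ = g * (x * z) * g⁻¹ := by group
        _ = g * (z * x) * g⁻¹ := by rw [h2]
        _ = g * z * g⁻¹ * (g * x * g⁻¹) := by group
        _ = z * (g * x * g⁻¹) := by rw [hgz]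
    have htz' : g * x * g⁻¹ * (t * z) = t * z * (g * x * g⁻¹) := by
      calc g * x * g⁻¹ * (t * z) = g * x * g⁻¹ * (g * t * g⁻¹) := by rw [hgt]
        _ = g * (x * t) * g⁻¹ := by group
        _ = g * (t * x) * g⁻¹ := by rw [h1]
        _ = g * t * g⁻¹ * (g * x * g⁻¹) := by group
        _ = t * z * (g * x * g⁻¹) := by rw [hgt]
    refine (hmΓ _).2 ⟨?_, hz'⟩
    have ht0 : t = t * z * z := by rw [mul_assoc, P.zz, mul_one]
    have hA : Commute (g * x * g⁻¹) (t * z) := htz'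
    have hB : Commute (g * x * g⁻¹) z := hz'
    have hC := hA.mul_right hB
    rw [← ht0] at hC
    exact hC.eq
  have hE3 : ∀ x ∈ E, x ^ 3 = 1 := by
    rintro _ ⟨x, hx, rfl⟩
    rw [← map_pow, P.D3 hx, map_one]
  have hpD : IsPGroup 3 ((DD d).subgroupOf Γ) := by
    intro x
    refine ⟨1, ?_⟩
    rw [pow_one]
    apply Subtype.ext
    apply Subtype.ext
    have := P.D3 x.2
    exact this
  have hpE : IsPGroup 3 (E.subgroupOf Γ) := by
    intro x
    refine ⟨1, ?_⟩
    rw [pow_one]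
    apply Subtype.ext
    apply Subtype.ext
    have := hE3 _ x.2
    exact this
  obtain ⟨Q1, hQ1⟩ := hpD.exists_le_sylow
  obtain ⟨Q2, hQ2⟩ := hpE.exists_le_sylow
  obtain ⟨c, hc⟩ := MulAction.exists_smul_eq Γ Q2 Q1
  set! P1 : Subgroup G := (Q1 : Subgroup Γ).map Γ.subtype with hP1
  have hP1Γ : P1 ≤ Γ := by
    rintro _ ⟨x, -, rfl⟩
    exact x.2
  have h3 : ∀ x ∈ P1, ∃ k : ℕ, x ^ 3 ^ k = 1 := by
    rintro _ ⟨x, hx, rfl⟩
    obtain ⟨k, hk⟩ := Q1.isPGroup' ⟨x, hx⟩
    refine ⟨k, ?_⟩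
    have h1 : x ^ 3 ^ k = 1 := congrArg Subtype.val hk
    have h2 := congrArg (Subtype.val : Γ → G) h1
    exact h2
  have hDP : DD d ≤ P1 := fun x hx => ⟨⟨x, hDΓ hx⟩, hQ1 hx, rfl⟩
  have ht : ∀ x ∈ P1, x * t = t * x := fun x hx => ((hmΓ x).1 (hP1Γ hx)).1
  have hz : ∀ x ∈ P1, x * z = z * x := fun x hx => ((hmΓ x).1 (hP1Γ hx)).2
  have hcE : ∀ x ∈ E, (c : G) * x * (c : G)⁻¹ ∈ P1 := by
    intro x hx
    have h1 : (⟨x, hEΓ hx⟩ : Γ) ∈ (Q2 : Subgroup Γ) := hQ2 hx
    have h2 : c * ⟨x, hEΓ hx⟩ * c⁻¹ ∈ (Q1 : Subgroup Γ) := by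
      rw [← hc, Sylow.coe_subgroup_smul]
      exact ⟨_, h1, rfl⟩
    exact ⟨_, h2, rfl⟩
  set! E1 : Subgroup G := (DD d).map (MulAut.conj ((c : G) * g)).toMonoidHom with hE1
  have hmE1 : ∀ x ∈ DD d, (c : G) * g * x * ((c : G) * g)⁻¹ ∈ E1 := fun x hx => ⟨x, hx, rfl⟩
  have hE1P : E1 ≤ P1 := by
    rintro _ ⟨x, hx, rfl⟩
    have h1 := hcE _ (hmE x hx)
    have h2 : (c : G) * (g * x * g⁻¹) * (c : G)⁻¹ = (MulAut.conj ((c : G) * g)).toMonoidHom x := by
      change _ = (c : G) * g * x * ((c : G) * g)⁻¹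
      group
    rw [← h2]
    exact h1
  have hle := le_D P h3 hDP ht hz (E := E1) hE1P (by
      rintro _ ⟨x, hx, rfl⟩ _ ⟨y, hy, rfl⟩
      rw [← map_mul, ← map_mul, P.D_comm hx hy]) (by
      rintro _ ⟨x, hx, rfl⟩
      rw [← map_pow, P.D3 hx, map_one])
    (card_map_of_injective (MulAut.conj ((c : G) * g)).injective)
  obtain ⟨h1, h2⟩ := (hmΓ c).1 c.2
  exact ⟨c, h1, h2, fun e he => hle (hmE1 e he)⟩

end Pre

end Cfsg.Agent.StdO8.Frat
end

-- part: StdO8/FactI
section
/-!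
# `DoubCore.Core` for the context of `Ω₈⁺(2)`
-/

set_option autoImplicit false

namespace Cfsg.Agent.StdO8.FactI

open Cfsg.Agent.StdO8.Model Cfsg.Agent.StdO8.Code Cfsg.Agent.StdO8.Gen Cfsg.Agent.StdO8.FactD
open Cfsg.Agent.StdO8.Aut Cfsg.Agent.StdO8.Frame Cfsg.Agent.StdO8.FactH
open Cfsg.Agent.StdO8.DoubCore (DD QQ TZ)
open Cfsg.Agent.StdO8.DoubRoot (zr rr al dd ta)
open Cfsg.Agent.StdO8.DataOf (x xm)

variable {G : Type*} [Group G] (C : Ctx G)

/-- The action of `C(t)` on `Om`. -/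
noncomputable def act : Subgroup.centralizer {C.t} →* MulAut Om :=
  MonoidHom.mk' (fun g => (C.norm g.1 (Subgroup.mem_centralizer_singleton_iff.1 g.2)).choose) (by
    intro g h
    ext m : 1
    apply C.inj
    have e1 := (C.norm g.1 (Subgroup.mem_centralizer_singleton_iff.1 g.2)).choose_spec
    have e2 := (C.norm h.1 (Subgroup.mem_centralizer_singleton_iff.1 h.2)).choose_spec
    have e3 := (C.norm (g * h).1 (Subgroup.mem_centralizer_singleton_iff.1 (g * h).2)).choose_spec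
    rw [← e3, MulAut.mul_apply, ← e1, ← e2]
    show (g : G) * h * C.r m * ((g : G) * h)⁻¹ = _
    group)

theorem act_spec (g : Subgroup.centralizer {C.t}) (m : Om) : (g : G) * C.r m * (g : G)⁻¹ = C.r (act C g m) :=
  (C.norm g.1 (Subgroup.mem_centralizer_singleton_iff.1 g.2)).choose_spec m

theorem lin_relIndex : (Lin C.t C.r).relIndex (Subgroup.centralizer {C.t}) ≤ 3 := by
  have e : (Lin C.t C.r).subgroupOf (Subgroup.centralizer {C.t}) = (cj.range).comap (act C) := by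
    ext g
    constructor
    · rintro ⟨-, M, hM⟩
      refine ⟨M, ?_⟩
      ext m : 1
      apply C.inj
      rw [← act_spec]
      exact (hM m).symm
    · rintro ⟨M, hM⟩
      refine ⟨Subgroup.mem_centralizer_singleton_iff.1 g.2, M, fun m => ?_⟩
      rw [hM]
      exact act_spec C g m
  rw [Subgroup.relIndex, e, Subgroup.index_comap]
  have h1 : cj.range.relIndex ⊤ = 3 := by rw [Subgroup.relIndex_top_right, index_range]
  have h2 := Subgroup.relIndex_le_of_le_right (H := cj.range) (le_top : (act C).range ≤ ⊤)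
    (by rw [h1]; norm_num)
  rw [h1] at h2
  exact h2

theorem lin_sq {g : G} (hg : g ∈ Lin C.t C.r) : g * g ∈ C.L ∨ C.t * (g * g) ∈ C.L := by
  obtain ⟨M, hM⟩ := C.mem_Lin.1 hg
  have h1 := hM.mul hM
  have h2 : ((M * M : O8) : V ≃ₗ[ZMod 2] V) = ((⟨(M : V ≃ₗ[ZMod 2] V) * M, FactG.sq_mem_Om M.2⟩ : Om) :
      V ≃ₗ[ZMod 2] V) := rfl
  rcases DataOf.eq_of_isLin C h1 h2 with h | h
  · left; rw [h]; exact C.r_mem _
  · right; rw [h, ← mul_assoc, C.tt, one_mul]; exact C.r_mem _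

theorem pre : Frat.Pre C.t (C.r zO) (C.r rO) C.L (Lin C.t C.r) (fun i => C.r (dO i)) where
  tt := C.tt
  tL := by
    rintro _ ⟨m, rfl⟩
    exact (C.comm m).eq.symm
  t_notMem := C.t_notMem
  zL := C.r_mem _
  rL := C.r_mem _
  dL := fun i => C.r_mem _
  z1 := by rw [← map_one C.r]; exact rne C FactG.z1
  zz := by rw [← map_mul, FactG.zz, map_one]
  rr := by rw [← map_mul, FactG.rr, map_one]
  zr := by rw [← map_mul, FactG.zr, map_mul]
  d3 := fun i => by rw [← map_mul, ← map_mul, FactG.d3, map_one]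
  zd := fun i => by rw [← map_mul, FactG.zd, map_mul]
  dd := fun i j => by rw [← map_mul, FactG.dd, map_mul]
  rd := fun i => by
    have := congrArg C.r (FactG.rd i)
    rw [map_mul, map_mul, map_mul, map_mul, map_mul, map_mul, map_inv, map_one] at this
    exact this
  LN := by
    rintro g hg _ ⟨m, rfl⟩
    obtain ⟨α, hα⟩ := C.norm g hg
    rw [hα]
    exact C.r_mem _
  sq := by
    rintro _ ⟨m, rfl⟩ h
    rw [← map_mul, ← map_mul] at h
    obtain ⟨a, ha, c, hc, e⟩ := FactG.sq (C.inj h)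
    exact ⟨C.r a, (mem_QQ C).2 ⟨a, ha, rfl⟩, C.r c, (mem_DD C).2 ⟨c, hc, rfl⟩, by rw [← map_mul, e, map_mul]⟩
  Q4 := by
    intro q hq
    obtain ⟨a, ha, rfl⟩ := (mem_QQ C).1 hq
    rw [← map_mul, ← map_mul, FactF.Q4 ha, map_one]
  zQ := by
    have h : C.r zO ∈ (Subgroup.closure {x | ∃ c ∈ DD dO, x = c * rO * c⁻¹}).map C.r := ⟨zO, FactF.zQ, rfl⟩
    rw [MonoidHom.map_closure] at h
    refine Subgroup.closure_mono ?_ h
    rintro _ ⟨_, ⟨c, hc, rfl⟩, rfl⟩
    exact ⟨C.r c, (mem_DD C).2 ⟨c, hc, rfl⟩, by rw [map_mul, map_mul, map_inv]⟩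
  ind := by
    intro a b c h
    apply FactF.ind
    apply C.inj
    rw [map_mul, map_mul, map_zpow, map_zpow, map_zpow, map_one]
    exact h
  cD := fun g h1 h2 h3 => cD C h1 h2 h3
  Qd := by
    intro i q hq h
    obtain ⟨a, ha, rfl⟩ := (mem_QQ C).1 hq
    rw [← map_mul, ← map_mul] at h
    rcases Cfsg.Agent.StdO8.FactE.Qd (QQ_le_U ha) i (C.inj h) with h | h
    · left; rw [h, map_one]
    · right; rw [h]
  Qc := by
    intro c hc h1 h2
    obtain ⟨b, hb, rfl⟩ := (mem_DD C).1 hc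
    obtain ⟨a, ha, e1, e2, e3⟩ := Cfsg.Agent.StdO8.FactF.Qc hb (fun h => h1 (by rw [h, map_one]))
      (fun i => ⟨fun h => (h2 i).1 (by rw [h]), fun h => (h2 i).2 (by rw [h, map_inv])⟩)
    refine ⟨C.r a, (mem_QQ C).2 ⟨a, ha, rfl⟩, ?_, rne C e2, by rw [← map_mul, e3, map_mul]⟩
    rw [← map_one C.r]; exact rne C e1
  Λt := fun g hg => Subgroup.mem_centralizer_singleton_iff.2 hg.1
  Λi := lin_relIndex C
  Λ2 := fun g hg => lin_sq C hg

/-- **The facts of `DoubCore.Core`.** -/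
theorem core [Finite G] : DoubCore.Core C.t (x C zr) (x C rr) C.L (dd (x C)) (ta (x C)) :=
  core_of_frat' C (Frat.Pre.frat (pre C))

end Cfsg.Agent.StdO8.FactI
end

private theorem dce_9c94e93deea4 : _root_.True := by
  try have : _root_.True := by simp only [_root_.Cfsg.Agent.StdO8.FactD.τO.eq_1]
  try have : _root_.True := by simp only [_root_.Cfsg.Agent.StdO8.Bas.xb.eq_1]
  try have : _root_.True := by simp only [_root_.Cfsg.Agent.StdO8.DataOf.x.eq_1]
  try have : _root_.True := by simp only [_root_.Cfsg.Agent.StdO8.FactD.rO.eq_1]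
  exact _root_.True.intro
end

-- part: StdO8/CardC
section
set_option linter.all false
open scoped Cfsg.Agent.FastGrp

/-!
# `2^15` does not divide `|C_G(t)|`
-/

set_option autoImplicit false

namespace Cfsg.Agent.StdO8.CardC

open Cfsg.Agent.StdO8.Model Cfsg.Agent.StdO8.Code Cfsg.Agent.StdO8.Gen
open Cfsg.Agent.StdO8.Aut Cfsg.Agent.StdO8.Frame

theorem rh_notMem : FactG.rh ∉ Om := refl_notMem _ q136

theorem relIndex_Om : Om.relIndex O8 = 2 := by
  rw [Subgroup.relIndex, Subgroup.index_eq_two_iff]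
  refine ⟨⟨FactG.rh, FactG.rh_mem⟩, fun b => ?_⟩
  have h1 : (b * ⟨FactG.rh, FactG.rh_mem⟩ : O8) ∈ Om.subgroupOf O8 ↔ (b : V ≃ₗ[ZMod 2] V) * FactG.rh ∈ Om :=
    Subgroup.mem_subgroupOf
  have h2 : b ∈ Om.subgroupOf O8 ↔ (b : V ≃ₗ[ZMod 2] V) ∈ Om := Subgroup.mem_subgroupOf
  rw [h1, h2]
  rcases FactG.mem_or b.2 with h | h
  · right
    refine ⟨h, fun h' => rh_notMem ?_⟩
    exact (Subgroup.mul_mem_cancel_left Om h).1 h'
  · left
    refine ⟨h, fun h' => rh_notMem ?_⟩
    exact (Subgroup.mul_mem_cancel_left Om h').1 h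

theorem card_O8 : Nat.card O8 = 2 ^ 13 * 42525 := by
  have h1 := Subgroup.card_mul_index (Om.subgroupOf O8)
  have h2 : (Om.subgroupOf O8).index = 2 := relIndex_Om
  rw [h2, Nat.card_congr (Subgroup.subgroupOfEquivOfLe Om_le).toEquiv, Uni.card_Om] at h1
  rw [← h1]; norm_num

variable {G : Type*} [Group G] (C : Ctx G)

/-- The action of the linear elements. -/
noncomputable def lin : Lin C.t C.r →* O8 :=
  MonoidHom.mk' (fun g => (C.mem_Lin.1 g.2).choose) (by
    intro g h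
    have e1 := (C.mem_Lin.1 g.2).choose_spec
    have e2 := (C.mem_Lin.1 h.2).choose_spec
    have e3 := (C.mem_Lin.1 (g * h).2).choose_spec
    exact Ctx.IsLin.unique e3 (e1.mul e2))

theorem lin_spec (g : Lin C.t C.r) : C.IsLin g (lin C g) := (C.mem_Lin.1 g.2).choose_spec

theorem card_ker [Finite G] : Nat.card (lin C).ker ∣ 2 := by
  have h1 : (lin C).ker.map (Lin C.t C.r).subtype ≤ Subgroup.zpowers C.t := by
    rintro _ ⟨g, hg, rfl⟩
    have h2 := lin_spec C g
    have h3 : lin C g = 1 := hg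
    rw [h3] at h2
    rcases h2.eq_of_one with h | h
    · show (g : G) ∈ _
      rw [h]; exact one_mem _
    · show (g : G) ∈ _
      rw [h]; exact Subgroup.mem_zpowers _
  have h2 : Nat.card (Subgroup.zpowers C.t) = 2 := by
    rw [Nat.card_zpowers]
    exact orderOf_eq_prime (by rw [pow_two]; exact C.tt) C.t_ne
  have h3 := Subgroup.card_dvd_of_le h1
  rw [h2] at h3
  rwa [← Nat.card_congr ((lin C).ker.equivMapOfInjective (Lin C.t C.r).subtype
    (Lin C.t C.r).subtype_injective).toEquiv] at h3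

theorem card_Lin [Finite G] : Nat.card (Lin C.t C.r) ∣ 2 ^ 14 * 42525 := by
  have h1 := Subgroup.card_mul_index (lin C).ker
  rw [Subgroup.index_ker] at h1
  have h2 : Nat.card (lin C).range ∣ 2 ^ 13 * 42525 := by
    rw [← card_O8]
    exact Subgroup.card_subgroup_dvd_card _
  rw [← h1]
  have := Nat.mul_dvd_mul (card_ker C) h2
  have e : 2 * (2 ^ 13 * 42525) = 2 ^ 14 * 42525 := by norm_num
  rwa [e] at this

theorem lin_le : Lin C.t C.r ≤ Subgroup.centralizer {C.t} := fun _ hg =>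
  Subgroup.mem_centralizer_singleton_iff.2 hg.1

theorem cardC [Finite G] : ¬ 2 ^ 15 ∣ Nat.card (Subgroup.centralizer {C.t}) := by
  intro h
  have h1 := Subgroup.card_mul_index ((Lin C.t C.r).subgroupOf (Subgroup.centralizer {C.t}))
  rw [Nat.card_congr (Subgroup.subgroupOfEquivOfLe (lin_le C)).toEquiv] at h1
  have hodd : Odd ((Lin C.t C.r).subgroupOf (Subgroup.centralizer {C.t})).index := C.odd
  have hc : Nat.Coprime (2 ^ 15) ((Lin C.t C.r).subgroupOf (Subgroup.centralizer {C.t})).index :=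
    Nat.Coprime.pow_left _ (Nat.coprime_two_left.2 hodd)
  rw [← h1] at h
  have h2 := (hc.dvd_of_dvd_mul_right h).trans (card_Lin C)
  have h3 : Nat.Coprime (2 ^ 15) 42525 := Nat.Coprime.pow_left _ (by decide)
  have h4 := h3.dvd_of_dvd_mul_right h2
  exact absurd (Nat.le_of_dvd (by norm_num) h4) (by norm_num)

end Cfsg.Agent.StdO8.CardC
end

-- part: StdO8/FactK
section
prune_inst 0x201000404122000000000082210024041c00009200630001414007020208236300002f001ca0171201228a2420080048131000490010000000000200413c048180023282d1c9000000000100a885100000000000000000000000000000000000000400000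
set_option linter.all false
open scoped Cfsg.Agent.FastGrp

/-!
# The frame `(t, z, T)` for `Ω₈⁺(2)`: `Ω₁(Z(T)) = ⟨t, z⟩` and `z` is isolated in it
-/

set_option autoImplicit false

namespace Cfsg.Agent.StdO8.FactK

open Cfsg.Agent.StdO8.Model Cfsg.Agent.StdO8.Code Cfsg.Agent.StdO8.Gen Cfsg.Agent.StdO8.FactD
open Cfsg.Agent.StdO8.Aut Cfsg.Agent.StdO8.Frame Cfsg.Agent.StdO8.FactH
open Cfsg.Agent.StdO8.DoubCore (DD QQ TZ)
open Cfsg.Agent.StdO8.DoubRoot (zr rr al)
open Cfsg.Agent.StdO8.DataOf (x xm)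
open Cfsg.Agent.StdO8.Bas (bv wt)
open Cfsg.Agent.StdO8.D4Root (E ip roots Φ)
open Cfsg.Agent.StdO8.Uni (ht hw U)

/-! ### The centraliser of the positive root elements -/

theorem two_lines {M : V ≃ₗ[ZMod 2] V} (hM : M ∈ O8) {a b c : ℕ}
    (hq : (!qn a && !qn b && !qn c && !Bn a b && !Bn a c) = true)
    (hlt : a < 256 ∧ b < 256 ∧ c < 256) (h0 : a ≠ 0 ∧ b ≠ 0 ∧ c ≠ 0) (hab : a ≠ b) (hac : a ≠ c)
    (hbc : b ≠ c) (hbac : b ≠ a ^^^ c) (hcab : a ^^^ b ≠ c) (hx : a ^^^ b ≠ a ^^^ c)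
    (h1 : M * X (dec a) (dec b) = X (dec a) (dec b) * M) (h2 : M * X (dec a) (dec c) = X (dec a) (dec c) * M) :
    M (dec a) = dec a := by
  simp only [Bool.and_eq_true, Bool.not_eq_true'] at hq
  obtain ⟨⟨⟨⟨qa, qb⟩, qc⟩, Bab⟩, Bac⟩ := hq
  have e1 := mem_of_commute hM (u := dec a) (w := dec b) (by rw [q_dec, qa]; rfl) (by rw [q_dec, qb]; rfl)
    (by rw [B_dec, Bab]; rfl) (dec_ne_zero hlt.1 h0.1) (dec_ne_zero hlt.2.1 h0.2.1)
    (fun h => hab (dec_inj hlt.1 hlt.2.1 h)) h1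
  have e2 := mem_of_commute hM (u := dec a) (w := dec c) (by rw [q_dec, qa]; rfl) (by rw [q_dec, qc]; rfl)
    (by rw [B_dec, Bac]; rfl) (dec_ne_zero hlt.1 h0.1) (dec_ne_zero hlt.2.2 h0.2.2)
    (fun h => hac (dec_inj hlt.1 hlt.2.2 h)) h2
  have hxl : ∀ {m n : ℕ}, m < 256 → n < 256 → m ^^^ n < 256 := fun hm hn => Nat.xor_lt_two_pow (n := 8) hm hn
  rcases e1.1 with h | h | h
  · exact h
  · exfalso
    rcases e2.1 with h' | h' | h'
    · exact hab (dec_inj hlt.1 hlt.2.1 (h'.symm.trans h))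
    · exact hbc (dec_inj hlt.2.1 hlt.2.2 (h.symm.trans h'))
    · rw [← dec_xor] at h'
      exact hbac (dec_inj hlt.2.1 (hxl hlt.1 hlt.2.2) (h.symm.trans h'))
  · exfalso
    rw [← dec_xor] at h
    rcases e2.1 with h' | h' | h'
    · have := dec_inj (hxl hlt.1 hlt.2.1) hlt.1 (h.symm.trans h')
      apply h0.2.1
      have e3 := congrArg (fun v => a ^^^ v) this
      simp only [← Nat.xor_assoc, Nat.xor_self, Nat.zero_xor] at e3
      exact e3
    · exact hcab (dec_inj (hxl hlt.1 hlt.2.1) hlt.2.2 (h.symm.trans h'))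
    · rw [← dec_xor] at h'
      exact hx (dec_inj (hxl hlt.1 hlt.2.1) (hxl hlt.1 hlt.2.2) (h.symm.trans h'))

variable {G : Type*} [Group G] (C : Ctx G)

theorem ht_wt_add (i j : Fin 8) : ht (wt i + wt j) = hw i + hw j := by
  rw [map_add, Uni.ht_wt, Uni.ht_wt]

/-- **(f1a)** -/
theorem cent_pos {g : G} (hg : g * C.t = C.t * g) (h : ∀ s ∈ Φ, 0 < ht s → g * x C s = x C s * g) :
    TZ C.t (x C zr) g := by
  have hpair : ∀ i j : Fin 8, Bas.ok i j → 0 < hw i + hw j → g * C.r (xm (wt i + wt j)) = C.r (xm (wt i + wt j)) * g :=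
    fun i j hij hh => h _ (Bas.wt_mem i j hij) (by rw [ht_wt_add]; exact hh)
  have hzτ : Commute g (C.r (zO * τO 0)) := by
    rw [map_mul]
    refine Commute.mul_right ?_ ?_
    · have := hpair 0 1 (by decide) (by decide)
      rw [← zr_eq, xm_z] at this
      exact this
    · have := hpair 0 5 (by decide) (by decide)
      have e : al 0 = wt 0 + wt 5 := by decide
      rw [← e, xm_τ] at this
      exact this
  obtain ⟨M, hM⟩ := C.isLin_of_commute hg zτ0_c2 hzτ
  have hline : ∀ i j : Fin 8, Bas.ok i j → 0 < hw i + hw j →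
      (M : V ≃ₗ[ZMod 2] V) * X (dec (2 ^ i.1)) (dec (2 ^ j.1)) = X (dec (2 ^ i.1)) (dec (2 ^ j.1)) * M := by
    intro i j hij hh
    have := (hM.commute_iff (xm (wt i + wt j))).1 (hpair i j hij hh)
    rw [xm_wt hij] at this
    exact this
  have hfin := FactG.kerz M.2 (by
    intro a ha
    simp only [List.mem_cons, List.not_mem_nil, or_false] at ha
    rcases ha with rfl | rfl | rfl | rfl | rfl | rfl
    · exact two_lines M.2 (a := 1) (b := 2) (c := 4) (by decide) (by decide) (by decide) (by decide) (by decide)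
        (by decide) (by decide) (by decide) (by decide) (hline 0 1 (by decide) (by decide)) (hline 0 2 (by decide) (by decide))
    · exact two_lines M.2 (a := 2) (b := 1) (c := 4) (by decide) (by decide) (by decide) (by decide) (by decide)
        (by decide) (by decide) (by decide) (by decide) (hline 1 0 (by decide) (by decide)) (hline 1 2 (by decide) (by decide))
    · exact two_lines M.2 (a := 4) (b := 1) (c := 2) (by decide) (by decide) (by decide) (by decide) (by decide)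
        (by decide) (by decide) (by decide) (by decide) (hline 2 0 (by decide) (by decide)) (hline 2 1 (by decide) (by decide))
    · exact two_lines M.2 (a := 8) (b := 1) (c := 2) (by decide) (by decide) (by decide) (by decide) (by decide)
        (by decide) (by decide) (by decide) (by decide) (hline 3 0 (by decide) (by decide)) (hline 3 1 (by decide) (by decide))
    · exact two_lines M.2 (a := 64) (b := 1) (c := 2) (by decide) (by decide) (by decide) (by decide) (by decide)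
        (by decide) (by decide) (by decide) (by decide) (hline 6 0 (by decide) (by decide)) (hline 6 1 (by decide) (by decide))
    · exact two_lines M.2 (a := 128) (b := 1) (c := 2) (by decide) (by decide) (by decide) (by decide) (by decide)
        (by decide) (by decide) (by decide) (by decide) (hline 7 0 (by decide) (by decide)) (hline 7 1 (by decide) (by decide)))
  rw [x_z]
  rcases hfin with h1 | h1
  · have e : M = 1 := Subtype.ext h1
    rw [e] at hM
    rcases hM.eq_of_one with h2 | h2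
    · exact Or.inl h2
    · exact Or.inr (Or.inl h2)
  · rcases DataOf.eq_of_isLin C hM h1 with h2 | h2
    · exact Or.inr (Or.inr (Or.inl h2))
    · exact Or.inr (Or.inr (Or.inr h2))

/-! ### `z` is a commutator, `t` is not in the commutator subgroup -/

theorem z_comm : ∃ a b : G, a ∈ C.L ∧ b ∈ C.L ∧ a * x C zr = x C zr * a ∧ b * x C zr = x C zr * b ∧
    x C zr = a * b * a⁻¹ * b⁻¹ := by
  have hb : word (FactF.rw1 (1, 1, 1)) ∈ QQ zO rO dO := FactF.qw_mem [(1, 1, 1)] |> fun h => by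
    rwa [FactF.qw, FactF.qw, List.append_nil] at h
  set b := word (FactF.rw1 (1, 1, 1)) with hb'
  have e1 : rO * b * rO * b = zO := by
    have := word_eq (l := Gw 1 ++ FactF.rw1 (1, 1, 1) ++ Gw 1 ++ FactF.rw1 (1, 1, 1)) (l' := Gw 0) (by decide +kernel)
    rwa [word_append, word_append, word_append] at this
  have e2 : b * b = 1 := by
    have := word_eq (l := FactF.rw1 (1, 1, 1) ++ FactF.rw1 (1, 1, 1)) (l' := []) (by decide +kernel)
    rwa [word_append] at this
  have e3 : b * zO = zO * b := by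
    have := word_eq (l := FactF.rw1 (1, 1, 1) ++ Gw 0) (l' := Gw 0 ++ FactF.rw1 (1, 1, 1)) (by decide +kernel)
    rwa [word_append, word_append] at this
  refine ⟨C.r rO, C.r b, C.r_mem _, C.r_mem _, ?_, ?_, ?_⟩
  · rw [x_z, ← map_mul, ← map_mul, FactG.zr]
  · rw [x_z, ← map_mul, ← map_mul, e3]
  · rw [x_z, ← map_inv, ← map_inv, ← map_mul, ← map_mul, ← map_mul, inv_eq_of_mul_eq_one_left (FactG.rr :),
      inv_eq_of_mul_eq_one_left e2, e1]

theorem L_normal {g l : G} (hg : g * C.t = C.t * g) (hl : l ∈ C.L) : g * l * g⁻¹ ∈ C.L := by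
  obtain ⟨m, rfl⟩ := hl
  obtain ⟨α, hα⟩ := C.norm g hg
  rw [hα]
  exact C.r_mem _

theorem comm_of_inner {u h : G} (hu : u ∈ C.L ∨ C.t * u ∈ C.L) (hh : h * C.t = C.t * h) :
    u * h * u⁻¹ * h⁻¹ ∈ C.L := by
  have key : ∀ u ∈ C.L, u * h * u⁻¹ * h⁻¹ ∈ C.L := by
    intro u hu
    have : u * h * u⁻¹ * h⁻¹ = u * (h * u⁻¹ * h⁻¹) := by group
    rw [this]
    exact mul_mem hu (L_normal C hh (inv_mem hu))
  rcases hu with hu | hu
  · exact key u hu
  · have h1 := key _ hu
    have e : C.t * u * h * (C.t * u)⁻¹ * h⁻¹ = C.t * (u * h * u⁻¹) * C.t⁻¹ * h⁻¹ := by group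
    have hut : Commute u C.t := by
      obtain ⟨m, hm⟩ := hu
      have : u = C.t * C.r m := by rw [hm, ← mul_assoc, C.tt, one_mul]
      rw [this]
      exact (Commute.refl _).mul_left (C.comm m)
    have hc : Commute (u * h * u⁻¹) C.t := (hut.mul_left hh).mul_left hut.inv_left
    rw [e, ← hc.eq, mul_inv_cancel_right] at h1
    exact h1

theorem inner_of {g : G} {M : O8} (hM : C.IsLin g M) (h : (M : V ≃ₗ[ZMod 2] V) ∈ Om) : g ∈ C.L ∨ C.t * g ∈ C.L := by
  rcases DataOf.eq_of_isLin C hM (m := ⟨M, h⟩) rfl with h1 | h1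
  · left; rw [h1]; exact C.r_mem _
  · right; rw [h1, ← mul_assoc, C.tt, one_mul]; exact C.r_mem _

theorem comm_lin {g h : G} (hg : g ∈ Lin C.t C.r) (hh : h ∈ Lin C.t C.r) : g * h * g⁻¹ * h⁻¹ ∈ C.L := by
  obtain ⟨M, hM⟩ := C.mem_Lin.1 hg
  obtain ⟨N, hN⟩ := C.mem_Lin.1 hh
  rcases FactG.mem_or M.2 with h1 | h1
  · exact comm_of_inner C (inner_of C hM h1) hh.1
  rcases FactG.mem_or N.2 with h2 | h2
  · have := comm_of_inner C (inner_of C hN h2) hg.1
    have e : g * h * g⁻¹ * h⁻¹ = (h * g * h⁻¹ * g⁻¹)⁻¹ := by group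
    rw [e]
    exact inv_mem this
  · have h3 : (M : V ≃ₗ[ZMod 2] V) * (N : V ≃ₗ[ZMod 2] V)⁻¹ ∈ Om := by
      have e : (M : V ≃ₗ[ZMod 2] V) * (N : V ≃ₗ[ZMod 2] V)⁻¹ = (M * FactG.rh) * (N * FactG.rh)⁻¹ := by group
      rw [e]
      exact mul_mem h1 (inv_mem h2)
    have h4 := comm_of_inner C (inner_of C (hM.mul hN.inv) h3) hh.1
    have e : g * h⁻¹ * h * (g * h⁻¹)⁻¹ * h⁻¹ = g * h * g⁻¹ * h⁻¹ := by group
    rwa [e] at h4

theorem t_notMem_comm [Finite G] :
    C.t ∉ (⁅Subgroup.centralizer {C.t}, Subgroup.centralizer {C.t}⁆ : Subgroup G) := by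
  intro hmem
  set K : Subgroup G := Subgroup.centralizer {C.t} with hK
  have htK : C.t ∈ K := Subgroup.mem_centralizer_singleton_iff.2 rfl
  set H : Subgroup K := (Lin C.t C.r).subgroupOf K with hH
  have hodd : Odd H.index := C.odd
  -- `t` in the commutator subgroup of `K`
  have h1 : (⟨C.t, htK⟩ : K) ∈ commutator K := by
    have h2 : (commutator K).map K.subtype = ⁅K, K⁆ := Subgroup.map_subtype_commutator K
    rw [← h2] at hmem
    obtain ⟨y, hy, hyt⟩ := hmem
    have : y = ⟨C.t, htK⟩ := Subtype.ext hyt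
    rwa [← this]
  have h2 : MonoidHom.transfer (Abelianization.of (G := H)) ⟨C.t, htK⟩ = 1 :=
    Abelianization.commutator_subset_ker _ h1
  have hcen : ∀ g₀ : K, (⟨C.t, htK⟩ : K) * g₀ = g₀ * ⟨C.t, htK⟩ := fun g₀ => by
    apply Subtype.ext
    exact (Subgroup.mem_centralizer_singleton_iff.1 g₀.2).symm
  have key : ∀ (k : ℕ) (g₀ : K), g₀⁻¹ * (⟨C.t, htK⟩ : K) ^ k * g₀ ∈ H →
      g₀⁻¹ * (⟨C.t, htK⟩ : K) ^ k * g₀ = (⟨C.t, htK⟩ : K) ^ k := by
    intro k g₀ _
    have h3 : Commute (⟨C.t, htK⟩ : K) g₀ := hcen g₀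
    rw [mul_assoc, (h3.pow_left k).eq, inv_mul_cancel_left]
  rw [MonoidHom.transfer_eq_pow _ _ key] at h2
  have h3 : (⟨C.t, htK⟩ : K) ^ H.index = ⟨C.t, htK⟩ := by
    obtain ⟨m, hm⟩ := hodd
    have h4 : (⟨C.t, htK⟩ : K) ^ 2 = 1 := by
      rw [pow_two]
      exact Subtype.ext C.tt
    rw [hm, pow_succ, pow_mul, h4, one_pow, one_mul]
  -- the abelianisation of `H`
  have h5 : (⟨(⟨C.t, htK⟩ : K) ^ H.index, MonoidHom.transfer_eq_pow_aux _ key⟩ : H) ∈ commutator H := by
    rw [← Abelianization.ker_of, MonoidHom.mem_ker]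
    exact h2
  have h6 : (commutator H).map (K.subtype.comp H.subtype) ≤ C.L := by
    rw [commutator_def, Subgroup.map_commutator, Subgroup.commutator_le]
    rintro _ ⟨a, -, rfl⟩ _ ⟨b, -, rfl⟩
    exact comm_lin C a.2 b.2
  have h7 := h6 ⟨_, h5, rfl⟩
  apply C.t_notMem
  have h8 : (K.subtype.comp H.subtype) ⟨(⟨C.t, htK⟩ : K) ^ H.index, MonoidHom.transfer_eq_pow_aux _ key⟩ = C.t := by
    show (((⟨C.t, htK⟩ : K) ^ H.index : K) : G) = C.t
    rw [h3]
  rwa [h8] at h7

/-- elements of `C(t)` -/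
theorem L_le : C.L ≤ Subgroup.centralizer {C.t} := by
  rintro _ ⟨m, rfl⟩
  exact Subgroup.mem_centralizer_singleton_iff.2 (C.comm m).eq

theorem z_mem_comm : x C zr ∈ (⁅Subgroup.centralizer {C.t}, Subgroup.centralizer {C.t}⁆ : Subgroup G) := by
  obtain ⟨a, b, ha, hb, -, -, e⟩ := z_comm C
  rw [e]
  exact Subgroup.commutator_mem_commutator (L_le C ha) (L_le C hb)

theorem tz_notMem_comm [Finite G] :
    C.t * x C zr ∉ (⁅Subgroup.centralizer {C.t}, Subgroup.centralizer {C.t}⁆ : Subgroup G) := by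
  intro h
  apply t_notMem_comm C
  have := mul_mem h (inv_mem (z_mem_comm C))
  rwa [mul_inv_cancel_right] at this

/-- **`z` is isolated in `⟨t, z⟩`.** -/
theorem iso [Finite G] (g : G)
    (h1 : g * C.t * g⁻¹ = C.t ∨ g * C.t * g⁻¹ = x C zr ∨ g * C.t * g⁻¹ = C.t * x C zr)
    (h2 : g * x C zr * g⁻¹ = C.t ∨ g * x C zr * g⁻¹ = x C zr ∨ g * x C zr * g⁻¹ = C.t * x C zr) :
    g * x C zr * g⁻¹ = x C zr := by
  have hz1 : x C zr ≠ 1 := by
    rw [x_z, ← map_one C.r]; exact rne C FactG.z1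
  have hzz : x C zr * x C zr = 1 := DataOf.x_sq C _
  have htz : C.t * x C zr = x C zr * C.t := (C.comm _).eq.symm
  have hne : g * C.t * g⁻¹ ≠ g * x C zr * g⁻¹ := by
    intro h
    apply C.t_notMem
    have : C.t = x C zr := mul_left_cancel (mul_right_cancel h)
    rw [this]
    exact DataOf.x_mem C _
  -- `t` is a product of the conjugates
  have hgen : ∀ c : G, c * (g * C.t * g⁻¹) = (g * C.t * g⁻¹) * c → c * (g * x C zr * g⁻¹) = (g * x C zr * g⁻¹) * c →
      c * C.t = C.t * c := by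
    intro c hc1 hc2
    rcases h1 with e1 | e1 | e1
    · rwa [e1] at hc1
    · rcases h2 with e2 | e2 | e2
      · rwa [e2] at hc2
      · exact absurd (e1.trans e2.symm) hne
      · rw [e1] at hc1
        rw [e2] at hc2
        have e : C.t = C.t * x C zr * x C zr := by rw [mul_assoc, hzz, mul_one]
        calc c * C.t = c * (C.t * x C zr) * x C zr := by rw [mul_assoc c, ← e]
          _ = C.t * x C zr * (c * x C zr) := by rw [hc2, mul_assoc]
          _ = C.t * x C zr * x C zr * c := by rw [hc1, ← mul_assoc]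
          _ = C.t * c := by rw [← e]
    · rcases h2 with e2 | e2 | e2
      · rwa [e2] at hc2
      · rw [e1] at hc1
        rw [e2] at hc2
        have e : C.t = C.t * x C zr * x C zr := by rw [mul_assoc, hzz, mul_one]
        calc c * C.t = c * (C.t * x C zr) * x C zr := by rw [mul_assoc c, ← e]
          _ = C.t * x C zr * (c * x C zr) := by rw [hc1, mul_assoc]
          _ = C.t * x C zr * x C zr * c := by rw [hc2, ← mul_assoc]
          _ = C.t * c := by rw [← e]
      · exact absurd (e1.trans e2.symm) hne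
  obtain ⟨a, b, ha, hb, haz, hbz, e⟩ := z_comm C
  have hmem : ∀ a ∈ C.L, a * x C zr = x C zr * a → g * a * g⁻¹ ∈ Subgroup.centralizer {C.t} := by
    intro a ha haz
    rw [Subgroup.mem_centralizer_singleton_iff]
    have hat : a * C.t = C.t * a := Subgroup.mem_centralizer_singleton_iff.1 (L_le C ha)
    apply hgen
    · calc g * a * g⁻¹ * (g * C.t * g⁻¹) = g * (a * C.t) * g⁻¹ := by group
        _ = _ := by rw [hat]; group
    · calc g * a * g⁻¹ * (g * x C zr * g⁻¹) = g * (a * x C zr) * g⁻¹ := by group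
        _ = _ := by rw [haz]; group
  have hcomm : g * x C zr * g⁻¹ ∈ (⁅Subgroup.centralizer {C.t}, Subgroup.centralizer {C.t}⁆ : Subgroup G) := by
    have e2 : g * x C zr * g⁻¹ = g * a * g⁻¹ * (g * b * g⁻¹) * (g * a * g⁻¹)⁻¹ * (g * b * g⁻¹)⁻¹ := by
      conv_lhs => rw [e]
      group
    rw [e2]
    exact Subgroup.commutator_mem_commutator (hmem a ha haz) (hmem b hb hbz)
  rcases h2 with h2 | h2 | h2
  · rw [h2] at hcomm
    exact absurd hcomm (t_notMem_comm C)
  · exact h2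
  · rw [h2] at hcomm
    exact absurd hcomm (tz_notMem_comm C)

/-! ### The Sylow subgroup -/

theorem mem_U {s : E} (hs : s ∈ Φ) (h : 0 < ht s) : x C s ∈ U C :=
  Cfsg.Agent.OddHalf.SL.Bridge.le_pos (X := fun r => Subgroup.zpowers (x C r)) hs h (Subgroup.mem_zpowers _)

theorem U_comm {g : G} (h : ∀ s ∈ Φ, 0 < ht s → g * x C s = x C s * g) {u : G} (hu : u ∈ U C) : g * u = u * g := by
  have : U C ≤ Subgroup.centralizer {g} := iSup₂_le fun a ha => by
    rw [Subgroup.zpowers_le, Subgroup.mem_centralizer_singleton_iff]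
    exact (h a ha.1 ha.2).symm
  exact (Subgroup.mem_centralizer_singleton_iff.1 (this hu)).symm

theorem z_U : zr ∈ Φ ∧ 0 < ht zr := by
  refine ⟨by decide, ?_⟩
  rw [zr_eq, ht_wt_add]
  decide

theorem z_top : ∀ s ∈ roots, 0 < 3 * s 0 + 2 * s 1 + s 2 → 0 ≤ ip zr s := by decide +kernel

/-- `z` centralises the positive root elements -/
theorem z_cent {s : E} (hs : s ∈ Φ) (h : 0 < ht s) : x C zr * x C s = x C s * x C zr :=
  DataOf.x_comm C z_U.1 hs (z_top s hs (by rwa [Uni.ht_apply] at h))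

/-- `T ∩ L = U` for a 2-group `T ≥ U` -/
theorem inf_L [Finite G] {T : Subgroup G} (pT : IsPGroup 2 T) (hU : U C ≤ T) : T ⊓ C.L = U C := by
  symm
  apply Subgroup.eq_of_le_of_card_ge (le_inf hU (Uni.U_le C))
  have hp : IsPGroup 2 (T ⊓ C.L : Subgroup G) := pT.to_le inf_le_left
  obtain ⟨n, hn⟩ := IsPGroup.iff_card.1 hp
  have hd : Nat.card (T ⊓ C.L : Subgroup G) ∣ Nat.card C.L := Subgroup.card_dvd_of_le inf_le_right
  rw [hn, Uni.card_L] at hd
  rw [hn, Uni.card_U]
  have h2 : Nat.Coprime (2 ^ n) 42525 := Nat.Coprime.pow_left n (by decide)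
  have h3 := h2.dvd_of_dvd_mul_right hd
  exact Nat.le_of_dvd (by norm_num) h3

/-- **The frame** for every Sylow subgroup of `C(t)` containing `U`. -/
theorem frame_of [Finite G] {T : Subgroup G} (pT : IsPGroup 2 T) (hU : U C ≤ T) (hT : ∀ y ∈ T, y * C.t = C.t * y)
    (max : ∀ P : Subgroup G, IsPGroup 2 P → T ≤ P → (∀ y ∈ P, y * C.t = C.t * y) → P ≤ T) :
    Cfsg.Agent.OddHalf.TR.Frame C.t (x C zr) T := by
  have hz1 : x C zr ≠ 1 := by
    rw [x_z, ← map_one C.r]; exact rne C FactG.z1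
  have hzz : x C zr * x C zr = 1 := DataOf.x_sq C _
  have htT : C.t ∈ T := by
    have h1 : IsPGroup 2 (T ⊔ Subgroup.zpowers C.t : Subgroup G) := by
      by_cases h : C.t ∈ T
      · have : T ⊔ Subgroup.zpowers C.t = T := sup_eq_left.2 (by rwa [Subgroup.zpowers_le])
        rw [this]; exact pT
      · obtain ⟨n, hn⟩ := IsPGroup.iff_card.1 pT
        have h2 := Uni.card_sup C.tt (H := T) (fun y hy => by
          rw [← hT y hy, mul_assoc, C.tt, mul_one]; exact hy) h
        exact IsPGroup.of_card (n := n + 1) (by rw [h2, hn, pow_succ]; ring)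
    refine max _ h1 le_sup_left ?_ (Subgroup.mem_sup_right (Subgroup.mem_zpowers _))
    intro y hy
    have h2 : T ⊔ Subgroup.zpowers C.t ≤ Subgroup.centralizer {C.t} := by
      rw [sup_le_iff, Subgroup.zpowers_le]
      exact ⟨fun y hy => Subgroup.mem_centralizer_singleton_iff.2 (hT y hy),
        Subgroup.mem_centralizer_singleton_iff.2 rfl⟩
    exact Subgroup.mem_centralizer_singleton_iff.1 (h2 hy)
  have hzT : x C zr ∈ T := hU (mem_U C z_U.1 z_U.2)
  have hcentral : ∀ y ∈ T, y * x C zr = x C zr * y := by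
    intro y hy
    have hyt := hT y hy
    -- `y` normalises `U`
    have hN : ∀ u ∈ U C, y⁻¹ * u * y ∈ U C := by
      intro u hu
      rw [← inf_L C pT hU]
      refine Subgroup.mem_inf.2 ⟨mul_mem (mul_mem (inv_mem hy) (hU hu)) hy, ?_⟩
      have h3 : y⁻¹ * C.t = C.t * y⁻¹ := by
        have : Commute y C.t := hyt
        exact this.inv_left.eq
      have := L_normal C h3 (Uni.U_le C hu)
      rwa [inv_inv] at this
    have h1 : TZ C.t (x C zr) (y * x C zr * y⁻¹) := by
      apply cent_pos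
      · have h3 : Commute y C.t := hyt
        exact ((h3.mul_left (C.comm _)).mul_left h3.inv_left).eq
      · intro s hs hh
        have h3 := hN _ (mem_U C hs hh)
        have h4 : x C zr * (y⁻¹ * x C s * y) = y⁻¹ * x C s * y * x C zr :=
          U_comm C (fun s hs hh => z_cent C hs hh) h3
        calc y * x C zr * y⁻¹ * x C s = y * (x C zr * (y⁻¹ * x C s * y)) * y⁻¹ := by group
          _ = _ := by rw [h4]; group
    have h2 : y * x C zr * y⁻¹ ∈ C.L := L_normal C hyt (DataOf.x_mem C _)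
    rcases h1 with h1 | h1 | h1 | h1
    · exfalso
      apply hz1
      rw [mul_inv_eq_one] at h1
      exact mul_eq_left.1 h1
    · exact absurd (h1 ▸ h2) C.t_notMem
    · rwa [mul_inv_eq_iff_eq_mul] at h1
    · exfalso
      apply C.t_notMem
      have h3 := mul_mem h2 (inv_mem (DataOf.x_mem C zr))
      rw [h1, mul_inv_cancel_right] at h3
      exact h3
  exact
    { tt := C.tt
      zz := hzz
      t1 := C.t_ne
      z1 := hz1
      ne := fun h => C.t_notMem (h ▸ DataOf.x_mem C zr)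
      pT := pT
      tT := htT
      tc := hT
      zT := hzT
      zc := hcentral
      max := max
      om := by
        intro y hy hyc _
        exact cent_pos C (hT y hy) fun s hs hh => (hyc _ (hU (mem_U C hs hh))).symm
      iso := iso C }

end Cfsg.Agent.StdO8.FactK
end

-- part: StandardComponent/FiRedVec_mg
section
prune_inst 0x1004000022000000000082010004040400009000020000414006000200222300002600b40017000100202400000060024400094000000000000000413c048180001002d1890000000001000880000000000000000000000000000000000004000400000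
set_option linter.all false
open scoped Cfsg.Agent.FastGrp

-- part: StandardComponent/FiRedVec
section
/-!
# Vectors of the `Ω₈⁺(2)`-space
-/

set_option autoImplicit false

namespace Cfsg.Agent.StandardComponent.FiRedVec

open QuadraticMap Cfsg.Agent.StdO8.Model Module

theorem aa (a : ZMod 2) : a + a = 0 := by revert a; decide

theorem ne_one {a : ZMod 2} (h : a ≠ 1) : a = 0 := (z2 a).resolve_right h

theorem ne_zero {a : ZMod 2} (h : a ≠ 0) : a = 1 := (z2 a).resolve_left h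

/-- the polar form -/
abbrev bb : LinearMap.BilinForm (ZMod 2) V := polarBilin q

theorem bb_apply (u v : V) : bb u v = B u v := rfl

theorem bb_refl : bb.IsRefl := by
  intro x y h
  rw [bb_apply] at h ⊢
  rw [B_comm]; exact h

theorem bb_nondeg : bb.Nondegenerate := by
  refine ⟨fun x h => nondeg h, fun x h => nondeg fun v => ?_⟩
  rw [B_comm]; exact h v

/-- orthogonal complement -/
noncomputable def pp (l : List V) : Submodule (ZMod 2) V :=
  bb.orthogonal (Submodule.span (ZMod 2) {x | x ∈ l})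

theorem mem_pp {l : List V} {v : V} : v ∈ pp l ↔ ∀ x ∈ l, B x v = 0 := by
  constructor
  · intro h x hx
    exact h x (Submodule.subset_span hx)
  · intro h x hx
    show B x v = 0
    induction hx using Submodule.span_induction with
    | mem x hx => exact h x hx
    | zero => exact B_zero_left v
    | add x y _ _ hx hy => rw [B_add_left, hx, hy, add_zero]
    | smul a x _ hx => rw [B_smul_left, hx, mul_zero]

theorem finrank_pp (l : List V) : 8 - l.length ≤ finrank (ZMod 2) (pp l) := by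
  classical
  rw [pp, LinearMap.BilinForm.finrank_orthogonal bb_nondeg, finrank_V]
  have h1 : finrank (ZMod 2) (Submodule.span (ZMod 2) ((l.toFinset : Finset V) : Set V)) ≤
    l.toFinset.card := finrank_span_finset_le_card _
  have h2 : ((l.toFinset : Finset V) : Set V) = {x | x ∈ l} := by ext x; simp
  rw [h2] at h1
  have h3 := l.toFinset_card_le
  omega

theorem exists_pp {l : List V} {s : V} (hs : s ∉ Submodule.span (ZMod 2) {x | x ∈ l}) :
    ∃ z ∈ pp l, B s z = 1 := by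
  by_contra hcon
  push Not at hcon
  apply hs
  rw [← LinearMap.BilinForm.orthogonal_orthogonal bb_nondeg bb_refl
    (Submodule.span (ZMod 2) {x | x ∈ l})]
  intro z hz
  show B z s = 0
  rw [B_comm]
  exact ne_one (hcon z hz)

theorem notMem_span {u m s : V} (h0 : s ≠ 0) (h1 : s ≠ u) (h2 : s ≠ m) (h3 : s ≠ u + m) :
    s ∉ Submodule.span (ZMod 2) {x | x ∈ [u, m]} := by
  have e : {x | x ∈ [u, m]} = ({u, m} : Set V) := by ext x; simp
  rw [e, Submodule.mem_span_pair]
  rintro ⟨a, b, hab⟩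
  rcases z2 a with rfl | rfl <;> rcases z2 b with rfl | rfl
  · apply h0; rw [← hab]; simp
  · apply h2; rw [← hab]; simp
  · apply h1; rw [← hab]; simp
  · apply h3; rw [← hab]; simp

/-- a subspace of dimension at least five is not totally isotropic -/
theorem exists_pair {W : Submodule (ZMod 2) V} (hW : 5 ≤ finrank (ZMod 2) W) :
    ∃ c ∈ W, ∃ c' ∈ W, B c c' = 1 := by
  by_contra hcon
  push Not at hcon
  have h1 : W ≤ bb.orthogonal W := by
    intro x hx y hy
    exact ne_one (hcon y hy x hx)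
  have h2 := Submodule.finrank_mono h1
  rw [LinearMap.BilinForm.finrank_orthogonal bb_nondeg, finrank_V] at h2
  omega

theorem exists_pair3 (x y z : V) : ∃ c c', (B x c = 0 ∧ B y c = 0 ∧ B z c = 0) ∧
    (B x c' = 0 ∧ B y c' = 0 ∧ B z c' = 0) ∧ B c c' = 1 := by
  obtain ⟨c, hc, c', hc', h⟩ := exists_pair (finrank_pp [x, y, z])
  rw [mem_pp] at hc hc'
  exact ⟨c, c', ⟨hc x (by simp), hc y (by simp), hc z (by simp)⟩,
    ⟨hc' x (by simp), hc' y (by simp), hc' z (by simp)⟩, h⟩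

/-- a vector orthogonal to `u, m` and not to `s` -/
theorem exists_perp {u m s : V} (h0 : s ≠ 0) (h1 : s ≠ u) (h2 : s ≠ m) (h3 : s ≠ u + m) :
    ∃ z, B u z = 0 ∧ B m z = 0 ∧ B s z = 1 := by
  obtain ⟨z, hz, h⟩ := exists_pp (notMem_span h0 h1 h2 h3)
  rw [mem_pp] at hz
  exact ⟨z, hz u (by simp), hz m (by simp), h⟩

/-- a singular vector orthogonal to `u, m` and not to `s` -/
theorem exists_sing {u m s : V} (h0 : s ≠ 0) (h1 : s ≠ u) (h2 : s ≠ m) (h3 : s ≠ u + m) :
    ∃ a, q a = 0 ∧ B u a = 0 ∧ B m a = 0 ∧ B s a = 1 := by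
  by_contra hcon
  push Not at hcon
  have key : ∀ z, B u z = 0 → B m z = 0 → B s z = 1 → q z = 1 := fun z a b c =>
    ne_zero fun h => hcon z h a b c
  obtain ⟨z, z1, z2', z3⟩ := exists_perp h0 h1 h2 h3
  obtain ⟨c, c', ⟨c1, c2, c3⟩, ⟨d1, d2, d3⟩, hcc⟩ := exists_pair3 u m s
  have e0 := key z z1 z2' z3
  have e1 := key (z + c) (by rw [B_add_right, z1, c1, add_zero]) (by rw [B_add_right, z2', c2, add_zero])
    (by rw [B_add_right, z3, c3, add_zero])
  have e2 := key (z + c') (by rw [B_add_right, z1, d1, add_zero]) (by rw [B_add_right, z2', d2, add_zero])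
    (by rw [B_add_right, z3, d3, add_zero])
  have e3 := key (z + c + c') (by rw [B_add_right, B_add_right, z1, c1, d1]; rfl)
    (by rw [B_add_right, B_add_right, z2', c2, d2]; rfl)
    (by rw [B_add_right, B_add_right, z3, c3, d3]; rfl)
  rw [q_add, e0] at e1 e2
  rw [q_add, q_add, e0, B_add_left, hcc] at e3
  revert e1 e2 e3
  generalize q c = x1
  generalize q c' = x2
  generalize B z c = x3
  generalize B z c' = x4
  revert x1 x2 x3 x4
  decide

theorem exists_nonsing {c c' : V} (h : B c c' = 1) : q c = 1 ∨ q c' = 1 ∨ q (c + c') = 1 := by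
  rw [q_add, h]
  generalize q c = x1
  generalize q c' = x2
  revert x1 x2
  decide

/-- a nonsingular vector orthogonal to three given vectors -/
theorem exists_nonsing3 (x y z : V) : ∃ c, B x c = 0 ∧ B y c = 0 ∧ B z c = 0 ∧ q c = 1 := by
  obtain ⟨c, c', ⟨c1, c2, c3⟩, ⟨d1, d2, d3⟩, hcc⟩ := exists_pair3 x y z
  rcases exists_nonsing hcc with h | h | h
  · exact ⟨c, c1, c2, c3, h⟩
  · exact ⟨c', d1, d2, d3, h⟩
  · exact ⟨c + c', by rw [B_add_right, c1, d1, add_zero], by rw [B_add_right, c2, d2, add_zero],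
      by rw [B_add_right, c3, d3, add_zero], h⟩

/-- with a nonsingular vector among the given ones one of the two vectors can be chosen singular -/
theorem exists_pair3_sing (x y z : V) (hy : q y = 1) (hxy : B x y = 0) (hzy : B z y = 0) :
    ∃ c c', (B x c = 0 ∧ B y c = 0 ∧ B z c = 0) ∧
    (B x c' = 0 ∧ B y c' = 0 ∧ B z c' = 0) ∧ B c c' = 1 ∧ q c = 0 := by
  obtain ⟨c, c', ⟨c1, c2, c3⟩, hc', hcc⟩ := exists_pair3 x y z
  rcases z2 (q c) with h | h
  · exact ⟨c, c', ⟨c1, c2, c3⟩, hc', hcc, h⟩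
  · refine ⟨c + y, c', ⟨?_, ?_, ?_⟩, hc', ?_, ?_⟩
    · rw [B_add_right, c1, hxy, add_zero]
    · rw [B_add_right, c2, B_self, add_zero]
    · rw [B_add_right, c3, hzy, add_zero]
    · rw [B_add_left, hcc, hc'.2.1, add_zero]
    · rw [q_add, h, hy, B_comm, c2]; decide

end Cfsg.Agent.StandardComponent.FiRedVec
end

-- part: StdO8/InstRel
section
/-!
# The pattern `ε = (1,1,1)`: the relations between `y`, `x' = y^w` and the root elements

`w = nn x ac` interchanges `z = x zr` and `z' = x rr`. We compute `x' (x ac) x'` and `[y, x']`.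
-/

set_option autoImplicit false
set_option linter.all false

namespace Cfsg.Agent.StdO8.InstRel

open Subgroup Cfsg.Agent.StdO8.D4Root Cfsg.Agent.StdO8.DoubCore Cfsg.Agent.StdO8.DoubRefl
  Cfsg.Agent.StdO8.DoubRoot

variable {G : Type*} [Group G]

/-- the root `ac + ∑_{i ∈ S} al i` -/
def er (S : ℕ) : E := ac + (if S.testBit 0 then al 0 else 0) + (if S.testBit 1 then al 1 else 0) +
  (if S.testBit 2 then al 2 else 0)

/-- the root element -/
def ee (x : E → G) (S : ℕ) : G := x (er S)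

theorem er_mem : ∀ S < 8, er S ∈ roots := by decide +kernel

/-- the eleven roots -/
def Eleven : List E := [zr, rr, er 1, er 2, er 4, er 3, er 5, er 6, al 0, al 1, al 2]

theorem eleven : ∀ a ∈ roots, 0 ≤ ip a zr → 0 ≤ ip a rr → a ∈ Eleven := by decide +kernel

/-- the double centraliser -/
def DCR (t : G) (x : E → G) : Prop :=
  ∀ g : G, g * t = t * g → (∀ a ∈ Φ, 0 ≤ ip a zr → 0 ≤ ip a rr → g * x a = x a * g) →
    ∃ τ α β, (τ = 1 ∨ τ = t) ∧ (α = 1 ∨ α = x zr) ∧ (β = 1 ∨ β = x rr) ∧ g = τ * α * β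

variable {t : G} {L : Subgroup G} {x : E → G} (X : XD t L x) {y : G} (Y : YZ t x y)

theorem cj_eq_self {g a : G} : cj g a = a ↔ g * a = a * g := by
  unfold cj; exact mul_inv_eq_iff_eq_mul

theorem Yinv (Y : YZ t x y) : y⁻¹ = y := inv_eq_of_mul_eq_one_right Y.yy

include X Y

/-- `y` centralises `Q` -/
theorem ye : ∀ S < 8, cj y (ee x S) = ee x S := by
  have hd : ∀ i, cj y (dd x i) = dd x i := fun i => cj_eq_self.2 (Y.yd i)
  have step : ∀ i r s, EPos r (al i) s → cj y (x r) = x r → cj y (x s) = x s := by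
    intro i r s h hr
    rw [← X.e_pos h, cj_cj]
    rw [show x (al i) * x (-al i) = dd x i from rfl, hd, hr]
  have h7 : cj y (x (er 7)) = x (er 7) := by
    have : er 7 = rr := by decide
    rw [this]; exact cj_eq_self.2 Y.yr
  have h6 := step 0 (er 7) (er 6) (by decide +kernel) h7
  have h5 := step 1 (er 7) (er 5) (by decide +kernel) h7
  have h3 := step 2 (er 7) (er 3) (by decide +kernel) h7
  have h4 := step 1 (er 6) (er 4) (by decide +kernel) h6
  have h2 := step 2 (er 6) (er 2) (by decide +kernel) h6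
  have h1 := step 2 (er 5) (er 1) (by decide +kernel) h5
  have h0 := step 0 (er 1) (er 0) (by decide +kernel) h1
  intro S hS
  unfold ee
  interval_cases S <;> assumption

omit Y in
theorem winv : (nn x ac)⁻¹ = nn x ac := by
  have h1 : x ac * x ac = 1 := X.x_sq ac (by decide)
  have h2 : x (-ac) * x (-ac) = 1 := X.x_sq (-ac) (by decide)
  apply inv_eq_of_mul_eq_one_right
  unfold nn
  rw [show x ac * x (-ac) * x ac * (x ac * x (-ac) * x ac) = x ac * (x (-ac) * ((x ac * x ac) * x (-ac))) * x ac by group,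
    h1, one_mul, h2, mul_one, h1]

/-- the hypothesis of the pattern -/
def One (x : E → G) (y : G) : Prop := ∀ i, y * ta x i * y⁻¹ = ta x i * x zr

omit X Y in
/-- the conjugate `x'` of `y` -/
def x1 (x : E → G) (y : G) : G := nn x ac * y * nn x ac

/-- the singletons and pairs -/
def si : Fin 3 → ℕ := ![1, 2, 4]
def pr : Fin 3 → ℕ := ![6, 5, 3]

omit X Y in
theorem cj_x1 (X : XD t L x) (a : G) : cj (x1 x y) a = cj (nn x ac) (cj y (cj (nn x ac) a)) := by
  unfold x1; rw [cj_comp, cj_comp]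

omit Y in
theorem w_t : cj (nn x ac) t = t := X.t_fix (X.nnL (by decide) (by decide))
omit Y in
theorem w_z : cj (nn x ac) (x zr) = x rr := X.n_pos (by decide +kernel)
omit Y in
theorem w_r : cj (nn x ac) (x rr) = x zr := X.n_neg (by decide +kernel)

omit X Y in
theorem nOK : ∀ i : Fin 3, NPos (er (si i)) ac (al i) ∧ NNeg (al i) ac (er (si i)) ∧
    NZero (er (pr i)) ac := by decide +kernel

omit Y in
theorem w_e (i : Fin 3) : cj (nn x ac) (ee x (si i)) = x (al i) := X.n_pos (nOK i).1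
omit Y in
theorem w_al (i : Fin 3) : cj (nn x ac) (x (al i)) = ee x (si i) := X.n_neg (nOK i).2.1
omit Y in
theorem w_pr (i : Fin 3) : cj (nn x ac) (ee x (pr i)) = ee x (pr i) := X.n_zero (nOK i).2.2

theorem y_t : cj y t = t * x zr := Y.yt
theorem y_z : cj y (x zr) = x zr := cj_eq_self.2 Y.yz
theorem y_r : cj y (x rr) = x rr := cj_eq_self.2 Y.yr
omit X Y in
theorem si_lt : ∀ i : Fin 3, si i < 8 ∧ pr i < 8 := by decide
theorem y_si (i : Fin 3) : cj y (ee x (si i)) = ee x (si i) := ye X Y _ (si_lt i).1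
theorem y_pr (i : Fin 3) : cj y (ee x (pr i)) = ee x (pr i) := ye X Y _ (si_lt i).2

omit Y in
theorem cz {s : E} (hs : s ∈ roots) (h : 0 ≤ ip zr s) : x zr * x s = x s * x zr :=
  X.x_comm zr (by decide) s hs h

theorem x1_t : cj (x1 x y) t = t * x rr := by
  rw [cj_x1 X, w_t X, y_t X Y, cj_mul, w_t X, w_z X]

theorem x1_z : cj (x1 x y) (x zr) = x zr := by
  rw [cj_x1 X, w_z X, y_r X Y, w_r X]

theorem x1_r : cj (x1 x y) (x rr) = x rr := by
  rw [cj_x1 X, w_r X, y_z X Y, w_z X]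

theorem x1_pr (i : Fin 3) : cj (x1 x y) (ee x (pr i)) = ee x (pr i) := by
  rw [cj_x1 X, w_pr X, y_pr X Y, w_pr X]

theorem x1_al (i : Fin 3) : cj (x1 x y) (x (al i)) = x (al i) := by
  rw [cj_x1 X, w_al X, y_si X Y, w_e X]

theorem x1_si (h : One x y) (i : Fin 3) : cj (x1 x y) (ee x (si i)) = ee x (si i) * x rr := by
  rw [cj_x1 X, w_e X, show cj y (x (al i)) = x (al i) * x zr from h i, cj_mul, w_al X, w_z X]

theorem x1_sq : x1 x y * x1 x y = 1 := by
  have h1 : nn x ac * nn x ac = 1 := by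
    have := winv X
    rw [inv_eq_iff_mul_eq_one] at this; exact this
  unfold x1
  rw [show nn x ac * y * nn x ac * (nn x ac * y * nn x ac) =
    nn x ac * (y * (nn x ac * nn x ac) * y) * nn x ac by group, h1, mul_one, Y.yy, mul_one, h1]

theorem x1_inv : (x1 x y)⁻¹ = x1 x y := inv_eq_of_mul_eq_one_right (x1_sq X Y)

/-! ### conjugation by `e₀ = x ac` and by `p = e₃ e₅ e₆` -/

omit X Y in
theorem e0OK : CFix zr ac ∧ CNeg rr ac zr ∧ (∀ i : Fin 3, CFix (er (si i)) ac ∧ CFix (er (pr i)) ac ∧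
    CNeg (al i) ac (er (si i))) := by decide +kernel

omit Y in
theorem e0_t : cj (x ac) t = t := X.t_fix (X.xL ac (by decide))
omit Y in
theorem e0_z : cj (x ac) (x zr) = x zr := X.fix e0OK.1
omit Y in
theorem e0_r : cj (x ac) (x rr) = x rr * x zr := X.con e0OK.2.1
omit Y in
theorem e0_si (i : Fin 3) : cj (x ac) (ee x (si i)) = ee x (si i) := X.fix (e0OK.2.2 i).1
omit Y in
theorem e0_pr (i : Fin 3) : cj (x ac) (ee x (pr i)) = ee x (pr i) := X.fix (e0OK.2.2 i).2.1
omit Y in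
theorem e0_al (i : Fin 3) : cj (x ac) (x (al i)) = x (al i) * ee x (si i) := X.con (e0OK.2.2 i).2.2

/-- the element `p` -/
def pp (x : E → G) : G := ee x 3 * ee x 5 * ee x 6

omit X Y in
theorem pOK : (∀ S ∈ [3, 5, 6], CFix zr (er S) ∧ CFix rr (er S) ∧ ∀ i : Fin 3, CFix (er (pr i)) (er S)) ∧
    (CNeg (al 0) (er 6) rr ∧ CFix (al 0) (er 5) ∧ CFix (al 0) (er 3)) ∧
    (CNeg (al 1) (er 5) rr ∧ CFix (al 1) (er 6) ∧ CFix (al 1) (er 3)) ∧
    (CNeg (al 2) (er 3) rr ∧ CFix (al 2) (er 6) ∧ CFix (al 2) (er 5)) ∧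
    (CNeg (er 1) (er 6) zr ∧ CFix (er 1) (er 5) ∧ CFix (er 1) (er 3)) ∧
    (CNeg (er 2) (er 5) zr ∧ CFix (er 2) (er 6) ∧ CFix (er 2) (er 3)) ∧
    (CNeg (er 4) (er 3) zr ∧ CFix (er 4) (er 6) ∧ CFix (er 4) (er 5)) := by decide +kernel

omit X Y in
theorem cj_pp (a : G) : cj (pp x) a = cj (ee x 3) (cj (ee x 5) (cj (ee x 6) a)) := by
  unfold pp; rw [cj_comp, cj_comp]

omit Y in
theorem p_t : cj (pp x) t = t := by
  have h : ∀ S < 8, cj (ee x S) t = t := fun S hS => X.t_fix (X.xL _ (er_mem S hS))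
  rw [cj_pp, h 6 (by norm_num), h 5 (by norm_num), h 3 (by norm_num)]

omit Y in
theorem p_z : cj (pp x) (x zr) = x zr := by
  have h := fun S hS => X.fix (pOK.1 S hS).1
  rw [cj_pp]; unfold ee
  rw [h 6 (by decide), h 5 (by decide), h 3 (by decide)]

omit Y in
theorem p_r : cj (pp x) (x rr) = x rr := by
  have h := fun S hS => X.fix (pOK.1 S hS).2.1
  rw [cj_pp]; unfold ee
  rw [h 6 (by decide), h 5 (by decide), h 3 (by decide)]

omit Y in
theorem p_pr (i : Fin 3) : cj (pp x) (ee x (pr i)) = ee x (pr i) := by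
  have h := fun S hS => X.fix ((pOK.1 S hS).2.2 i)
  rw [cj_pp]; unfold ee
  rw [h 6 (by decide), h 5 (by decide), h 3 (by decide)]

omit Y in
theorem p_al (i : Fin 3) : cj (pp x) (x (al i)) = x (al i) * x rr := by
  have hr := fun S hS => X.fix (pOK.1 S hS).2.1
  rw [cj_pp]; unfold ee
  obtain ⟨-, ⟨a1, a2, a3⟩, ⟨b1, b2, b3⟩, ⟨c1, c2, c3⟩, -⟩ := pOK
  fin_cases i
  · show cj (x (er 3)) (cj (x (er 5)) (cj (x (er 6)) (x (al 0)))) = x (al 0) * x rr
    rw [X.con a1, cj_mul, X.fix a2, hr 5 (by decide), cj_mul, X.fix a3, hr 3 (by decide)]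
  · show cj (x (er 3)) (cj (x (er 5)) (cj (x (er 6)) (x (al 1)))) = x (al 1) * x rr
    rw [X.fix b2, X.con b1, cj_mul, X.fix b3, hr 3 (by decide)]
  · show cj (x (er 3)) (cj (x (er 5)) (cj (x (er 6)) (x (al 2)))) = x (al 2) * x rr
    rw [X.fix c2, X.fix c3, X.con c1]

omit Y in
theorem p_si (i : Fin 3) : cj (pp x) (ee x (si i)) = ee x (si i) * x zr := by
  have hz := fun S hS => X.fix (pOK.1 S hS).1
  rw [cj_pp]; unfold ee
  obtain ⟨-, -, -, -, ⟨a1, a2, a3⟩, ⟨b1, b2, b3⟩, ⟨c1, c2, c3⟩⟩ := pOK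
  fin_cases i
  · show cj (x (er 3)) (cj (x (er 5)) (cj (x (er 6)) (x (er 1)))) = x (er 1) * x zr
    rw [X.con a1, cj_mul, X.fix a2, hz 5 (by decide), cj_mul, X.fix a3, hz 3 (by decide)]
  · show cj (x (er 3)) (cj (x (er 5)) (cj (x (er 6)) (x (er 2)))) = x (er 2) * x zr
    rw [X.fix b2, X.con b1, cj_mul, X.fix b3, hz 3 (by decide)]
  · show cj (x (er 3)) (cj (x (er 5)) (cj (x (er 6)) (x (er 4)))) = x (er 4) * x zr
    rw [X.fix c2, X.fix c3, X.con c1]

/-- the element `g = y x' (e₀ x' e₀) p` -/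
def gg (x : E → G) (y : G) : G := y * x1 x y * (x ac * x1 x y * x ac) * pp x

omit X Y in
theorem cj_gg (a : G) : cj (gg x y) a =
    cj y (cj (x1 x y) (cj (x ac) (cj (x1 x y) (cj (x ac) (cj (pp x) a))))) := by
  unfold gg; rw [cj_comp, cj_comp, cj_comp, cj_comp, cj_comp]

omit Y in
theorem zz2 : x zr * x zr = 1 := X.x_sq zr (by decide)
omit Y in
theorem rr2 : x rr * x rr = 1 := X.x_sq rr (by decide)
omit Y in
theorem zr_comm : x zr * x rr = x rr * x zr := X.x_comm zr (by decide) rr (by decide) (by decide)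

theorem gg_t : cj (gg x y) t = t := by
  have hz := zz2 X; have hr := rr2 X; have hc := zr_comm X
  simp only [cj_gg, cj_mul, p_t X, e0_t X, x1_t X Y, e0_r X, x1_r X Y, x1_z X Y, y_t X Y, y_r X Y, y_z X Y]
  rw [show t * x zr * x rr * (x rr * x zr) = t * (x zr * (x rr * x rr) * x zr) by group, hr, mul_one, hz, mul_one]

theorem gg_z : cj (gg x y) (x zr) = x zr := by
  rw [cj_gg, p_z X, e0_z X, x1_z X Y, e0_z X, x1_z X Y, y_z X Y]

theorem gg_r : cj (gg x y) (x rr) = x rr := by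
  have hz := zz2 X
  simp only [cj_gg, cj_mul, p_r X, e0_r X, e0_z X, x1_r X Y, x1_z X Y, y_r X Y, y_z X Y]
  rw [mul_assoc, hz, mul_one]

theorem gg_pr (i : Fin 3) : cj (gg x y) (ee x (pr i)) = ee x (pr i) := by
  rw [cj_gg, p_pr X, e0_pr X, x1_pr X Y, e0_pr X, x1_pr X Y, y_pr X Y]

theorem gg_si (h : One x y) (i : Fin 3) : cj (gg x y) (ee x (si i)) = ee x (si i) := by
  have hz := zz2 X; have hr := rr2 X; have hc := zr_comm X
  simp only [cj_gg, cj_mul, p_si X, e0_si X, e0_r X, e0_z X, x1_si X Y h, x1_r X Y, x1_z X Y, y_r X Y, y_z X Y,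
    y_si X Y]
  rw [show ee x (si i) * x rr * (x rr * x zr) * x zr = ee x (si i) * ((x rr * x rr) * (x zr * x zr)) by group,
    hz, hr, mul_one, mul_one]

omit X Y in
theorem siOK : ∀ i : Fin 3, 0 ≤ ip rr (er (si i)) ∧ 0 ≤ ip zr (er (si i)) := by decide +kernel

theorem gg_al (h : One x y) (i : Fin 3) : cj (gg x y) (x (al i)) = x (al i) := by
  have hz := zz2 X; have hr := rr2 X; have hc := zr_comm X
  have he : ee x (si i) * ee x (si i) = 1 := X.x_sq _ (er_mem _ (si_lt i).1)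
  have he2 : x rr * ee x (si i) = ee x (si i) * x rr :=
    X.x_comm rr (by decide) _ (er_mem _ (si_lt i).1) (siOK i).1
  have hze : x zr * ee x (si i) = ee x (si i) * x zr :=
    X.x_comm zr (by decide) _ (er_mem _ (si_lt i).1) (siOK i).2
  simp only [cj_gg, cj_mul, p_al X, e0_al X, e0_si X, e0_r X, e0_z X, x1_al X Y, x1_si X Y h, x1_r X Y,
    x1_z X Y, y_r X Y, y_z X Y, y_si X Y, show cj y (x (al i)) = x (al i) * x zr from h i]
  simp only [mul_assoc, lc he2, lc hze, he2, hze, sq' he, sq' hr, sq' hz, lc hc, he, hr, hz, mul_one, hc]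

theorem gg_eleven (h : One x y) : ∀ a ∈ Eleven, gg x y * x a = x a * gg x y := by
  intro a ha
  apply cj_eq_self.1
  simp only [Eleven, List.mem_cons, List.not_mem_nil, or_false] at ha
  rcases ha with rfl | rfl | rfl | rfl | rfl | rfl | rfl | rfl | rfl | rfl | rfl
  · exact gg_z X Y
  · exact gg_r X Y
  · exact gg_si X Y h 0
  · exact gg_si X Y h 1
  · exact gg_si X Y h 2
  · exact gg_pr X Y 2
  · exact gg_pr X Y 1
  · exact gg_pr X Y 0
  · exact gg_al X Y h 0
  · exact gg_al X Y h 1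
  · exact gg_al X Y h 2

theorem gg_form (hD : DCR t x) (h : One x y) : ∃ τ α β, (τ = 1 ∨ τ = t) ∧ (α = 1 ∨ α = x zr) ∧
    (β = 1 ∨ β = x rr) ∧ gg x y = τ * α * β :=
  hD _ (cj_eq_self.1 (gg_t X Y)) fun a ha h1 h2 => gg_eleven X Y h a (eleven a ha h1 h2)

/-! ### the commutator of `y` and `x'` -/

/-- the commutator -/
def cc (x : E → G) (y : G) : G := y * x1 x y * (y * x1 x y)

omit X Y in
theorem cj_cc (a : G) : cj (cc x y) a = cj y (cj (x1 x y) (cj y (cj (x1 x y) a))) := by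
  unfold cc; rw [cj_comp, cj_comp, cj_comp]

theorem cc_t : cj (cc x y) t = t := by
  have hz := zz2 X; have hr := rr2 X; have hc := zr_comm X
  simp only [cj_cc, cj_mul, x1_t X Y, x1_r X Y, x1_z X Y, y_t X Y, y_r X Y, y_z X Y]
  simp only [mul_assoc, lc hc, sq' hz, sq' hr, hr, hz, mul_one, hc]

theorem cc_eleven (h : One x y) : ∀ a ∈ Eleven, cc x y * x a = x a * cc x y := by
  have hz := zz2 X; have hr := rr2 X; have hc := zr_comm X
  have hpr : ∀ i, cj (cc x y) (ee x (pr i)) = ee x (pr i) := by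
    intro i
    rw [cj_cc, x1_pr X Y, y_pr X Y, x1_pr X Y, y_pr X Y]
  have hsi : ∀ i, cj (cc x y) (ee x (si i)) = ee x (si i) := by
    intro i
    simp only [cj_cc, cj_mul, x1_si X Y h, x1_r X Y, y_si X Y, y_r X Y, mul_assoc, hr, mul_one]
  have hal : ∀ i, cj (cc x y) (x (al i)) = x (al i) := by
    intro i
    simp only [cj_cc, cj_mul, x1_al X Y, x1_z X Y, y_z X Y,
      show cj y (x (al i)) = x (al i) * x zr from h i, mul_assoc, hz, mul_one]
  intro a ha
  apply cj_eq_self.1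
  simp only [Eleven, List.mem_cons, List.not_mem_nil, or_false] at ha
  rcases ha with rfl | rfl | rfl | rfl | rfl | rfl | rfl | rfl | rfl | rfl | rfl
  · rw [cj_cc, x1_z X Y, y_z X Y, x1_z X Y, y_z X Y]
  · rw [cj_cc, x1_r X Y, y_r X Y, x1_r X Y, y_r X Y]
  · exact hsi 0
  · exact hsi 1
  · exact hsi 2
  · exact hpr 2
  · exact hpr 1
  · exact hpr 0
  · exact hal 0
  · exact hal 1
  · exact hal 2

theorem cc_form (hD : DCR t x) (h : One x y) : ∃ τ α β, (τ = 1 ∨ τ = t) ∧ (α = 1 ∨ α = x zr) ∧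
    (β = 1 ∨ β = x rr) ∧ cc x y = τ * α * β :=
  hD _ (cj_eq_self.1 (cc_t X Y)) fun a ha h1 h2 => cc_eleven X Y h a (eleven a ha h1 h2)

omit Y in
theorem tz : t * x zr = x zr * t := X.tL _ (X.xL _ (by decide))
omit Y in
theorem tr : t * x rr = x rr * t := X.tL _ (X.xL _ (by decide))

theorem cc_inv : (cc x y)⁻¹ = x1 x y * y * (x1 x y * y) := by
  unfold cc
  rw [mul_inv_rev, mul_inv_rev, x1_inv X Y, Yinv Y]

omit Y in
theorem zr_ne : x zr ≠ x rr := by
  intro h
  have h1 := e0_r X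
  have h2 := e0_z X
  rw [← h, h2] at h1
  exact X.x_ne zr (by decide) (left_eq_mul.1 h1)

theorem cc_eq (hD : DCR t x) (h : One x y) : cc x y = 1 ∨ cc x y = x zr * x rr := by
  have hz := zz2 X; have hr := rr2 X; have hc := zr_comm X
  have htz := tz X; have htr := tr X
  have hz1 : x zr ≠ 1 := X.x_ne zr (by decide)
  have hr1 : x rr ≠ 1 := X.x_ne rr (by decide)
  have hy := Y.yy
  have hxx := x1_sq X Y
  have hww : nn x ac * nn x ac = 1 := by
    have := winv X
    rw [inv_eq_iff_mul_eq_one] at this; exact this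
  obtain ⟨τ, α, β, hτ, hα, hβ, e⟩ := cc_form X Y hD h
  have hsq : cc x y * cc x y = 1 := by
    rw [e]
    rcases hτ with rfl | rfl <;> rcases hα with rfl | rfl <;> rcases hβ with rfl | rfl <;>
      simp only [one_mul, mul_one, mul_assoc, lc hc, lc htz, lc htr, sq' hz, sq' hr, sq' X.tt, hz, hr, X.tt, htz,
        htr, hc]
  have hci : (cc x y)⁻¹ = cc x y := inv_eq_of_mul_eq_one_right hsq
  have hyc : cj y (cc x y) = cc x y := by
    have e1 : cj y (cc x y) = x1 x y * y * (x1 x y * y⁻¹) := by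
      unfold cj cc
      simp only [mul_assoc, sq' hy]
    rw [e1, Yinv Y, ← cc_inv X Y, hci]
  have hwc : cj (nn x ac) (cc x y) = cc x y := by
    have e0 : cj (nn x ac) y = x1 x y := by unfold cj x1; rw [winv X]
    have e1 : cj (nn x ac) (x1 x y) = y := by
      unfold cj x1
      rw [winv X]
      simp only [mul_assoc, sq' hww, hww, mul_one]
    have e2 : cj (nn x ac) (cc x y) = x1 x y * y * (x1 x y * y) := by
      unfold cc
      rw [cj_mul, cj_mul, e0, e1]
    rw [e2, ← cc_inv X Y, hci]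
  -- `τ = 1`
  have hτ1 : τ = 1 := by
    rcases hτ with h1 | h1
    · exact h1
    · exfalso
      have h2 : cj y (cc x y) = t * x zr * (α * β) := by
        rw [e, h1, mul_assoc, cj_mul, y_t X Y]
        congr 1
        rcases hα with rfl | rfl <;> rcases hβ with rfl | rfl <;>
          simp only [one_mul, mul_one, cj_mul, y_z X Y, y_r X Y]
        unfold cj; group
      rw [hyc, e, h1, mul_assoc t α β] at h2
      have h3 := mul_right_cancel h2
      exact hz1 (left_eq_mul.1 h3)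
  subst hτ1
  rw [one_mul] at e
  rcases hα with rfl | rfl <;> rcases hβ with rfl | rfl
  · left; rw [e, one_mul]
  · exfalso
    rw [e, one_mul, w_r X] at hwc
    have h1 := X.x_comm
    exact zr_ne X hwc
  · exfalso
    rw [e, mul_one, w_z X] at hwc
    exact zr_ne X hwc.symm
  · right; exact e

/-! ### the relation -/

omit X Y in
theorem pcOK : CFix (er 3) (er 5) ∧ CFix (er 3) (er 6) ∧ CFix (er 5) (er 6) ∧ CFix (er 3) ac ∧ CFix (er 5) ac ∧
    CFix (er 6) ac := by decide +kernel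

omit Y in
theorem cfix {r s : E} (h : CFix r s) : x r * x s = x s * x r := X.x_comm r h.1 s h.2.1 h.2.2

omit Y in
theorem pp_sq : pp x * pp x = 1 := by
  obtain ⟨h1, h2, h3, -⟩ := pcOK
  have a1 : x (er 3) * x (er 5) = x (er 5) * x (er 3) := cfix X h1
  have a2 : x (er 3) * x (er 6) = x (er 6) * x (er 3) := cfix X h2
  have a3 : x (er 5) * x (er 6) = x (er 6) * x (er 5) := cfix X h3
  have s3 : x (er 3) * x (er 3) = 1 := X.x_sq _ (er_mem 3 (by norm_num))
  have s5 : x (er 5) * x (er 5) = 1 := X.x_sq _ (er_mem 5 (by norm_num))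
  have s6 : x (er 6) * x (er 6) = 1 := X.x_sq _ (er_mem 6 (by norm_num))
  unfold pp ee
  simp only [mul_assoc, lc a1, lc a2, lc a3, a1, a2, a3, sq' s3, sq' s5, sq' s6, s3, s5, s6, mul_one]

omit Y in
theorem pp_comm {a : G} (ha : ∀ S ∈ [3, 5, 6], x (er S) * a = a * x (er S)) : pp x * a = a * pp x := by
  unfold pp ee
  rw [mul_assoc, ha 6 (by decide), ← mul_assoc, mul_assoc (x (er 3)), ha 5 (by decide), ← mul_assoc (x (er 3)),
    ha 3 (by decide)]
  group

omit Y in
theorem pp_e0 : pp x * x ac = x ac * pp x := by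
  obtain ⟨-, -, -, h1, h2, h3⟩ := pcOK
  apply pp_comm X
  intro S hS
  simp only [List.mem_cons, List.not_mem_nil, or_false] at hS
  rcases hS with rfl | rfl | rfl
  · exact cfix X h1
  · exact cfix X h2
  · exact cfix X h3

omit Y in
theorem pp_z : pp x * x zr = x zr * pp x := cj_eq_self.1 (p_z X)
omit Y in
theorem pp_r : pp x * x rr = x rr * pp x := cj_eq_self.1 (p_r X)
omit Y in
theorem pp_t : pp x * t = t * pp x := cj_eq_self.1 (p_t X)

theorem y_pp : y * pp x = pp x * y := by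
  have h := ye X Y
  apply cj_eq_self.1
  unfold pp
  rw [cj_mul, cj_mul, h 3 (by norm_num), h 5 (by norm_num), h 6 (by norm_num)]

theorem y_e0 : y * x ac = x ac * y := by
  have h := ye X Y 0 (by norm_num)
  apply cj_eq_self.1
  have e : er 0 = ac := by decide
  unfold ee at h
  rwa [e] at h

/-- `x' e₀ x' = y g p e₀` -/
theorem rel : x1 x y * x ac * x1 x y = y * gg x y * pp x * x ac := by
  have h1 := pp_sq X
  have h2 : x ac * x ac = 1 := X.x_sq ac (by decide)
  unfold gg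
  simp only [mul_assoc, sq' Y.yy, sq' h1, h2, mul_one]

omit Y in
theorem e0r : x ac * x rr = x rr * x zr * x ac := by
  have h := e0_r X
  unfold cj at h
  rw [mul_inv_eq_iff_eq_mul] at h
  exact h

omit Y in
theorem re0r : x rr * x ac * x rr = x ac * x zr := by
  have h := e0r X
  have hz := zz2 X; have hr := rr2 X
  have hzc : x zr * x ac = x ac * x zr := (cj_eq_self.1 (e0_z X)).symm
  rw [mul_assoc, h]
  simp only [mul_assoc, sq' hr, hzc]

theorem main (hD : DCR t x) (h : One x y) :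
    (cc x y = 1 ∧ ∃ α, (α = 1 ∨ α = x zr) ∧ x1 x y * x ac * x1 x y = y * α * pp x * x ac) ∨
    (cc x y = x zr * x rr ∧ ∃ α, (α = 1 ∨ α = x zr) ∧
      x1 x y * x ac * x1 x y = y * t * α * x rr * pp x * x ac) := by
  have hz := zz2 X; have hr := rr2 X; have hc := zr_comm X
  have htz := tz X; have htr := tr X
  have hz1 : x zr ≠ 1 := X.x_ne zr (by decide)
  have hy := Y.yy
  have hxx := x1_sq X Y
  have hE : x ac * x ac = 1 := X.x_sq ac (by decide)
  have hP := pp_sq X
  have hPE := pp_e0 X; have hPz := pp_z X; have hPr := pp_r X; have hPt := pp_t X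
  have hyP := y_pp X Y; have hyE := y_e0 X Y
  have hzE : x zr * x ac = x ac * x zr := (cj_eq_self.1 (e0_z X)).symm
  have htE : t * x ac = x ac * t := X.tL _ (X.xL _ (by decide))
  have hrEr := re0r X
  have hyz := Y.yz
  have hyr := Y.yr
  have hyt : y * t = t * x zr * y := by
    have := Y.yt
    rwa [mul_inv_eq_iff_eq_mul] at this
  obtain ⟨τ, α, β, hτ, hα, hβ, e⟩ := gg_form X Y hD h
  have hrel := rel X Y
  -- the square
  have hsq : (y * gg x y * pp x * x ac) * (y * gg x y * pp x * x ac) = 1 := by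
    rw [← hrel]
    simp only [mul_assoc, sq' hxx, sq' hE, hxx]
  -- conjugation by `y`
  have hyx : y * x1 x y = cc x y * (x1 x y * y) := by
    unfold cc
    simp only [mul_assoc, sq' hxx, hy, mul_one]
  have hconj : y * (y * gg x y * pp x * x ac) * y = cc x y * (y * gg x y * pp x * x ac) * (cc x y)⁻¹ := by
    rw [← hrel]
    have h1 : y * (x1 x y * x ac * x1 x y) * y = (y * x1 x y) * x ac * (y * x1 x y)⁻¹ := by
      rw [mul_inv_rev, x1_inv X Y, Yinv Y]; group
    rw [h1, hyx, mul_inv_rev, mul_inv_rev, x1_inv X Y, Yinv Y]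
    have h2 : cc x y * (x1 x y * y) * x ac * (y * x1 x y * (cc x y)⁻¹) =
      cc x y * (x1 x y * (y * x ac * y) * x1 x y) * (cc x y)⁻¹ := by group
    rw [h2, hyE, mul_assoc (x ac), hy, mul_one]
  have hcc := cc_eq X Y hD h
  have hci : (cc x y)⁻¹ = cc x y := by
    rcases hcc with h1 | h1 <;> rw [h1]
    · exact inv_one
    · apply inv_eq_of_mul_eq_one_right
      simp only [mul_assoc, lc hc, sq' hz, sq' hr, hz, hr]
  rw [hci] at hconj
  -- normal form: order `t, Z, y, R, E, P`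
  have hZt : x zr * t = t * x zr := htz.symm
  have hyZ : y * x zr = x zr * y := hyz
  have hRt : x rr * t = t * x rr := htr.symm
  have hRZ : x rr * x zr = x zr * x rr := hc.symm
  have hRy : x rr * y = y * x rr := hyr.symm
  have hEt : x ac * t = t * x ac := htE.symm
  have hEZ : x ac * x zr = x zr * x ac := hzE.symm
  have hEy : x ac * y = y * x ac := hyE.symm
  have hER : x ac * x rr = x zr * (x rr * x ac) := by rw [e0r X, ← hc, mul_assoc]
  have hPy : pp x * y = y * pp x := hyP.symm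
  have hyt' : y * t = t * (x zr * y) := by rw [hyt, mul_assoc]
  have lyt : ∀ u, y * (t * u) = t * (x zr * (y * u)) := fun u => by
    rw [← mul_assoc, hyt]; simp only [mul_assoc]
  have lER : ∀ u, x ac * (x rr * u) = x zr * (x rr * (x ac * u)) := fun u => by
    rw [← mul_assoc, hER]; simp only [mul_assoc]
  have htt := X.tt
  have nf : ∀ {u v : G}, u = v → u = v := fun h => h
  rcases hcc with h1 | h1
  · left
    refine ⟨h1, α, hα, ?_⟩
    rw [h1, one_mul, mul_one] at hconj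
    rcases hτ with rfl | rfl
    · rcases hβ with rfl | rfl
      · rw [hrel, e, one_mul, mul_one]
      · exfalso
        rw [e] at hsq
        rcases hα with rfl | rfl <;>
        · simp only [mul_assoc, one_mul, mul_one, lc hZt, lc hyZ, lc hRt, lc hRZ, lc hRy, lc hEt, lc hEZ, lc hEy,
            lER, lyt, lc hPy, lc hPt, lc hPz, lc hPr, lc hPE, hZt, hyZ, hRt, hRZ, hRy, hEt, hEZ, hEy, hER, hyt',
            hPy, hPt, hPz, hPr, hPE, sq' hz, sq' hr, sq' hy, sq' hE, sq' hP, sq' htt, hz, hr, hy, hE, hP, htt] at hsq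
          exact hz1 hsq
    · exfalso
      rw [e] at hconj
      rcases hα with rfl | rfl <;> rcases hβ with rfl | rfl <;>
      · simp only [mul_assoc, one_mul, mul_one, lc hZt, lc hyZ, lc hRt, lc hRZ, lc hRy, lc hEt, lc hEZ, lc hEy,
          lER, lyt, lc hPy, lc hPt, lc hPz, lc hPr, lc hPE, hZt, hyZ, hRt, hRZ, hRy, hEt, hEZ, hEy, hER, hyt',
          hPy, hPt, hPz, hPr, hPE, sq' hz, sq' hr, sq' hy, sq' hE, sq' hP, sq' htt, hz, hr, hy, hE, hP, htt] at hconj
        have := mul_left_cancel hconj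
        first
        | exact hz1 (left_eq_mul.1 this)
        | exact hz1 (right_eq_mul.1 this)
        | exact hz1 (mul_eq_right.1 this)
        | exact hz1 (mul_eq_left.1 this)
        | exact hz1 (mul_eq_right.1 this.symm)
  · right
    refine ⟨h1, α, hα, ?_⟩
    rw [h1] at hconj
    rcases hτ with rfl | rfl
    · exfalso
      rw [e] at hconj
      rcases hα with rfl | rfl <;> rcases hβ with rfl | rfl <;>
      · simp only [mul_assoc, one_mul, mul_one, lc hZt, lc hyZ, lc hRt, lc hRZ, lc hRy, lc hEt, lc hEZ, lc hEy,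
          lER, lyt, lc hPy, lc hPt, lc hPz, lc hPr, lc hPE, hZt, hyZ, hRt, hRZ, hRy, hEt, hEZ, hEy, hER, hyt',
          hPy, hPt, hPz, hPr, hPE, sq' hz, sq' hr, sq' hy, sq' hE, sq' hP, sq' htt, hz, hr, hy, hE, hP, htt] at hconj
        first
        | exact hz1 (mul_eq_right.1 hconj)
        | exact hz1 (mul_eq_right.1 hconj.symm)
    · rcases hβ with rfl | rfl
      · exfalso
        rw [e] at hsq
        rcases hα with rfl | rfl <;>
        · simp only [mul_assoc, one_mul, mul_one, lc hZt, lc hyZ, lc hRt, lc hRZ, lc hRy, lc hEt, lc hEZ, lc hEy,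
            lER, lyt, lc hPy, lc hPt, lc hPz, lc hPr, lc hPE, hZt, hyZ, hRt, hRZ, hRy, hEt, hEZ, hEy, hER, hyt',
            hPy, hPt, hPz, hPr, hPE, sq' hz, sq' hr, sq' hy, sq' hE, sq' hP, sq' htt, hz, hr, hy, hE, hP, htt] at hsq
          exact hz1 hsq
      · rw [hrel, e]
        simp only [mul_assoc]

end Cfsg.Agent.StdO8.InstRel
end

-- part: StdO8/NotRoot
section
/-!
# The product of three (four) root elements is not conjugate to a root element (S1734, `L = Ω₈⁺(2)`)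
-/

set_option autoImplicit false
set_option linter.all false

namespace Cfsg.Agent.StdO8.NotRoot

open Cfsg.Agent.StdO8.Model (V q B X O8 Om)
open Cfsg.Agent.StdO8.D4Root (E ip roots Φ)
open Cfsg.Agent.StdO8.Frame (Ctx)
open Cfsg.Agent.StdO8.Bas Cfsg.Agent.StdO8.DataOf Cfsg.Agent.StdO8.DoubRoot Cfsg.Agent.StdO8.InstRel

/-- the displacements of a root element are singular -/
theorem disp {c : V ≃ₗ[ZMod 2] V} (hc : Root.IsRoot c) (v : Dc.V) : Dc.q (th c v + v) = 0 := by
  obtain ⟨u, w, hu, hw, huw, -, -, -, rfl⟩ := hc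
  rw [th_X hu hw huw]
  have hu' : Dc.q (toD u) = 0 := by rw [q_toD, hu]
  have hw' : Dc.q (toD w) = 0 := by rw [q_toD, hw]
  have huw' : Dc.B (toD u) (toD w) = 0 := by rw [B_toD, huw]
  have h2 : v + v = 0 := by
    funext k
    exact (by decide : ∀ a : ZMod 2, a + a = 0) _
  have h3 : Dc.Xf (toD u) (toD w) v + v = Dc.B v (toD w) • toD u + Dc.B v (toD u) • toD w := by
    unfold Dc.Xf
    calc v + Dc.B v (toD w) • toD u + Dc.B v (toD u) • toD w + v
        = (v + v) + (Dc.B v (toD w) • toD u + Dc.B v (toD u) • toD w) := by abel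
      _ = _ := by rw [h2, zero_add]
  rw [h3, Dc.q_add, Dc.B_smul_left, Dc.B_smul_right, huw', mul_zero, mul_zero, add_zero]
  have h4 : ∀ (a : ZMod 2) (x : Dc.V), Dc.q x = 0 → Dc.q (a • x) = 0 := by
    intro a x hx
    rcases Dc.zmod_cases a with rfl | rfl
    · rw [zero_smul]; rfl
    · rw [one_smul, hx]
  rw [h4 _ _ hu', h4 _ _ hw', add_zero]

theorem isRoot_xb {i j : Fin 8} (h : ok i j) : Root.IsRoot (xb i j) := by
  refine ⟨bv i, bv j, q_bv i, q_bv j, B_ok h, bv_ne i, bv_ne j, ?_, rfl⟩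
  intro e
  have h1 : B (bv i) (bv (i + 4)) = 1 := by rw [B_bv, if_pos rfl]
  rw [e, B_bv] at h1
  by_cases h2 : i + 4 = j + 4
  · exact h.1 (add_right_cancel h2).symm
  · rw [if_neg h2] at h1
    exact absurd h1 (by decide)

theorem xO_ac : xO ac = xb 1 6 := by
  have h : ac = wt 1 + wt 6 := by decide
  rw [h, xO_wt (by decide)]
theorem xO_er1 : xO (er 1) = xb 0 6 := by
  have h : er 1 = wt 0 + wt 6 := by decide
  rw [h, xO_wt (by decide)]
theorem xO_er3 : xO (er 3) = xb 0 7 := by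
  have h : er 3 = wt 0 + wt 7 := by decide
  rw [h, xO_wt (by decide)]
theorem xO_er5 : xO (er 5) = xb 0 3 := by
  have h : er 5 = wt 0 + wt 3 := by decide
  rw [h, xO_wt (by decide)]
theorem xO_zr : xO zr = xb 0 1 := by
  have h : zr = wt 0 + wt 1 := by decide
  rw [h, xO_wt (by decide)]

theorem not_root : ¬ Root.IsRoot ((xm (er 1) * xm (er 3) * xm (er 5) : Om) : V ≃ₗ[ZMod 2] V) := by
  intro h
  have h1 := disp h (Dc.b 4)
  have h2 : ((xm (er 1) * xm (er 3) * xm (er 5) : Om) : V ≃ₗ[ZMod 2] V) = xb 0 6 * xb 0 7 * xb 0 3 := by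
    simp only [← xO_er1, ← xO_er3, ← xO_er5]
    rfl
  rw [h2, th_mul, th_mul, th_xb (by decide), th_xb (by decide), th_xb (by decide)] at h1
  revert h1
  decide

theorem not_root' : ¬ Root.IsRoot ((xm (er 1) * xm (er 3) * xm (er 5) * xm zr : Om) : V ≃ₗ[ZMod 2] V) := by
  intro h
  have h1 := disp h (Dc.b 4)
  have h2 : ((xm (er 1) * xm (er 3) * xm (er 5) * xm zr : Om) : V ≃ₗ[ZMod 2] V) =
      xb 0 6 * xb 0 7 * xb 0 3 * xb 0 1 := by
    simp only [← xO_er1, ← xO_er3, ← xO_er5, ← xO_zr]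
    rfl
  rw [h2, th_mul, th_mul, th_mul, th_xb (by decide), th_xb (by decide), th_xb (by decide), th_xb (by decide)] at h1
  revert h1
  decide

theorem nr {G : Type*} [Group G] (C : Ctx G) : ∀ g, g * C.t = C.t * g →
    g⁻¹ * x C ac * g ≠ x C (er 1) * x C (er 3) * x C (er 5) ∧
    g⁻¹ * x C ac * g ≠ x C (er 1) * x C (er 3) * x C (er 5) * x C zr := by
  intro g hg
  have hg' : Commute g⁻¹ C.t := (show Commute g C.t from hg).inv_left
  obtain ⟨α, hα⟩ := C.norm g⁻¹ hg'
  have h1 : g⁻¹ * x C ac * g = C.r (α (xm ac)) := by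
    rw [← hα, inv_inv]
    rfl
  have h2 : Root.IsRoot ((α (xm ac) : Om) : V ≃ₗ[ZMod 2] V) := by
    apply Root.isRoot_map
    change Root.IsRoot (xO ac)
    rw [xO_ac]
    exact isRoot_xb (by decide)
  constructor
  · intro h
    rw [h1] at h
    have h3 : α (xm ac) = xm (er 1) * xm (er 3) * xm (er 5) := by
      apply C.inj
      simp only [h, map_mul, map_mul]
      rfl
    rw [h3] at h2
    exact not_root h2
  · intro h
    rw [h1] at h
    have h3 : α (xm ac) = xm (er 1) * xm (er 3) * xm (er 5) * xm zr := by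
      apply C.inj
      simp only [h, map_mul, map_mul, map_mul]
      rfl
    rw [h3] at h2
    exact not_root' h2

end Cfsg.Agent.StdO8.NotRoot
end

-- part: StdO8/DoubSwap
section
/-!
# Fusion of `t` and `tz` in a simple group (S1734, `Ω₈⁺(2)`)

`T` a Sylow 2-subgroup of `C(t)`, `L ⊴ C(t)`, `[T, T] ≤ L`, `t ∉ L`, the involutions of `Z(T)` are
`t, z, tz`, `z ∈ L` a commutator of `C(z)`. If `G` has no nontrivial abelian quotient, then some `g` centralises
`z` and maps `t` to `tz`.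
-/

set_option autoImplicit false
set_option linter.all false

namespace Cfsg.Agent.StdO8.DoubSwap

open Subgroup Cfsg.Agent.OddHalf.TR Cfsg.Agent.OddHalf.D9.TransferGen

universe u

variable {G : Type u} [Group G]

/-- the hypotheses -/
structure Sw (t z : G) (L T : Subgroup G) : Prop where
  tt : t * t = 1
  zz : z * z = 1
  z1 : z ≠ 1
  t_notMem : t ∉ L
  zL : z ∈ L
  nL : ∀ g, g * t = t * g → ∀ l ∈ L, g * l * g⁻¹ ∈ L
  /-- `z` is a commutator in `C(z)` -/
  zcomm : ∃ a b, a * z = z * a ∧ b * z = z * b ∧ z = a * b * a⁻¹ * b⁻¹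
  pT : IsPGroup 2 T
  tT : t ∈ T
  tc : ∀ x ∈ T, x * t = t * x
  zT : z ∈ T
  zc : ∀ x ∈ T, x * z = z * x
  max : ∀ P : Subgroup G, IsPGroup 2 P → T ≤ P → (∀ x ∈ P, x * t = t * x) → P ≤ T
  om : ∀ y ∈ T, (∀ x ∈ T, x * y = y * x) → y * y = 1 → y = 1 ∨ y = t ∨ y = z ∨ y = t * z
  hTL : ∀ a ∈ T, ∀ b ∈ T, a * b * a⁻¹ * b⁻¹ ∈ L

namespace Sw

variable {t z : G} {L T : Subgroup G}

theorem normal (h : Sw t z L T) : (L.subgroupOf T).Normal := by
  refine ⟨fun l hl g => ?_⟩
  rw [mem_subgroupOf] at hl ⊢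
  exact h.nL g (h.tc g g.2) l hl

/-- the abelian group `T / (T ∩ L)` -/
theorem exists_hom (h : Sw t z L T) : ∃ (A : Type u) (_ : CommGroup A) (φ : T →* A),
    (∀ g, φ g = 1 ↔ (g : G) ∈ L) := by
  have := h.normal
  refine ⟨T ⧸ L.subgroupOf T, { (inferInstance : Group (T ⧸ L.subgroupOf T)) with
    mul_comm := ?_ }, QuotientGroup.mk' _, ?_⟩
  · intro a b
    obtain ⟨a, rfl⟩ := QuotientGroup.mk_surjective a
    obtain ⟨b, rfl⟩ := QuotientGroup.mk_surjective b
    change ((a * b : T) : T ⧸ L.subgroupOf T) = ((b * a : T) : T ⧸ L.subgroupOf T)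
    rw [QuotientGroup.eq, mem_subgroupOf]
    have := h.hTL (b⁻¹ : T) (b⁻¹ : T).2 (a⁻¹ : T) (a⁻¹ : T).2
    have e : (((a * b)⁻¹ * (b * a) : T) : G) = (b⁻¹ : G) * (a⁻¹ : G) * (b⁻¹ : G)⁻¹ * (a⁻¹ : G)⁻¹ := by
      push_cast
      group
    rw [e]
    exact this
  · intro g
    have := h.normal
    change (QuotientGroup.mk' (L.subgroupOf T)) g = 1 ↔ _
    rw [QuotientGroup.mk'_apply, QuotientGroup.eq_one_iff, mem_subgroupOf]

variable [Finite G]

/-- `T` as a Sylow subgroup of the centralizer -/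
theorem odd_index (h : Sw t z L T) :
    ¬ 2 ∣ (T.subgroupOf (centralizer ({t} : Set G))).index := by
  set C : Subgroup G := centralizer ({t} : Set G) with hC
  have hTC : T ≤ C := fun x hx => mem_centralizer_singleton_iff.2 (h.tc x hx)
  let TS : Sylow 2 C :=
    { toSubgroup := T.subgroupOf C
      isPGroup' := h.pT.comap_of_injective C.subtype C.subtype_injective
      is_maximal' := by
        intro R hR hle
        apply le_antisymm _ hle
        have h1 : R.map C.subtype ≤ T := by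
          apply h.max
          · exact hR.map C.subtype
          · intro y hy
            exact ⟨⟨y, hTC hy⟩, hle (by exact hy), rfl⟩
          · rintro _ ⟨y, -, rfl⟩
            exact mem_centralizer_singleton_iff.1 y.2
        intro y hy
        exact h1 ⟨y, hy, rfl⟩ }
  exact TS.not_dvd_index

/-- `z` is not conjugate to `t`. -/
theorem not_conj (h : Sw t z L T) (g : G) : g * t * g⁻¹ ≠ z := by
  intro hg
  obtain ⟨A, hA, φ, hφ⟩ := h.exists_hom
  set C : Subgroup G := centralizer ({t} : Set G) with hC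
  have hTC : T ≤ C := fun x hx => mem_centralizer_singleton_iff.2 (h.tc x hx)
  let ψ : T.subgroupOf C →* A := φ.comp (subgroupOfEquivOfLe hTC).toMonoidHom
  let tC : C := ⟨t, hTC h.tT⟩
  have hcen : ∀ (k : ℕ) (g₀ : C), g₀⁻¹ * tC ^ k * g₀ = tC ^ k := by
    intro k g₀
    have h1 : Commute g₀ tC := by
      apply Subtype.ext
      exact mem_centralizer_singleton_iff.1 g₀.2
    have h2 : Commute g₀ (tC ^ k) := h1.pow_right k
    rw [mul_assoc, ← h2.eq, inv_mul_cancel_left]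
  have hfi : (T.subgroupOf C).FiniteIndex := inferInstance
  have h1 := MonoidHom.transfer_eq_pow ψ tC (fun k g₀ _ => hcen k g₀)
  -- the value
  have hodd : Odd (T.subgroupOf C).index := by
    rw [← Nat.not_even_iff_odd, even_iff_two_dvd]; exact h.odd_index
  have htC : tC * tC = 1 := Subtype.ext h.tt
  have hpow : tC ^ (T.subgroupOf C).index = tC := by
    obtain ⟨k, hk⟩ := hodd
    rw [hk, pow_succ, pow_mul, pow_two, htC, one_pow, one_mul]
  have hne : MonoidHom.transfer ψ tC ≠ 1 := by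
    rw [h1]
    intro h2
    have h3 : φ ⟨t, h.tT⟩ = 1 := by
      rw [← h2]
      change _ = φ (subgroupOfEquivOfLe hTC _)
      congr 1
      apply Subtype.ext
      change t = ((tC ^ (T.subgroupOf C).index : C) : G)
      rw [hpow]
    exact h.t_notMem ((hφ _).1 h3)
  apply hne
  obtain ⟨a, b, ha, hb, hab⟩ := h.zcomm
  have hback : t = g⁻¹ * z * g := by rw [← hg]; group
  have ha' : g⁻¹ * a * g ∈ C := by
    rw [hC, mem_centralizer_singleton_iff, hback]
    calc g⁻¹ * a * g * (g⁻¹ * z * g) = g⁻¹ * (a * z) * g := by group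
      _ = g⁻¹ * (z * a) * g := by rw [ha]
      _ = g⁻¹ * z * g * (g⁻¹ * a * g) := by group
  have hb' : g⁻¹ * b * g ∈ C := by
    rw [hC, mem_centralizer_singleton_iff, hback]
    calc g⁻¹ * b * g * (g⁻¹ * z * g) = g⁻¹ * (b * z) * g := by group
      _ = g⁻¹ * (z * b) * g := by rw [hb]
      _ = g⁻¹ * z * g * (g⁻¹ * b * g) := by group
  have htab : tC = ⟨_, ha'⟩ * ⟨_, hb'⟩ * (⟨_, ha'⟩ : C)⁻¹ * (⟨_, hb'⟩ : C)⁻¹ := by
    apply Subtype.ext
    change t = g⁻¹ * a * g * (g⁻¹ * b * g) * (g⁻¹ * a * g)⁻¹ * (g⁻¹ * b * g)⁻¹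
    rw [hback, hab]
    group
  rw [htab, map_mul, map_mul, map_mul, map_inv, map_inv]
  rw [mul_inv_cancel_comm, mul_inv_cancel]

theorem frame (h : Sw t z L T) : Frame t z T where
  tt := h.tt
  zz := h.zz
  t1 := fun e => h.t_notMem (by rw [e]; exact one_mem _)
  z1 := h.z1
  ne := fun e => h.t_notMem (by rw [← e]; exact h.zL)
  pT := h.pT
  tT := h.tT
  tc := h.tc
  zT := h.zT
  zc := h.zc
  max := h.max
  om := h.om
  iso := by
    intro g h1 h2
    rcases h2 with h2 | h2 | h2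
    · exfalso
      apply h.not_conj g⁻¹
      rw [← h2]; group
    · exact h2
    · exfalso
      rcases h1 with h1 | h1 | h1
      · have h3 : g * z * g⁻¹ ∈ L := by
          apply h.nL g (mul_inv_eq_iff_eq_mul.1 h1) z h.zL
        rw [h2] at h3
        apply h.t_notMem
        have : t = t * z * z⁻¹ := by group
        rw [this]
        exact L.mul_mem h3 (L.inv_mem h.zL)
      · exact h.not_conj g h1
      · have h3 : t = z := Frame.conj_inj (h1.trans h2.symm)
        exact h.t_notMem (by rw [h3]; exact h.zL)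

/-- `T` is not a Sylow subgroup of `G`. -/
theorem not_sylow (h : Sw t z L T) (hG : ∀ (A : Type u) [CommGroup A] (f : G →* A) (u : G), f u = 1)
    (S : Sylow 2 G) : (S : Subgroup G) ≠ T := by
  classical
  intro hST
  obtain ⟨A, hA, φ, hφ⟩ := h.exists_hom
  have : Fintype (G ⧸ T) := Fintype.ofFinite _
  have F := h.frame
  have ht2 : t ^ 2 = 1 := by rw [pow_two, h.tt]
  have hord : orderOf t = 2 := orderOf_eq_prime ht2 F.t1
  have h1 := transfer_eq_D T φ t (by
    intro k hk hk1 g hg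
    rw [hord] at hk
    have hk2 : k = 2 := by
      rcases (Nat.dvd_prime Nat.prime_two).1 hk with h | h
      · exact absurd h hk1
      · exact h
    subst hk2
    rw [hφ]
    change g⁻¹ * t ^ 2 * g ∈ L
    rw [ht2]
    have : g⁻¹ * 1 * g = 1 := by group
    rw [this]
    exact one_mem _) T h.pT h.tT h.tc
  rw [hG] at h1
  -- the values
  have hval : ∀ q ∈ Finset.univ.filter (fun q : G ⧸ T => ∀ d ∈ T, d • q = q), val T φ t q = φ ⟨t, h.tT⟩ := by
    intro q hq
    have hq' := (Finset.mem_filter.1 hq).2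
    obtain ⟨g, rfl⟩ := QuotientGroup.mk_surjective q
    have hg : ∀ d ∈ T, g⁻¹ * d * g ∈ T := fun d hd => (smul_mk_eq T d g).1 (hq' d hd)
    have hgN : g⁻¹ ∈ normalizer (T : Set G) := by
      apply mem_normalizer_fintype
      intro d hd
      have := hg d hd
      rwa [inv_inv]
    rw [val_mk T φ t g (hg t h.tT)]
    obtain ⟨-, h2⟩ := F.act hgN
    rw [inv_inv] at h2
    have h3 : (φ ⟨t, h.tT⟩)⁻¹ * φ ⟨g⁻¹ * t * g, hg t h.tT⟩ = 1 := by
      rw [← map_inv, ← map_mul, hφ]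
      change t⁻¹ * (g⁻¹ * t * g) ∈ L
      rcases h2 with h2 | h2 <;> rw [h2]
      · rw [inv_mul_cancel]; exact one_mem _
      · rw [inv_mul_cancel_left]; exact h.zL
    rw [inv_mul_eq_one] at h3
    exact h3.symm
  rw [Finset.prod_congr rfl hval, Finset.prod_const] at h1
  -- the number of fixed cosets is odd
  have hcard : Odd (Finset.univ.filter (fun q : G ⧸ T => ∀ d ∈ T, d • q = q)).card := by
    have h2 := h.pT.card_modEq_card_fixedPoints (G ⧸ T)
    have h3 : Nat.card (MulAction.fixedPoints T (G ⧸ T)) =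
        (Finset.univ.filter (fun q : G ⧸ T => ∀ d ∈ T, d • q = q)).card := by
      rw [← Fintype.card_subtype, ← Nat.card_eq_fintype_card]
      refine Nat.card_congr (Equiv.subtypeEquivRight fun q => ?_)
      exact ⟨fun hq d hd => hq ⟨d, hd⟩, fun hq d => hq d d.2⟩
    rw [h3] at h2
    have h4 : ¬ 2 ∣ T.index := by
      rw [← hST]
      exact S.not_dvd_index
    have h5 : Nat.card (G ⧸ T) = T.index := rfl
    rw [h5] at h2
    rw [Nat.odd_iff]
    have h6 : T.index % 2 = 1 := by omega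
    unfold Nat.ModEq at h2
    omega
  obtain ⟨k, hk⟩ := hcard
  have h2 : φ ⟨t, h.tT⟩ * φ ⟨t, h.tT⟩ = 1 := by
    rw [← map_mul, hφ]
    change t * t ∈ L
    rw [h.tt]
    exact one_mem _
  rw [hk, pow_succ, pow_mul, pow_two, h2, one_pow, one_mul] at h1
  exact h.t_notMem ((hφ _).1 h1.symm)

/-- **Step (1).** -/
theorem exists_swap (h : Sw t z L T) (hG : ∀ (A : Type u) [CommGroup A] (f : G →* A) (u : G), f u = 1) :
    ∃ g : G, g * z * g⁻¹ = z ∧ g * t * g⁻¹ = t * z := by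
  obtain ⟨S, hS⟩ := h.pT.exists_le_sylow
  obtain ⟨x, -, -, -, h1, h2⟩ := h.frame.exists_swap S (lt_of_le_of_ne hS (h.not_sylow hG S).symm)
  exact ⟨x, h2, h1⟩

/-- In a nonabelian simple group. -/
theorem hom_eq_one {G : Type u} [Group G] [IsSimpleGroup G] (hG : ¬ IsMulCommutative G) (A : Type u)
    [CommGroup A] (f : G →* A) (u : G) : f u = 1 := by
  rcases (inferInstance : f.ker.Normal).eq_bot_or_eq_top with h | h
  · exfalso
    apply hG
    refine ⟨⟨fun a b => ?_⟩⟩
    have hinj := (MonoidHom.ker_eq_bot_iff f).1 h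
    apply hinj
    rw [map_mul, map_mul, mul_comm]
  · have : u ∈ f.ker := by rw [h]; exact mem_top _
    exact this

end Sw

end Cfsg.Agent.StdO8.DoubSwap
end

-- part: StdO8/ShadowAct
section
/-!
# The matrices of the generators
-/

set_option autoImplicit false

namespace Cfsg.Agent.StdO8.Shadow

universe u

variable {G : Type u} [Group G] {t x z x' : G} {e s n : ℕ → G}

theorem E.symm' {z a b : G} (zz : z * z = 1) (h : E z a b) : E z b a := by
  rcases h with h | h
  · exact Or.inl h.symm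
  · right; rw [h, mul_assoc, zz, mul_one]

theorem E.trans' {z a b c : G} (zz : z * z = 1) (h : E z a b) (h' : E z b c) : E z a c := by
  rcases h with rfl | rfl <;> rcases h' with rfl | rfl
  · exact Or.inl rfl
  · exact Or.inr rfl
  · exact Or.inr rfl
  · left; rw [mul_assoc, zz, mul_one]

/-- The list in `G`. -/
abbrev LG (t x : G) (e : ℕ → G) : List G := [t, x, e 0, e 1, e 2, e 3, e 4, e 5, e 6, e 7]

theorem Base.coe_ph (B : Base t x z e s n x') (v : ℕ) :
    ((ph (WL B.wC) v : Cz z) : G) = ph (LG t x e) v := by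
  have := map_ph (Cz z).subtype (WL B.wC) v
  exact this

theorem Base.act_iff (B : Base t x z e s n x') {g : Cz z} {m : List ℕ} :
    Act (piz z) B.wC g m ↔ List.Forall₂ (fun a b => E z ((g : G)⁻¹ * a * g) (ph (LG t x e) b)) (LG t x e) m := by
  have key : ∀ (a : Cz z) (b : ℕ), ((piz z g)⁻¹ * piz z a * piz z g = ph (WB (piz z) B.wC) b) ↔
      E z ((g : G)⁻¹ * a * g) (ph (LG t x e) b) := by
    intro a b
    have h1 : ph (WB (piz z) B.wC) b = piz z (ph (WL B.wC) b) := (map_ph _ _ _).symm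
    rw [h1, ← map_inv, ← map_mul, ← map_mul, (quo B.zz).eq_iff, ← B.coe_ph]
    constructor
    · rintro (h | h)
      · exact Or.inl (congrArg Subtype.val h)
      · exact Or.inr (congrArg Subtype.val h)
    · rintro (h | h)
      · exact Or.inl (Subtype.ext h)
      · exact Or.inr (Subtype.ext h)
  unfold Act ActH
  constructor
  · intro h
    unfold WB at h
    rw [List.forall₂_map_left_iff] at h
    have h2 : LG t x e = (WL B.wC).map Subtype.val := rfl
    rw [h2, List.forall₂_map_left_iff]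
    exact h.imp (fun a b hab => (key a b).1 hab)
  · intro h
    unfold WB
    rw [List.forall₂_map_left_iff]
    have h2 : LG t x e = (WL B.wC).map Subtype.val := rfl
    rw [h2, List.forall₂_map_left_iff] at h
    exact h.imp (fun a b hab => (key a b).2 hab)

/-- The generators in the centraliser. -/
def Base.sC (B : Base t x z e s n x') {i : ℕ} (hi : i < 3) : Cz z := ⟨s i, mem_Cz.2 (B.zs i hi).symm⟩
def Base.nC (B : Base t x z e s n x') {i : ℕ} (hi : i < 3) : Cz z := ⟨n i, mem_Cz.2 (B.zn i hi).symm⟩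
def Base.xC (B : Base t x z e s n x') : Cz z := ⟨x', mem_Cz.2 B.zx'.symm⟩

/-- The matrices. -/
def ms : ℕ → List ℕ
  | 0 => [1, 2, 12, 8, 48, 32, 192, 128, 768, 512]
  | 1 => [1, 2, 20, 40, 16, 32, 320, 640, 256, 512]
  | _ => [1, 2, 68, 136, 272, 544, 64, 128, 256, 512]

def mn : ℕ → List ℕ
  | 0 => [1, 2, 4, 12, 16, 48, 64, 192, 256, 768]
  | 1 => [1, 2, 4, 8, 20, 40, 64, 128, 320, 640]
  | _ => [1, 2, 4, 8, 16, 32, 68, 136, 272, 544]

def mx : List ℕ := [513, 2, 422, 520, 528, 32, 576, 128, 256, 512]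

def mx1 : List ℕ := [513, 514, 935, 520, 528, 32, 576, 128, 256, 512]

theorem Base.st (B : Base t x z e s n x') {i : ℕ} (hi : i < 3) : (s i)⁻¹ * t * s i = t := by
  rw [mul_assoc, B.ts i hi, inv_mul_cancel_left]

theorem Base.nt (B : Base t x z e s n x') {i : ℕ} (hi : i < 3) : (n i)⁻¹ * t * n i = t := by
  rw [mul_assoc, B.tn i hi, inv_mul_cancel_left]

theorem Base.act_s (B : Base t x z e s n x') {i : ℕ} (hi : i < 3) : Act (piz z) B.wC (B.sC hi) (ms i) := by
  rw [B.act_iff]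
  have h1 := B.st hi
  have h2 := B.xs i hi
  have h3 := B.es i hi
  have hE : ∀ a : G, E z a a := fun a => Or.inl rfl
  change List.Forall₂ (fun a b => E z ((s i)⁻¹ * a * s i) (ph (LG t x e) b)) (LG t x e) (ms i)
  interval_cases i
  · have a0 := h3 0 (by norm_num)
    have a1 := h3 1 (by norm_num)
    have a2 := h3 2 (by norm_num)
    have a3 := h3 3 (by norm_num)
    have a4 := h3 4 (by norm_num)
    have a5 := h3 5 (by norm_num)
    have a6 := h3 6 (by norm_num)
    have a7 := h3 7 (by norm_num)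
    simp only [Nat.testBit, _root_.Nat.testBit, _root_.Nat.shiftRight_zero, _root_.Nat.and_zero, _root_.bne_self_eq_false, _root_.Bool.false_eq_true, ↓ _root_.reduceIte, _root_.pow_zero, _root_.zero_add, _root_.Nat.and_self, _root_.Nat.reduceBNe, _root_.Nat.one_and_eq_mod_two, _root_.Nat.mod_self, _root_.Nat.reduceAdd, _root_.Nat.reduceMod] at a0 a1 a2 a3 a4 a5 a6 a7
    simp only [ms, _root_.List.forall₂_cons, _root_.List.forall₂_nil_right_iff, _root_.and_true]
    simp only [ph, h1, h2, hE, a0, a1, a2, a3, a4, a5, a6, a7, _root_.Cfsg.Agent.StdO8.Shadow.ph, _root_.mul_one, _root_.one_mul, _root_.Nat.reduceDiv, _root_.Nat.zero_div, _root_.Nat.zero_mod, _root_.zero_ne_one, ↓ _root_.reduceIte, _root_.Nat.mod_succ, _root_.Order.lt_two_iff, _root_.zero_le, _root_.Nat.div_self, _root_.Nat.mod_self, _root_.Nat.reduceMod, _root_.and_self]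
  · have a0 := h3 0 (by norm_num)
    have a1 := h3 1 (by norm_num)
    have a2 := h3 2 (by norm_num)
    have a3 := h3 3 (by norm_num)
    have a4 := h3 4 (by norm_num)
    have a5 := h3 5 (by norm_num)
    have a6 := h3 6 (by norm_num)
    have a7 := h3 7 (by norm_num)
    simp only [Nat.testBit, _root_.Nat.testBit, _root_.Nat.zero_shiftRight, _root_.Nat.and_zero, _root_.bne_self_eq_false, _root_.Bool.false_eq_true, ↓ _root_.reduceIte, _root_.pow_one, _root_.zero_add, _root_.Nat.reduceShiftRight, _root_.Nat.reduceAdd, _root_.Nat.and_self, _root_.Nat.reduceBNe, _root_.Nat.one_and_eq_mod_two, _root_.Nat.mod_self, _root_.Nat.reduceMod] at a0 a1 a2 a3 a4 a5 a6 a7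
    simp only [ms, _root_.List.forall₂_cons, _root_.List.forall₂_nil_right_iff, _root_.and_true]
    simp only [ph, h1, h2, hE, a0, a1, a2, a3, a4, a5, a6, a7, _root_.Cfsg.Agent.StdO8.Shadow.ph, _root_.mul_one, _root_.one_mul, _root_.Nat.reduceDiv, _root_.Nat.zero_div, _root_.Nat.zero_mod, _root_.zero_ne_one, ↓ _root_.reduceIte, _root_.Nat.mod_succ, _root_.Order.lt_two_iff, _root_.zero_le, _root_.Nat.div_self, _root_.Nat.mod_self, _root_.Nat.reduceMod, _root_.and_self]
  · have a0 := h3 0 (by norm_num)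
    have a1 := h3 1 (by norm_num)
    have a2 := h3 2 (by norm_num)
    have a3 := h3 3 (by norm_num)
    have a4 := h3 4 (by norm_num)
    have a5 := h3 5 (by norm_num)
    have a6 := h3 6 (by norm_num)
    have a7 := h3 7 (by norm_num)
    simp only [Nat.testBit, _root_.Nat.testBit, _root_.Nat.zero_shiftRight, _root_.Nat.and_zero, _root_.bne_self_eq_false, _root_.Bool.false_eq_true, ↓ _root_.reduceIte, _root_.Nat.reducePow, _root_.zero_add, _root_.Nat.reduceShiftRight, _root_.Nat.reduceAdd, _root_.Nat.and_self, _root_.Nat.reduceBNe] at a0 a1 a2 a3 a4 a5 a6 a7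
    simp only [ms, _root_.List.forall₂_cons, _root_.List.forall₂_nil_right_iff, _root_.and_true]
    simp only [ph, h1, h2, hE, a0, a1, a2, a3, a4, a5, a6, a7, _root_.Cfsg.Agent.StdO8.Shadow.ph, _root_.mul_one, _root_.one_mul, _root_.Nat.reduceDiv, _root_.Nat.zero_div, _root_.Nat.zero_mod, _root_.zero_ne_one, ↓ _root_.reduceIte, _root_.Nat.mod_succ, _root_.Order.lt_two_iff, _root_.zero_le, _root_.Nat.div_self, _root_.Nat.mod_self, _root_.Nat.reduceMod, _root_.and_self]

theorem Base.act_n (B : Base t x z e s n x') {i : ℕ} (hi : i < 3) : Act (piz z) B.wC (B.nC hi) (mn i) := by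
  rw [B.act_iff]
  have h1 := B.nt hi
  have h2 := B.xn i hi
  have h3 := B.en i hi
  have hE : ∀ a : G, E z a a := fun a => Or.inl rfl
  change List.Forall₂ (fun a b => E z ((n i)⁻¹ * a * n i) (ph (LG t x e) b)) (LG t x e) (mn i)
  have c : ∀ R < 8, ∀ S < 8, R ≠ 7 - S → e S * e R = e R * e S := fun R hR S hS h => B.ec S hS R hR h
  interval_cases i
  · have a0 := h3 0 (by norm_num)
    have a1 := h3 1 (by norm_num)
    have a2 := h3 2 (by norm_num)
    have a3 := h3 3 (by norm_num)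
    have a4 := h3 4 (by norm_num)
    have a5 := h3 5 (by norm_num)
    have a6 := h3 6 (by norm_num)
    have a7 := h3 7 (by norm_num)
    simp only [Nat.testBit, _root_.Nat.testBit, _root_.Nat.shiftRight_zero, _root_.Nat.and_zero, _root_.bne_self_eq_false, _root_.Bool.false_eq_true, ↓ _root_.reduceIte, _root_.Nat.and_self, _root_.Nat.reduceBNe, _root_.pow_zero, _root_.tsub_self, _root_.Nat.one_and_eq_mod_two, _root_.Nat.mod_self, _root_.Nat.reduceMod, _root_.Nat.add_one_sub_one] at a0 a1 a2 a3 a4 a5 a6 a7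
    rw [c 0 (by norm_num) 1 (by norm_num) (by norm_num)] at a1
    rw [c 2 (by norm_num) 3 (by norm_num) (by norm_num)] at a3
    rw [c 4 (by norm_num) 5 (by norm_num) (by norm_num)] at a5
    rw [c 6 (by norm_num) 7 (by norm_num) (by norm_num)] at a7
    simp only [mn, _root_.List.forall₂_cons, _root_.List.forall₂_nil_right_iff, _root_.and_true]
    simp only [ph, h1, h2, hE, a0, a1, a2, a3, a4, a5, a6, a7, _root_.Cfsg.Agent.StdO8.Shadow.ph, _root_.mul_one, _root_.one_mul, _root_.Nat.reduceDiv, _root_.Nat.zero_div, _root_.Nat.zero_mod, _root_.zero_ne_one, ↓ _root_.reduceIte, _root_.Nat.mod_succ, _root_.Order.lt_two_iff, _root_.zero_le, _root_.Nat.div_self, _root_.Nat.mod_self, _root_.Nat.reduceMod, _root_.and_self]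
  · have a0 := h3 0 (by norm_num)
    have a1 := h3 1 (by norm_num)
    have a2 := h3 2 (by norm_num)
    have a3 := h3 3 (by norm_num)
    have a4 := h3 4 (by norm_num)
    have a5 := h3 5 (by norm_num)
    have a6 := h3 6 (by norm_num)
    have a7 := h3 7 (by norm_num)
    simp only [Nat.testBit, _root_.Nat.testBit, _root_.Nat.zero_shiftRight, _root_.Nat.and_zero, _root_.bne_self_eq_false, _root_.Bool.false_eq_true, ↓ _root_.reduceIte, _root_.Nat.reduceShiftRight, _root_.Nat.and_self, _root_.Nat.reduceBNe, _root_.pow_one, _root_.tsub_self, _root_.Nat.reduceSub, _root_.Nat.one_and_eq_mod_two, _root_.Nat.mod_self, _root_.Nat.reduceMod] at a0 a1 a2 a3 a4 a5 a6 a7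
    rw [c 0 (by norm_num) 2 (by norm_num) (by norm_num)] at a2
    rw [c 1 (by norm_num) 3 (by norm_num) (by norm_num)] at a3
    rw [c 4 (by norm_num) 6 (by norm_num) (by norm_num)] at a6
    rw [c 5 (by norm_num) 7 (by norm_num) (by norm_num)] at a7
    simp only [mn, _root_.List.forall₂_cons, _root_.List.forall₂_nil_right_iff, _root_.and_true]
    simp only [ph, h1, h2, hE, a0, a1, a2, a3, a4, a5, a6, a7, _root_.Cfsg.Agent.StdO8.Shadow.ph, _root_.mul_one, _root_.one_mul, _root_.Nat.reduceDiv, _root_.Nat.zero_div, _root_.Nat.zero_mod, _root_.zero_ne_one, ↓ _root_.reduceIte, _root_.Nat.mod_succ, _root_.Order.lt_two_iff, _root_.zero_le, _root_.Nat.div_self, _root_.Nat.mod_self, _root_.Nat.reduceMod, _root_.and_self]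
  · have a0 := h3 0 (by norm_num)
    have a1 := h3 1 (by norm_num)
    have a2 := h3 2 (by norm_num)
    have a3 := h3 3 (by norm_num)
    have a4 := h3 4 (by norm_num)
    have a5 := h3 5 (by norm_num)
    have a6 := h3 6 (by norm_num)
    have a7 := h3 7 (by norm_num)
    simp only [Nat.testBit, _root_.Nat.testBit, _root_.Nat.zero_shiftRight, _root_.Nat.and_zero, _root_.bne_self_eq_false, _root_.Bool.false_eq_true, ↓ _root_.reduceIte, _root_.Nat.reduceShiftRight, _root_.Nat.and_self, _root_.Nat.reduceBNe, _root_.Nat.reducePow, _root_.tsub_self, _root_.Nat.reduceSub] at a0 a1 a2 a3 a4 a5 a6 a7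
    rw [c 0 (by norm_num) 4 (by norm_num) (by norm_num)] at a4
    rw [c 1 (by norm_num) 5 (by norm_num) (by norm_num)] at a5
    rw [c 2 (by norm_num) 6 (by norm_num) (by norm_num)] at a6
    rw [c 3 (by norm_num) 7 (by norm_num) (by norm_num)] at a7
    simp only [mn, _root_.List.forall₂_cons, _root_.List.forall₂_nil_right_iff, _root_.and_true]
    simp only [ph, h1, h2, hE, a0, a1, a2, a3, a4, a5, a6, a7, _root_.Cfsg.Agent.StdO8.Shadow.ph, _root_.mul_one, _root_.one_mul, _root_.Nat.reduceDiv, _root_.Nat.zero_div, _root_.Nat.zero_mod, _root_.zero_ne_one, ↓ _root_.reduceIte, _root_.Nat.mod_succ, _root_.Order.lt_two_iff, _root_.zero_le, _root_.Nat.div_self, _root_.Nat.mod_self, _root_.Nat.reduceMod, _root_.and_self]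

theorem Base.act_x_aux (B : Base t x z e s n x') {a b : ℕ} (h1 : E z (x'⁻¹ * x * x') (ph (LG t x e) a))
    (h2 : E z (x'⁻¹ * e 0 * x') (ph (LG t x e) b)) :
    Act (piz z) B.wC B.xC [513, a, b, 520, 528, 32, 576, 128, 256, 512] := by
  rw [B.act_iff]
  change List.Forall₂ (fun a b => E z (x'⁻¹ * a * x') (ph (LG t x e) b)) (LG t x e) _
  have h3 := B.tx'
  have a1 := B.e1' 1 (by simp)
  have a2 := B.e1' 2 (by simp)
  have a3 := B.e3' 3 (by simp)
  have a4 := B.e1' 4 (by simp)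
  have a5 := B.e3' 5 (by simp)
  have a6 := B.e3' 6 (by simp)
  have a7 := B.e3' 7 (by simp)
  simp only [List.forall₂_cons, List.forall₂_nil_left_iff, and_true]
  refine ⟨?_, h1, h2, ?_, ?_, ?_, ?_, ?_, ?_, ?_⟩
  · simpa only [ph, _root_.Nat.reduceMod, ↓ _root_.reduceIte, _root_.Nat.reduceDiv, _root_.zero_ne_one, _root_.Nat.mod_self, _root_.Order.lt_two_iff, _root_.zero_le, _root_.Nat.div_self, _root_.Nat.mod_succ, _root_.mul_one, _root_.one_mul] using h3
  · simpa only [ph, _root_.Nat.reduceMod, _root_.zero_ne_one, ↓ _root_.reduceIte, _root_.Nat.reduceDiv, _root_.Nat.mod_self, _root_.Order.lt_two_iff, _root_.zero_le, _root_.Nat.div_self, _root_.Nat.mod_succ, _root_.mul_one, _root_.one_mul] using a1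
  · simpa only [ph, _root_.Nat.reduceMod, _root_.zero_ne_one, ↓ _root_.reduceIte, _root_.Nat.reduceDiv, _root_.Nat.mod_self, _root_.Order.lt_two_iff, _root_.zero_le, _root_.Nat.div_self, _root_.Nat.mod_succ, _root_.mul_one, _root_.one_mul] using a2
  · simpa only [ph, _root_.Nat.reduceMod, _root_.zero_ne_one, ↓ _root_.reduceIte, _root_.Nat.reduceDiv, _root_.Nat.mod_self, _root_.Order.lt_two_iff, _root_.zero_le, _root_.Nat.div_self, _root_.Nat.mod_succ, _root_.Nat.zero_mod, _root_.Nat.zero_div, _root_.mul_one, _root_.one_mul] using a3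
  · simpa only [ph, _root_.Nat.reduceMod, _root_.zero_ne_one, ↓ _root_.reduceIte, _root_.Nat.reduceDiv, _root_.Nat.mod_self, _root_.Order.lt_two_iff, _root_.zero_le, _root_.Nat.div_self, _root_.Nat.mod_succ, _root_.mul_one, _root_.one_mul] using a4
  · simpa only [ph, _root_.Nat.reduceMod, _root_.zero_ne_one, ↓ _root_.reduceIte, _root_.Nat.reduceDiv, _root_.Nat.mod_self, _root_.Order.lt_two_iff, _root_.zero_le, _root_.Nat.div_self, _root_.Nat.mod_succ, _root_.Nat.zero_mod, _root_.Nat.zero_div, _root_.mul_one, _root_.one_mul] using a5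
  · simpa only [ph, _root_.Nat.reduceMod, _root_.zero_ne_one, ↓ _root_.reduceIte, _root_.Nat.reduceDiv, _root_.Nat.mod_self, _root_.Order.lt_two_iff, _root_.zero_le, _root_.Nat.div_self, _root_.Nat.mod_succ, _root_.Nat.zero_mod, _root_.mul_one, _root_.one_mul] using a6
  · simpa only [ph, _root_.Nat.reduceMod, _root_.zero_ne_one, ↓ _root_.reduceIte, _root_.Nat.reduceDiv, _root_.Nat.mod_self, _root_.Order.lt_two_iff, _root_.zero_le, _root_.Nat.div_self, _root_.Nat.mod_succ, _root_.mul_one, _root_.one_mul] using a7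

theorem Data.act_x (D : Data t x z e s n x') : Act (piz z) D.toBase.wC D.toBase.xC mx := by
  refine D.toBase.act_x_aux (a := 2) (b := 422) ?_ ?_
  · simpa only [ph, _root_.Nat.mod_self, _root_.zero_ne_one, ↓ _root_.reduceIte, _root_.Order.lt_two_iff, _root_.zero_le, _root_.Nat.div_self, _root_.Nat.mod_succ, _root_.Nat.reduceDiv, _root_.Nat.zero_mod, _root_.Nat.zero_div, _root_.mul_one, _root_.one_mul] using D.xx'
  · have h := D.e0'
    rw [← D.xe 0 (by norm_num)] at h
    simpa only [ph, mul_assoc, _root_.Nat.reduceMod, _root_.zero_ne_one, ↓ _root_.reduceIte, _root_.Nat.reduceDiv, _root_.Nat.mod_succ, _root_.Nat.zero_mod, _root_.mul_one, _root_.one_mul] using h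

theorem Data1.act_x (D : Data1 t x z e s n x') : Act (piz z) D.toBase.wC D.toBase.xC mx1 := by
  refine D.toBase.act_x_aux (a := 514) (b := 935) ?_ ?_
  · simpa only [ph, _root_.Nat.reduceMod, _root_.zero_ne_one, ↓ _root_.reduceIte, _root_.Nat.reduceDiv, _root_.Nat.mod_self, _root_.Order.lt_two_iff, _root_.zero_le, _root_.Nat.div_self, _root_.Nat.mod_succ, _root_.mul_one, _root_.one_mul] using D.xx'
  · have h := D.e0'
    refine E.trans' D.zz h ?_
    right
    have h1 : e 0 * x * t = t * x * e 0 * z := by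
      rw [D.tx, ← D.xe 0 (by norm_num)]
      calc x * e 0 * t = x * (e 0 * t) := by group
        _ = x * t * e 0 := by rw [← D.te 0 (by norm_num)]; group
        _ = x * t * (z * z) * e 0 := by rw [D.zz, mul_one]
        _ = x * t * z * (z * e 0) := by group
        _ = x * t * z * e 0 * z := by rw [D.ze 0 (by norm_num)]; group
    have hz : ∀ a b : G, b * z = z * b → a * z * b = a * b * z := by
      intro a b h
      rw [mul_assoc, ← h, mul_assoc]
    rw [h1, hz _ _ (D.ze 3 (by norm_num)).symm, hz _ _ (D.ze 5 (by norm_num)).symm, hz _ _ (D.ze 6 (by norm_num)).symm,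
      hz _ _ (D.ze 7 (by norm_num)).symm]
    simp only [ph, mul_assoc, _root_.mul_assoc, _root_.Cfsg.Agent.StdO8.Shadow.ph, _root_.Nat.reduceMod, ↓ _root_.reduceIte, _root_.Nat.reduceDiv, _root_.zero_ne_one, _root_.Nat.mod_succ, _root_.mul_one, _root_.one_mul]

end Cfsg.Agent.StdO8.Shadow
end

-- part: StdO8/ShadowReal
section
/-!
# Realisation of the 128 matrices; the element of order 5; the case `δ = 1`
-/

set_option autoImplicit false

namespace Cfsg.Agent.StdO8.Shadow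

universe u

theorem SL_nodup : SL.Nodup := by decide +kernel

/-- The matrix of order 5. -/
def h5 : List ℕ := mulM (mulM (mulM (mulM (ms 0) (ms 1)) mx) (mn 1)) (mn 2)

theorem h5_fix : ap h5 161 = 161 := by decide +kernel

theorem h5_lt : ∀ c ∈ h5, c < 1024 := by decide +kernel

theorem h5_pow5 : mulM (mulM (mulM (mulM h5 h5) h5) h5) h5 = idM := by decide +kernel

theorem h5_pow4 : mulM (mulM (mulM h5 h5) h5) h5 ≠ idM := by decide +kernel

theorem word3 : mulM (mulM (mulM (mulM (mulM (mulM (mulM (mulM (mn 1) (mn 2)) mx) (mn 1)) (mn 2)) mx) (mn 1)) (mn 2)) mx =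
    gs.getD 3 [] := by decide +kernel

theorem word5 : mulM (mulM (mn 0) mx) (mn 0) = gs.getD 5 [] := by decide +kernel

theorem word6 : mulM (mulM (mulM (mulM (mulM (mulM (mulM (mulM (mulM (mn 0) (mn 1)) (mn 2)) mx) (mn 0)) (mn 1)) mx) (mn 0))
    (mn 1)) (mn 2) = gs.getD 6 [] := by decide +kernel

theorem wordc : mulM (mulM (mulM (mulM (mulM mx1 (mn 0)) mx1) (ms 0)) (mn 0)) mx1 =
    [1, 2, 168, 84, 544, 272, 640, 320, 512, 256] := by decide +kernel

variable {G : Type u} [Group G] {t x z x' : G} {e s n : ℕ → G}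

theorem Data.real_gen (D : Data t x z e s n x') :
    ∀ k < 7, ∃ g : Cz z, Act (piz z) D.toBase.wC g (gs.getD k []) := by
  have C := D.toBase.cd
  have Q := quo (z := z) D.zz
  have S : ∀ {i} (hi : i < 3), Act (piz z) D.toBase.wC (D.toBase.sC hi) (ms i) := fun hi => D.toBase.act_s hi
  have N : ∀ {i} (hi : i < 3), Act (piz z) D.toBase.wC (D.toBase.nC hi) (mn i) := fun hi => D.toBase.act_n hi
  have X := D.act_x
  have i0 : 0 < 3 := by norm_num
  have i1 : 1 < 3 := by norm_num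
  have i2 : 2 < 3 := by norm_num
  intro k hk
  interval_cases k
  · exact ⟨_, S i0⟩
  · exact ⟨_, S i1⟩
  · exact ⟨_, S i2⟩
  · rw [← word3]
    exact ⟨_, ((((((((N i1).mul C Q (N i2)).mul C Q X).mul C Q (N i1)).mul C Q (N i2)).mul C Q X).mul C Q (N i1)).mul C Q
      (N i2)).mul C Q X⟩
  · exact ⟨_, X⟩
  · rw [← word5]
    exact ⟨_, ((N i0).mul C Q X).mul C Q (N i0)⟩
  · rw [← word6]
    exact ⟨_, (((((((((N i0).mul C Q (N i1)).mul C Q (N i2)).mul C Q X).mul C Q (N i0)).mul C Q (N i1)).mul C Q X).mul C Q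
      (N i0)).mul C Q (N i1)).mul C Q (N i2)⟩

theorem Data.real (D : Data t x z e s n x') : ∀ m ∈ SL, ∃ g : Cz z, Act (piz z) D.toBase.wC g m := by
  have C := D.toBase.cd
  have Q := quo (z := z) D.zz
  have key : ∀ k < 128, ∃ g : Cz z, Act (piz z) D.toBase.wC g (SL.getD k []) := by
    intro k
    induction k using Nat.strong_induction_on with
    | _ k ih =>
      intro hk
      rcases Nat.eq_zero_or_pos k with rfl | hpos
      · have h0 : SL.getD 0 [] = idM := by decide +kernel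
        rw [h0]
        exact ⟨1, Act.one⟩
      · obtain ⟨j, rfl⟩ : ∃ j, k = j + 1 := ⟨k - 1, by omega⟩
        obtain ⟨h1, h2, h3⟩ := tree_ok j (by omega)
        obtain ⟨a, ha⟩ := ih _ (Nat.lt_succ_of_le h1) (by omega)
        obtain ⟨b, hb⟩ := D.real_gen _ h2
        rw [h3]
        exact ⟨a * b, ha.mul C Q hb⟩
  intro m hm
  obtain ⟨k, hk, rfl⟩ := List.getElem_of_mem hm
  have := key k (by rw [SL_len] at hk; exact hk)
  rwa [List.getD_eq_getElem _ _ hk] at this

theorem Data.real5 (D : Data t x z e s n x') : ∃ g : Cz z, Act (piz z) D.toBase.wC g h5 := by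
  have C := D.toBase.cd
  have Q := quo (z := z) D.zz
  have i0 : 0 < 3 := by norm_num
  have i1 : 1 < 3 := by norm_num
  have i2 : 2 < 3 := by norm_num
  exact ⟨_, ((((D.toBase.act_s i0).mul C Q (D.toBase.act_s i1)).mul C Q D.act_x).mul C Q (D.toBase.act_n i1)).mul C Q
    (D.toBase.act_n i2)⟩

/-- `δ = 1` is impossible. -/
theorem delta1_false (D : Data1 t x z e s n x') : False := by
  have C := D.toBase.cd
  have Q := quo (z := z) D.zz
  have i0 : 0 < 3 := by norm_num
  have h : ∃ c : Cz z, Act (piz z) D.toBase.wC c [1, 2, 168, 84, 544, 272, 640, 320, 512, 256] := by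
    rw [← wordc]
    exact ⟨_, ((((D.act_x.mul C Q (D.toBase.act_n i0)).mul C Q D.act_x).mul C Q (D.toBase.act_s i0)).mul C Q
      (D.toBase.act_n i0)).mul C Q D.act_x⟩
  obtain ⟨c, hc⟩ := h
  rw [D.toBase.act_iff] at hc
  simp only [List.forall₂_cons, List.forall₂_nil_left_iff, and_true] at hc
  obtain ⟨h1, -, h3, -⟩ := hc
  have hcz : (c : G) * z = z * c := mem_Cz.1 c.2
  have h1' : E z ((c : G)⁻¹ * t * c) t := by simpa only [ph, _root_.Nat.mod_succ, ↓ _root_.reduceIte, _root_.Nat.reduceDiv, _root_.Nat.zero_mod, _root_.zero_ne_one, _root_.Nat.zero_div, _root_.mul_one] using h1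
  have h3' : E z ((c : G)⁻¹ * e 0 * c) (e 1 * e 3 * e 5) := by simpa only [ph, mul_assoc, _root_.Nat.reduceMod, _root_.zero_ne_one, ↓ _root_.reduceIte, _root_.Nat.reduceDiv, _root_.Nat.mod_self, _root_.Order.lt_two_iff, _root_.zero_le, _root_.Nat.div_self, _root_.Nat.mod_succ, _root_.Nat.zero_mod, _root_.Nat.zero_div, _root_.mul_one, _root_.one_mul] using h3
  rcases h1' with h | h
  · refine D.nr c ?_ hcz h3'
    calc (c : G) * t = c * ((c : G)⁻¹ * t * c) := by rw [h]
      _ = t * c := by group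
  · -- `c⁻¹ t c = t z`: use `c x`
    refine D.nr (c * x) ?_ ?_ ?_
    · have h4 : t * c = c * t * z := by
        calc t * c = c * ((c : G)⁻¹ * t * c) := by group
          _ = c * t * z := by rw [h, mul_assoc]
      calc c * x * t = c * (x * t) := by group
        _ = c * (t * x * z) := by rw [D.toBase.xt]
        _ = (c * t) * (x * z) := by group
        _ = (c * t) * (z * x) := by rw [D.zx]
        _ = (c * t * z) * x := by group
        _ = t * (c * x) := by rw [← h4, mul_assoc]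
    · calc c * x * z = c * (x * z) := by group
        _ = (c * z) * x := by rw [← D.zx, mul_assoc]
        _ = z * (c * x) := by rw [hcz, mul_assoc]
    · have h5 : (c * x : G)⁻¹ * e 0 * (c * x) = x⁻¹ * ((c : G)⁻¹ * e 0 * c) * x := by group
      rw [h5]
      have hx : ∀ S < 8, x⁻¹ * e S * x = e S := fun S hS => by
        rw [mul_assoc, ← D.xe S hS, inv_mul_cancel_left]
      have h6 : x⁻¹ * (e 1 * e 3 * e 5) * x = e 1 * e 3 * e 5 := by
        calc x⁻¹ * (e 1 * e 3 * e 5) * x = (x⁻¹ * e 1 * x) * (x⁻¹ * e 3 * x) * (x⁻¹ * e 5 * x) := by group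
          _ = e 1 * e 3 * e 5 := by rw [hx 1 (by norm_num), hx 3 (by norm_num), hx 5 (by norm_num)]
      rcases h3' with h3' | h3'
      · left; rw [h3', h6]
      · right
        rw [h3']
        calc x⁻¹ * (e 1 * e 3 * e 5 * z) * x = x⁻¹ * (e 1 * e 3 * e 5) * (z * x) := by group
          _ = x⁻¹ * (e 1 * e 3 * e 5) * x * z := by rw [D.zx]; group
          _ = e 1 * e 3 * e 5 * z := by rw [h6]

end Cfsg.Agent.StdO8.Shadow
end

-- part: StdO8/ShadowSG
section
/-!
# The 2-group `S` of order `2 ^ 18` in `G`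
-/

set_option autoImplicit false
set_option linter.unusedSectionVars false

namespace Cfsg.Agent.StdO8.Shadow

open Subgroup

theorem SL_orb1 : ∀ m ∈ SL, ap m 1 ∈ orb1 := by decide +kernel

universe u

variable {G : Type u} [Group G] [Finite G] {t x z x' : G} {e s n : ℕ → G}

/-- `S` in `G`. -/
def Data.SG (D : Data t x z e s n x') : Subgroup G := (SS D.toBase.cd (quo D.zz)).map (Cz z).subtype

/-- `M` in `G`. -/
def Data.MG (D : Data t x z e s n x') : Subgroup G := (MM D.toBase.cd (quo D.zz)).map (Cz z).subtype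

theorem Data.mem_SG (D : Data t x z e s n x') {g : G} :
    g ∈ D.SG ↔ ∃ c : Cz z, c ∈ SS D.toBase.cd (quo D.zz) ∧ (c : G) = g := Iff.rfl

theorem Data.mem_MG (D : Data t x z e s n x') {g : G} :
    g ∈ D.MG ↔ ∃ c : Cz z, c ∈ MM D.toBase.cd (quo D.zz) ∧ (c : G) = g := Iff.rfl

theorem Data.SG_comm (D : Data t x z e s n x') {g : G} (hg : g ∈ D.SG) : g * z = z * g := by
  obtain ⟨c, _, rfl⟩ := D.mem_SG.1 hg
  exact mem_Cz.1 c.2

theorem Data.MG_le (D : Data t x z e s n x') : D.MG ≤ D.SG := by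
  rintro _ ⟨c, hc, rfl⟩
  exact ⟨c, MM_le_SS _ _ hc, rfl⟩

theorem Data.SG_pgroup (D : Data t x z e s n x') : IsPGroup 2 D.SG := (SS_pgroup D.toBase.cd (quo D.zz)).map _

theorem Data.card_SS (D : Data t x z e s n x') : Nat.card (SS D.toBase.cd (quo D.zz)) = 2 ^ 18 := by
  refine le_antisymm (card_SS_le _ _) ?_
  have C := D.toBase.cd
  have Q := quo (z := z) D.zz
  choose! r hr using D.real
  let f : (SL.toFinset × MM C Q) → SS C Q := fun p =>
    ⟨r p.1 * p.2, (SS C Q).mul_mem ⟨p.1, List.mem_toFinset.1 p.1.2, hr _ (List.mem_toFinset.1 p.1.2)⟩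
      (MM_le_SS C Q p.2.2)⟩
  have hf : Function.Injective f := by
    rintro ⟨⟨m, hm⟩, ⟨y, hy⟩⟩ ⟨⟨m', hm'⟩, ⟨y', hy'⟩⟩ h
    have h1 : r m * y = r m' * y' := congrArg Subtype.val h
    rw [List.mem_toFinset] at hm hm'
    have a1 := (hr m hm).mul C Q (MM_act C Q hy)
    have a2 := (hr m' hm').mul C Q (MM_act C Q hy')
    rw [mulM_idM (SL_getlt hm)] at a1
    rw [mulM_idM (SL_getlt hm')] at a2
    rw [← h1] at a2
    have h2 := a1.uniq C Q (SL_getlt hm) (SL_getlt hm') a2
    subst h2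
    have h3 := mul_left_cancel h1
    subst h3
    rfl
  have h1 := Nat.card_le_card_of_injective f hf
  rw [Nat.card_prod, card_MM, Nat.card_eq_fintype_card (α := SL.toFinset), Fintype.card_coe,
    List.toFinset_card_of_nodup SL_nodup, SL_len] at h1
  exact h1

theorem Data.card_SG (D : Data t x z e s n x') : Nat.card D.SG = 2 ^ 18 := by
  rw [← D.card_SS]
  exact Subgroup.card_map_of_injective Subtype.val_injective

theorem Data.wC_mem (D : Data t x z e s n x') {i : ℕ} (hi : i < 10) :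
    D.toBase.wC i ∈ MM D.toBase.cd (quo D.zz) := by
  apply mem_MM_of_act
  unfold Act
  rw [actH_idM_iff WB_length]
  intro a ha
  obtain ⟨j, hj, rfl⟩ := mem_WB ha
  have := (D.toBase.cd.elW (quo D.zz)).comm _ (WB_mem hj) _ (WB_mem hi)
  rw [mul_assoc, this, inv_mul_cancel_left]

theorem Data.wG_mem (D : Data t x z e s n x') {i : ℕ} (hi : i < 10) : wG t x e i ∈ D.MG :=
  ⟨D.toBase.wC i, D.wC_mem hi, rfl⟩

theorem Data.t_mem (D : Data t x z e s n x') : t ∈ D.MG := D.wG_mem (i := 0) (by norm_num)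

theorem Data.x_mem (D : Data t x z e s n x') : x ∈ D.MG := D.wG_mem (i := 1) (by norm_num)

theorem Data.e_mem (D : Data t x z e s n x') {S : ℕ} (hS : S < 8) : e S ∈ D.MG := by
  have := D.wG_mem (i := S + 2) (by omega)
  rwa [wG_e hS] at this

theorem Data.z_mem (D : Data t x z e s n x') : z ∈ D.MG :=
  ⟨zC z, (mem_MM _ _).2 ⟨0, by norm_num, true, by simp [ph_zero, zb]⟩, rfl⟩

/-- The action on `x`. -/
theorem Data.SG_x (D : Data t x z e s n x') {g : G} (hg : g ∈ D.SG) : x * g = g * x ∨ x * g = g * x * z := by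
  obtain ⟨c, ⟨m, hm, hc⟩, rfl⟩ := D.mem_SG.1 hg
  have h1 := hc.conj D.toBase.cd (quo D.zz) 2
  rw [SL_fixX m hm, (quo D.zz).eq_iff] at h1
  have h2 : ((ph (WL D.toBase.wC) 2 : Cz z) : G) = x := by
    rw [D.toBase.coe_ph]; simp only [ph, _root_.Cfsg.Agent.StdO8.Shadow.ph, _root_.Nat.mod_self, _root_.zero_ne_one, ↓ _root_.reduceIte, _root_.Order.lt_two_iff, _root_.zero_le, _root_.Nat.div_self, _root_.Nat.mod_succ, _root_.Nat.reduceDiv, _root_.Nat.zero_mod, _root_.Nat.zero_div, _root_.mul_one, _root_.one_mul]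
  rcases h1 with h | h
  · left
    have := congrArg Subtype.val h
    simp only [Subgroup.coe_mul, Subgroup.coe_inv, h2] at this
    calc x * c = c * ((c : G)⁻¹ * x * c) := by group
      _ = c * x := by rw [this]
  · right
    have := congrArg Subtype.val h
    simp only [Subgroup.coe_mul, Subgroup.coe_inv, h2] at this
    calc x * c = c * ((c : G)⁻¹ * x * c) := by group
      _ = c * (x * z) := by rw [this]; rfl
      _ = c * x * z := by group

/-- The subgroup `T`. -/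
def Data.TG (D : Data t x z e s n x') : Subgroup G := D.SG ⊓ centralizer ({t} : Set G)

theorem Data.mem_TG (D : Data t x z e s n x') {g : G} : g ∈ D.TG ↔ g ∈ D.SG ∧ g * t = t * g := by
  unfold Data.TG
  rw [Subgroup.mem_inf, mem_centralizer_singleton_iff]

/-- The conjugates of `t` under `S`. -/
theorem Data.SG_t (D : Data t x z e s n x') {g : G} (hg : g ∈ D.SG) :
    ∃ v ∈ orb1, ∃ b : Bool, g⁻¹ * t * g = ph (LG t x e) v * zb z b := by
  obtain ⟨c, ⟨m, hm, hc⟩, rfl⟩ := D.mem_SG.1 hg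
  have h1 := hc.conj D.toBase.cd (quo D.zz) 1
  rw [(quo D.zz).eq_iff] at h1
  have h2 : ((ph (WL D.toBase.wC) 1 : Cz z) : G) = t := by
    rw [D.toBase.coe_ph]; simp only [ph, _root_.Cfsg.Agent.StdO8.Shadow.ph, _root_.Nat.mod_succ, ↓ _root_.reduceIte, _root_.Nat.reduceDiv, _root_.Nat.zero_mod, _root_.zero_ne_one, _root_.Nat.zero_div, _root_.mul_one]
  refine ⟨ap m 1, SL_orb1 m hm, ?_⟩
  rcases h1 with h | h
  · refine ⟨false, ?_⟩
    have := congrArg Subtype.val h
    simp only [Subgroup.coe_mul, Subgroup.coe_inv, h2, D.toBase.coe_ph] at this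
    rw [this]; simp [zb]
  · refine ⟨true, ?_⟩
    have := congrArg Subtype.val h
    simp only [Subgroup.coe_mul, Subgroup.coe_inv, h2, D.toBase.coe_ph] at this
    rw [this]; rfl

theorem Data.card_TG (D : Data t x z e s n x') : 2 ^ 14 ≤ Nat.card D.TG := by
  classical
  have hle : D.TG ≤ D.SG := inf_le_left
  have h1 := Subgroup.card_eq_card_quotient_mul_card_subgroup (D.TG.subgroupOf D.SG)
  have h2 : Nat.card (D.TG.subgroupOf D.SG) = Nat.card D.TG :=
    Nat.card_congr (Subgroup.subgroupOfEquivOfLe hle).toEquiv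
  have h3 : Nat.card (D.SG ⧸ D.TG.subgroupOf D.SG) ≤ 16 := by
    have hρ : ∀ g : D.SG, ∃ p : ℕ × Bool, p.1 ∈ orb1 ∧ (g : G) * t * (g : G)⁻¹ = ph (LG t x e) p.1 * zb z p.2 := by
      intro g
      obtain ⟨v, hv, b, h⟩ := D.SG_t (D.SG.inv_mem g.2)
      exact ⟨(v, b), hv, by rw [inv_inv] at h; exact h⟩
    choose ρ hρ1 hρ2 using hρ
    let f : (D.SG ⧸ D.TG.subgroupOf D.SG) → orb1.toFinset × Bool := fun q =>
      (⟨(ρ q.out).1, List.mem_toFinset.2 (hρ1 _)⟩, (ρ q.out).2)
    have hf : Function.Injective f := by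
      intro p q hpq
      have h4 : (ρ p.out).1 = (ρ q.out).1 := congrArg (fun r => (r.1 : ℕ)) hpq
      have h5 : (ρ p.out).2 = (ρ q.out).2 := congrArg (fun r => r.2) hpq
      rw [← QuotientGroup.out_eq' p, ← QuotientGroup.out_eq' q, QuotientGroup.eq, Subgroup.mem_subgroupOf, D.mem_TG]
      refine ⟨((p.out)⁻¹ * q.out).2, ?_⟩
      have h6 := hρ2 p.out
      have h7 := hρ2 q.out
      rw [h4, h5, ← h7] at h6
      push_cast
      calc ((p.out : D.SG) : G)⁻¹ * (q.out : D.SG) * t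
          = ((p.out : D.SG) : G)⁻¹ * ((q.out : D.SG) * t * ((q.out : D.SG) : G)⁻¹) * (q.out : D.SG) := by group
        _ = ((p.out : D.SG) : G)⁻¹ * ((p.out : D.SG) * t * ((p.out : D.SG) : G)⁻¹) * (q.out : D.SG) := by rw [h6]
        _ = t * (((p.out : D.SG) : G)⁻¹ * (q.out : D.SG)) := by group
    have h5 := Nat.card_le_card_of_injective f hf
    have h6 : Nat.card (orb1.toFinset × Bool) ≤ 16 := by
      rw [Nat.card_prod, Nat.card_eq_fintype_card (α := orb1.toFinset), Fintype.card_coe,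
        Nat.card_eq_fintype_card (α := Bool), Fintype.card_bool]
      have : orb1.toFinset.card ≤ 8 := (List.toFinset_card_le _).trans (by simp [orb1])
      omega
    exact h5.trans h6
  rw [D.card_SG, h2] at h1
  have h4 : 2 ^ 18 ≤ 16 * Nat.card D.TG := by
    rw [h1]; exact Nat.mul_le_mul_right _ h3
  omega

/-- Weak closure. -/
theorem Data.weakG (D : Data t x z e s n x') {c : G} (hc : c * z = z * c) (h : ∀ g ∈ D.MG, c⁻¹ * g * c ∈ D.SG) :
    ∀ g ∈ D.MG, c⁻¹ * g * c ∈ D.MG := by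
  have key := weakC D.toBase.cd (quo D.zz) ⟨c, mem_Cz.2 hc⟩ (by
    intro g hg
    obtain ⟨k, hk, h1⟩ := D.mem_SG.1 (h g ⟨g, hg, rfl⟩)
    have h2 : k = (⟨c, mem_Cz.2 hc⟩ : Cz z)⁻¹ * g * ⟨c, mem_Cz.2 hc⟩ := Subtype.ext h1
    rw [← h2]
    exact hk)
  rintro _ ⟨g, hg, rfl⟩
  exact ⟨_, key g hg, rfl⟩

end Cfsg.Agent.StdO8.Shadow
end

-- part: StdO8/ShadowMain
section
/-!
# The Fi22.2 shadow: the transfer argument

`Shadow.main`: from the data `Shadow.Data` (`δ = 0`), a homomorphism `m : G →* ℤˣ` with `m t = -1`.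
-/

set_option autoImplicit false
set_option linter.unusedSectionVars false

namespace Cfsg.Agent.StdO8.Shadow

open Subgroup

universe u

section Parity

variable {G : Type u} [Group G] [Finite G] {S U : Subgroup G}

theorem parity (hU : IsPGroup 2 U) (P : G ⧸ S → Prop) (hP : ∀ u ∈ U, ∀ q, P q → P (u • q)) :
    Nat.card {q : G ⧸ S // P q} % 2 = Nat.card {q : G ⧸ S // P q ∧ ∀ u ∈ U, u • q = q} % 2 := by
  let act : MulAction U {q : G ⧸ S // P q} :=
    { smul := fun x q => ⟨(x : G) • (q : G ⧸ S), hP x x.2 q q.2⟩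
      one_smul := fun q => Subtype.ext (one_smul G (q : G ⧸ S))
      mul_smul := fun x y q => Subtype.ext (mul_smul (x : G) (y : G) (q : G ⧸ S)) }
  have : Fact (Nat.Prime 2) := ⟨Nat.prime_two⟩
  have h1 := hU.card_modEq_card_fixedPoints {q : G ⧸ S // P q}
  have h2 : Nat.card (MulAction.fixedPoints U {q : G ⧸ S // P q}) =
      Nat.card {q : G ⧸ S // P q ∧ ∀ u ∈ U, u • q = q} := by
    refine Nat.card_congr ⟨fun q => ⟨q.1.1, q.1.2, fun x hx => ?_⟩, fun q => ⟨⟨q.1, q.2.1⟩, fun x => ?_⟩,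
      fun q => rfl, fun q => rfl⟩
    · exact congrArg Subtype.val (q.2 ⟨x, hx⟩)
    · exact Subtype.ext (q.2.2 x x.2)
  rw [h2] at h1
  exact h1

theorem card_cosets (S C : Subgroup G) :
    Nat.card {q : G ⧸ S // ∃ c ∈ C, (c : G ⧸ S) = q} = S.relIndex C := by
  rw [relIndex, index]
  symm
  refine Nat.card_congr (Equiv.ofBijective (fun q : C ⧸ S.subgroupOf C =>
    (⟨Quotient.liftOn' q (fun c => ((c : G) : G ⧸ S)) ?_, ?_⟩ : {q : G ⧸ S // ∃ c ∈ C, (c : G ⧸ S) = q})) ⟨?_, ?_⟩)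
  · intro a b hab
    rw [QuotientGroup.leftRel_apply, mem_subgroupOf] at hab
    rw [QuotientGroup.eq]
    exact hab
  · obtain ⟨c, rfl⟩ := QuotientGroup.mk_surjective q
    exact ⟨c, c.2, rfl⟩
  · intro q1 q2 h
    obtain ⟨c1, rfl⟩ := QuotientGroup.mk_surjective q1
    obtain ⟨c2, rfl⟩ := QuotientGroup.mk_surjective q2
    have h1 : ((c1 : G) : G ⧸ S) = ((c2 : G) : G ⧸ S) := congrArg Subtype.val h
    rw [QuotientGroup.eq] at h1
    rw [QuotientGroup.eq, mem_subgroupOf]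
    exact h1
  · rintro ⟨q, c, hc, rfl⟩
    exact ⟨((⟨c, hc⟩ : C) : C ⧸ S.subgroupOf C), rfl⟩

end Parity

variable {G : Type u} [Group G] [Finite G] {t x z x' : G} {e s n : ℕ → G}

open Classical in
/-- The sign on `S`. -/
noncomputable def Data.lam (D : Data t x z e s n x') : D.SG →* ℤˣ where
  toFun g := if x * (g : G) = g * x then 1 else -1
  map_one' := by simp
  map_mul' := by
    intro a b
    have ha := D.SG_x a.2
    have hb := D.SG_x b.2
    have hzb : (b : G) * z = z * b := D.SG_comm b.2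
    have hab : x * ((a : G) * b) = a * b * x ∨ x * ((a : G) * b) = a * b * x * z := D.SG_x (a * b).2
    have hne : ∀ g : G, g ≠ g * z := fun g h => D.z_ne (mul_left_cancel (h.symm.trans (mul_one g).symm))
    change (if x * ((a : G) * b) = a * b * x then (1 : ℤˣ) else -1) =
      (if x * (a : G) = a * x then 1 else -1) * (if x * (b : G) = b * x then 1 else -1)
    rcases ha with ha | ha <;> rcases hb with hb | hb
    · have h : x * ((a : G) * b) = a * b * x := by rw [← mul_assoc, ha, mul_assoc, hb, ← mul_assoc]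
      rw [if_pos h, if_pos ha, if_pos hb, one_mul]
    · have h : x * ((a : G) * b) = a * b * x * z := by
        rw [← mul_assoc, ha, mul_assoc, hb]; simp only [mul_assoc]
      have h1 : ¬ x * ((a : G) * b) = a * b * x := fun h' => hne _ (h'.symm.trans h)
      have h2 : ¬ x * (b : G) = b * x := fun h' => hne _ (h'.symm.trans hb)
      rw [if_neg h1, if_pos ha, if_neg h2, one_mul]
    · have h : x * ((a : G) * b) = a * b * x * z := by
        rw [← mul_assoc, ha]
        calc (a : G) * x * z * b = a * x * (z * b) := by group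
          _ = a * (x * b) * z := by rw [← hzb]; group
          _ = a * b * x * z := by rw [hb]; group
      have h1 : ¬ x * ((a : G) * b) = a * b * x := fun h' => hne _ (h'.symm.trans h)
      have h2 : ¬ x * (a : G) = a * x := fun h' => hne _ (h'.symm.trans ha)
      rw [if_neg h1, if_neg h2, if_pos hb, mul_one]
    · have h : x * ((a : G) * b) = a * b * x := by
        rw [← mul_assoc, ha]
        calc (a : G) * x * z * b = a * x * (z * b) := by group
          _ = a * (x * b) * z := by rw [← hzb]; group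
          _ = a * b * x * (z * z) := by rw [hb]; group
          _ = a * b * x := by rw [D.zz, mul_one]
      have h1 : ¬ x * (b : G) = b * x := fun h' => hne _ (h'.symm.trans hb)
      have h2 : ¬ x * (a : G) = a * x := fun h' => hne _ (h'.symm.trans ha)
      rw [if_pos h, if_neg h2, if_neg h1]
      rfl

theorem Data.lam_eq (D : Data t x z e s n x') (g : D.SG) : D.lam g = -1 ↔ x * (g : G) ≠ g * x := by
  classical
  change (if x * (g : G) = g * x then (1 : ℤˣ) else -1) = -1 ↔ _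
  by_cases h : x * (g : G) = g * x
  · rw [if_pos h]
    constructor
    · intro h'; exact absurd h' (by decide)
    · intro h'; exact absurd h h'
  · rw [if_neg h]
    exact ⟨fun _ => h, fun _ => rfl⟩

/-- The group `U`: conjugation maps `t` into `{t, t z}`. -/
def Data.UG (D : Data t x z e s n x') : Subgroup G where
  carrier := {g | g ∈ D.SG ∧ (t * g = g * t ∨ t * g = g * t * z)}
  one_mem' := ⟨one_mem _, Or.inl (by group)⟩
  mul_mem' := by
    rintro a b ⟨ha, ha'⟩ ⟨hb, hb'⟩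
    refine ⟨mul_mem ha hb, ?_⟩
    have hzb : b * z = z * b := D.SG_comm hb
    rcases ha' with ha' | ha' <;> rcases hb' with hb' | hb'
    · left; rw [← mul_assoc, ha', mul_assoc, hb', ← mul_assoc]
    · right; rw [← mul_assoc, ha', mul_assoc, hb']; simp only [mul_assoc]
    · right
      rw [← mul_assoc, ha']
      calc a * t * z * b = a * t * (z * b) := by group
        _ = a * (t * b) * z := by rw [← hzb]; group
        _ = a * b * t * z := by rw [hb']; group
    · left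
      rw [← mul_assoc, ha']
      calc a * t * z * b = a * t * (z * b) := by group
        _ = a * (t * b) * z := by rw [← hzb]; group
        _ = a * b * t * (z * z) := by rw [hb']; group
        _ = a * b * t := by rw [D.zz, mul_one]
  inv_mem' := by
    rintro a ⟨ha, ha'⟩
    refine ⟨inv_mem ha, ?_⟩
    have hza : a⁻¹ * z = z * a⁻¹ := D.SG_comm (inv_mem ha)
    rcases ha' with ha' | ha'
    · left
      calc t * a⁻¹ = a⁻¹ * (a * t) * a⁻¹ := by group
        _ = a⁻¹ * t := by rw [← ha']; group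
    · right
      calc t * a⁻¹ = a⁻¹ * (a * t * z) * (z * a⁻¹) := by
            calc t * a⁻¹ = t * (z * z) * a⁻¹ := by rw [D.zz, mul_one]
              _ = _ := by group
        _ = a⁻¹ * (t * a) * (a⁻¹ * z) := by rw [← ha', hza]
        _ = a⁻¹ * t * z := by group

theorem Data.TG_pgroup (D : Data t x z e s n x') : IsPGroup 2 D.TG := D.SG_pgroup.to_le inf_le_left

theorem Data.UG_le (D : Data t x z e s n x') : D.UG ≤ D.SG := fun _ h => h.1

theorem Data.UG_pgroup (D : Data t x z e s n x') : IsPGroup 2 D.UG := D.SG_pgroup.to_le D.UG_le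

theorem Data.TG_le_UG (D : Data t x z e s n x') : D.TG ≤ D.UG := fun g h =>
  ⟨(D.mem_TG.1 h).1, Or.inl (D.mem_TG.1 h).2.symm⟩

/-- Every element of `M` commutes with `t` up to `z`. -/
theorem Data.MG_le_UG (D : Data t x z e s n x') : D.MG ≤ D.UG := by
  intro g hg
  refine ⟨D.MG_le hg, ?_⟩
  obtain ⟨c, hc, rfl⟩ := D.mem_MG.1 hg
  obtain ⟨v, hv, b, rfl⟩ := (mem_MM _ _).1 hc
  have h1 := D.toBase.cd.row_ph (i := 0) (by norm_num) v
  have h2 : ∀ b : Bool, ∀ g : Cz z, g * zb (zC z) b = zb (zC z) b * g := fun b g => D.toBase.cd.zbc b g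
  have h3 : D.toBase.wC 0 * (ph (WL D.toBase.wC) v * zb (zC z) b) =
      (ph (WL D.toBase.wC) v * zb (zC z) b) * D.toBase.wC 0 * zb (zC z) (par (row 0) v) := by
    rw [← mul_assoc, h1]
    calc ph (WL D.toBase.wC) v * D.toBase.wC 0 * zb (zC z) (par (row 0) v) * zb (zC z) b
        = ph (WL D.toBase.wC) v * D.toBase.wC 0 * (zb (zC z) (par (row 0) v) * zb (zC z) b) := by group
      _ = ph (WL D.toBase.wC) v * (D.toBase.wC 0 * zb (zC z) b) * zb (zC z) (par (row 0) v) := by rw [h2]; group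
      _ = _ := by rw [h2 b (D.toBase.wC 0)]; group
  cases h4 : par (row 0) v
  · left
    have h6 : (zb (zC z) false : Cz z) = 1 := rfl
    rw [h4, h6, mul_one] at h3
    exact congrArg Subtype.val h3
  · right
    rw [h4] at h3
    exact congrArg Subtype.val h3

/-- The fixed cosets. -/
theorem fixed_iff {S T : Subgroup G} {g : G} :
    (∀ τ ∈ T, τ • (g : G ⧸ S) = (g : G ⧸ S)) ↔ ∀ τ ∈ T, g⁻¹ * τ * g ∈ S := by
  constructor
  · intro h τ hτ
    have h1 := h τ hτ
    rw [MulAction.Quotient.smul_mk, smul_eq_mul, eq_comm, QuotientGroup.eq, ← mul_assoc] at h1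
    exact h1
  · intro h τ hτ
    rw [MulAction.Quotient.smul_mk, smul_eq_mul, eq_comm, QuotientGroup.eq, ← mul_assoc]
    exact h τ hτ

theorem Data.xtx (D : Data t x z e s n x') : x⁻¹ * t * x = t * z := by
  have := D.toBase.xt
  calc x⁻¹ * t * x = x⁻¹ * (t * x) := by group
    _ = x⁻¹ * (x * t * z) := by rw [D.tx]
    _ = t * z := by group

/-- The first step: `z` is fixed. -/
theorem Data.stepA (D : Data t x z e s n x') {g : G} (h : ∀ τ ∈ D.TG, g⁻¹ * τ * g ∈ D.SG) : g * z = z * g := by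
  have key : ∀ a ∈ D.TG, (g * z * g⁻¹) * a = a * (g * z * g⁻¹) := by
    intro a ha
    have h1 := D.SG_comm (h a ha)
    calc (g * z * g⁻¹) * a = g * (z * (g⁻¹ * a * g)) * g⁻¹ := by group
      _ = g * ((g⁻¹ * a * g) * z) * g⁻¹ := by rw [h1]
      _ = a * (g * z * g⁻¹) := by group
  have ht : t ∈ D.TG := D.mem_TG.2 ⟨D.MG_le D.t_mem, rfl⟩
  have he : ∀ S < 8, e S ∈ D.TG := fun S hS => D.mem_TG.2 ⟨D.MG_le (D.e_mem hS), (D.te S hS).symm⟩
  rcases D.cQ _ (key t ht) (fun S hS => key _ (he S hS)) with h1 | h1 | h1 | h1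
  · exfalso
    apply D.z_ne
    calc z = g⁻¹ * (g * z * g⁻¹) * g := by group
      _ = 1 := by rw [h1]; group
  · exact absurd (isConj_iff.2 ⟨g, h1⟩ : IsConj z t).symm D.nz
  · calc g * z = (g * z * g⁻¹) * g := by group
      _ = z * g := by rw [h1]
  · exfalso
    have h2 : IsConj z (t * z) := isConj_iff.2 ⟨g, h1⟩
    have h3 : IsConj t (t * z) := isConj_iff.2 ⟨x⁻¹, by rw [inv_inv]; exact D.xtx⟩
    exact D.nz (h3.trans h2.symm)

/-- Conjugates of `x` under `C(t) ∩ C(z)`. -/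
theorem Data.conj_x (D : Data t x z e s n x') {c : G} (hct : c * t = t * c) (hcz : c * z = z * c) :
    c⁻¹ * x * c = x ∨ c⁻¹ * x * c = x * z := by
  have hxQ : ∀ q ∈ closure (e '' Set.Iio 8), x * q = q * x := by
    intro q hq
    have h1 : closure (e '' Set.Iio 8) ≤ centralizer ({x} : Set G) := by
      rw [closure_le]
      rintro _ ⟨S, hS, rfl⟩
      rw [SetLike.mem_coe, mem_centralizer_singleton_iff]
      exact (D.xe S hS).symm
    exact (mem_centralizer_singleton_iff.1 (h1 hq)).symm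
  have hct' : c⁻¹ * t = t * c⁻¹ := by
    calc c⁻¹ * t = c⁻¹ * (t * c) * c⁻¹ := by group
      _ = t * c⁻¹ := by rw [← hct]; group
  have hcz' : c⁻¹ * z = z * c⁻¹ := by
    calc c⁻¹ * z = c⁻¹ * (z * c) * c⁻¹ := by group
      _ = z * c⁻¹ := by rw [← hcz]; group
  have h1 : ∀ S < 8, (x⁻¹ * (c⁻¹ * x * c)) * e S = e S * (x⁻¹ * (c⁻¹ * x * c)) := by
    intro S hS
    have h2 := hxQ _ (D.norm c⁻¹ hct' hcz' S hS)
    rw [inv_inv] at h2
    have h3 : x⁻¹ * e S = e S * x⁻¹ := by
      calc x⁻¹ * e S = x⁻¹ * (e S * x) * x⁻¹ := by group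
        _ = e S * x⁻¹ := by rw [← D.xe S hS]; group
    calc (x⁻¹ * (c⁻¹ * x * c)) * e S = x⁻¹ * (c⁻¹ * (x * (c * e S * c⁻¹)) * c) := by group
      _ = x⁻¹ * (c⁻¹ * ((c * e S * c⁻¹) * x) * c) := by rw [h2]
      _ = (x⁻¹ * e S) * (c⁻¹ * x * c) := by group
      _ = _ := by rw [h3]; group
  have h2 : (x⁻¹ * (c⁻¹ * x * c)) * t = t * (x⁻¹ * (c⁻¹ * x * c)) := by
    have hxi : x⁻¹ * t = t * z * x⁻¹ := by
      calc x⁻¹ * t = (x⁻¹ * t * x) * x⁻¹ := by group
        _ = t * z * x⁻¹ := by rw [D.xtx]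
    calc (x⁻¹ * (c⁻¹ * x * c)) * t = x⁻¹ * (c⁻¹ * x * (c * t)) := by group
      _ = x⁻¹ * (c⁻¹ * (x * t) * c) := by rw [hct]; group
      _ = x⁻¹ * ((c⁻¹ * t) * (x * z) * c) := by rw [D.toBase.xt]; group
      _ = x⁻¹ * ((t * c⁻¹) * (z * x) * c) := by rw [hct', D.zx]
      _ = x⁻¹ * t * ((c⁻¹ * z) * x * c) := by group
      _ = t * z * x⁻¹ * (z * (c⁻¹ * x * c)) := by rw [hxi, hcz']; group
      _ = t * (z * (x⁻¹ * z)) * (c⁻¹ * x * c) := by group
      _ = t * (z * (z * x⁻¹)) * (c⁻¹ * x * c) := by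
          have : x⁻¹ * z = z * x⁻¹ := by
            calc x⁻¹ * z = x⁻¹ * (z * x) * x⁻¹ := by group
              _ = z * x⁻¹ := by rw [D.zx]; group
          rw [this]
      _ = t * ((z * z) * (x⁻¹ * (c⁻¹ * x * c))) := by group
      _ = _ := by rw [D.zz, one_mul]
  have hsq : (c⁻¹ * x * c) * (c⁻¹ * x * c) = 1 := by
    calc (c⁻¹ * x * c) * (c⁻¹ * x * c) = c⁻¹ * (x * x) * c := by group
      _ = 1 := by rw [D.xx]; group
  have hxt : (x * t) * (x * t) = z := by
    calc (x * t) * (x * t) = x * (t * x) * t := by group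
      _ = x * (x * t * z) * t := by rw [D.tx]
      _ = (x * x) * (t * (z * t)) := by group
      _ = z := by rw [D.xx, one_mul, D.zt, ← mul_assoc, D.tt, one_mul]
  have h3 : c⁻¹ * x * c = x * (x⁻¹ * (c⁻¹ * x * c)) := by group
  rcases D.cQ _ h2 h1 with h | h | h | h
  · left; rw [h3, h, mul_one]
  · exfalso
    rw [h] at h3
    rw [h3, hxt] at hsq
    exact D.z_ne hsq
  · right; rw [h3, h]
  · exfalso
    rw [h] at h3
    rw [h3] at hsq
    apply D.z_ne
    have h4 : x * (t * z) * (x * (t * z)) = z := by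
      calc x * (t * z) * (x * (t * z)) = x * t * (z * x) * (t * z) := by group
        _ = (x * t) * (x * (z * t) * z) := by rw [D.zx]; group
        _ = (x * t) * (x * t) * (z * z) := by rw [D.zt]; group
        _ = z := by rw [hxt, D.zz, mul_one]
    rw [← h4, hsq]


/-- Three cases for `d`. -/
theorem Data.stepC (D : Data t x z e s n x') {d : G} (hd : d ∈ D.MG) (hdd : d * d = 1) (hdx : x * d ≠ d * x) :
    (∃ k ∈ D.SG, k⁻¹ * d * k = t) ∨
    (∃ k ∈ D.SG, ∃ u : G, u ^ 5 = 1 ∧ u ≠ 1 ∧ u * z = z * u ∧ u * (k⁻¹ * d * k) = (k⁻¹ * d * k) * u) ∨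
    (∀ A : Subgroup G, A ≤ D.SG → (∀ a ∈ A, a * d = d * a) → 18 * Nat.card A ≤ 2 ^ 18) := by
  classical
  have C := D.toBase.cd
  have Q := quo (z := z) D.zz
  obtain ⟨d', hd', rfl⟩ := D.mem_MG.1 hd
  obtain ⟨v, hv, b, rfl⟩ := (mem_MM _ _).1 hd'
  have hzb2 : ∀ b : Bool, zb (zC z) b * zb (zC z) b = 1 := by
    intro b
    rw [← zb_xor C.zz, Bool.xor_self]; rfl
  -- `v` is singular
  have hsq : sqf tails v = false := by
    apply zb_eq_one C.z1
    rw [← sq_ph C.zz C.zc C.tc v]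
    have h1 : (ph (WL D.toBase.wC) v * zb (zC z) b) * (ph (WL D.toBase.wC) v * zb (zC z) b) = 1 := Subtype.ext hdd
    calc ph (WL D.toBase.wC) v * ph (WL D.toBase.wC) v
        = ph (WL D.toBase.wC) v * ph (WL D.toBase.wC) v * (zb (zC z) b * zb (zC z) b) := by rw [hzb2, mul_one]
      _ = ph (WL D.toBase.wC) v * (ph (WL D.toBase.wC) v * zb (zC z) b) * zb (zC z) b := by group
      _ = ph (WL D.toBase.wC) v * (zb (zC z) b * ph (WL D.toBase.wC) v) * zb (zC z) b := by
          rw [C.zbc b (ph (WL D.toBase.wC) v)]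
      _ = 1 := by rw [← h1]; group
  -- `v` is odd
  have hodd : v % 2 = 1 := by
    by_contra hne
    apply hdx
    have h1 := C.row_ph (i := 1) (by norm_num) v
    rw [par_row1 v hv] at h1
    have h2 : (v % 2 == 1) = false := by simpa using hne
    have h3 : (zb (zC z) false : Cz z) = 1 := rfl
    rw [h2, h3, mul_one] at h1
    have h4 : D.toBase.wC 1 * (ph (WL D.toBase.wC) v * zb (zC z) b) = (ph (WL D.toBase.wC) v * zb (zC z) b) *
        D.toBase.wC 1 := by
      rw [← mul_assoc, h1, mul_assoc, C.zbc, ← mul_assoc]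
    exact congrArg Subtype.val h4
  have hxd : D.toBase.wC 1 * (ph (WL D.toBase.wC) v * zb (zC z) b) = (ph (WL D.toBase.wC) v * zb (zC z) b) *
        D.toBase.wC 1 * zC z := by
    have h1 := C.row_ph (i := 1) (by norm_num) v
    rw [par_row1 v hv] at h1
    have h2 : (v % 2 == 1) = true := by simpa using hodd
    have h3 : (zb (zC z) true : Cz z) = zC z := rfl
    rw [h2, h3] at h1
    rw [← mul_assoc, h1]
    calc ph (WL D.toBase.wC) v * D.toBase.wC 1 * zC z * zb (zC z) b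
        = ph (WL D.toBase.wC) v * D.toBase.wC 1 * (zC z * zb (zC z) b) := by group
      _ = ph (WL D.toBase.wC) v * (D.toBase.wC 1 * zb (zC z) b) * zC z := by rw [C.zbc]; group
      _ = _ := by rw [C.zbc]; group
  -- conjugates
  have hconj : ∀ (k : Cz z) (m : List ℕ), Act (piz z) D.toBase.wC k m →
      ∃ b' : Bool, k⁻¹ * (ph (WL D.toBase.wC) v * zb (zC z) b) * k = ph (WL D.toBase.wC) (ap m v) * zb (zC z) b' := by
    intro k m hk
    have h1 := hk.conj C Q v
    rw [Q.eq_iff] at h1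
    have h2 : k⁻¹ * (ph (WL D.toBase.wC) v * zb (zC z) b) * k =
        (k⁻¹ * ph (WL D.toBase.wC) v * k) * zb (zC z) b := by
      calc k⁻¹ * (ph (WL D.toBase.wC) v * zb (zC z) b) * k
          = k⁻¹ * ph (WL D.toBase.wC) v * (zb (zC z) b * k) := by group
        _ = _ := by rw [← C.zbc]; group
    rcases h1 with h1 | h1
    · exact ⟨b, by rw [h2, h1]⟩
    · refine ⟨xor true b, ?_⟩
      rw [h2, h1, zb_xor C.zz, mul_assoc]
      rfl
  rcases orbits v hv hsq hodd with ⟨m, hm, h⟩ | ⟨m, hm, h⟩ | h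
  · left
    obtain ⟨k, hk⟩ := D.real m hm
    obtain ⟨b', h1⟩ := hconj k m hk
    rw [h] at h1
    have h2 : ((ph (WL D.toBase.wC) 1 : Cz z) : G) = t := by
      rw [D.toBase.coe_ph]; simp only [ph, _root_.Cfsg.Agent.StdO8.Shadow.ph, _root_.Nat.mod_succ, ↓ _root_.reduceIte, _root_.Nat.reduceDiv, _root_.Nat.zero_mod, _root_.zero_ne_one, _root_.Nat.zero_div, _root_.mul_one]
    have hkS : (k : G) ∈ D.SG := ⟨k, ⟨m, hm, hk⟩, rfl⟩
    cases b'
    · refine ⟨k, hkS, ?_⟩
      have h3 := congrArg Subtype.val h1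
      have h4 : (zb (zC z) false : Cz z) = 1 := rfl
      rw [h4, mul_one] at h3
      rw [h2] at h3
      exact h3
    · refine ⟨k * x, D.SG.mul_mem hkS (D.MG_le D.x_mem), ?_⟩
      have h3 : (k : G)⁻¹ * ((ph (WL D.toBase.wC) v * zb (zC z) b : Cz z) : G) * k = t * z := by
        have := congrArg Subtype.val h1
        exact this.trans (congrArg (fun y => y * z) h2)
      calc (k * x : G)⁻¹ * ((ph (WL D.toBase.wC) v * zb (zC z) b : Cz z) : G) * (k * x)
          = x⁻¹ * ((k : G)⁻¹ * ((ph (WL D.toBase.wC) v * zb (zC z) b : Cz z) : G) * k) * x := by group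
        _ = x⁻¹ * t * (z * x) := by rw [h3]; group
        _ = (x⁻¹ * t * x) * z := by rw [D.zx]; group
        _ = t * (z * z) := by rw [D.xtx, mul_assoc]
        _ = t := by rw [D.zz, mul_one]
  · right; left
    obtain ⟨k, hk⟩ := D.real m hm
    obtain ⟨b', h1⟩ := hconj k m hk
    rw [h] at h1
    obtain ⟨w, hw⟩ := D.real5
    have hkS : (k : G) ∈ D.SG := ⟨k, ⟨m, hm, hk⟩, rfl⟩
    -- `w` commutes with `ph 161` up to `z`
    set p : Cz z := ph (WL D.toBase.wC) 161 * zb (zC z) b' with hp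
    have h2 : p * w = w * p ∨ p * w = w * p * zC z := by
      have h3 := hw.conj C Q 161
      rw [h5_fix, Q.eq_iff] at h3
      have h4 : w⁻¹ * p * w = (w⁻¹ * ph (WL D.toBase.wC) 161 * w) * zb (zC z) b' := by
        calc w⁻¹ * p * w = w⁻¹ * ph (WL D.toBase.wC) 161 * (zb (zC z) b' * w) := by rw [hp]; group
          _ = _ := by rw [← C.zbc]; group
      rcases h3 with h3 | h3
      · left
        rw [h3, ← hp] at h4
        calc p * w = w * (w⁻¹ * p * w) := by group
          _ = w * p := by rw [h4]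
      · right
        have h5 : ph (WL D.toBase.wC) 161 * zC z * zb (zC z) b' = p * zC z := by
          rw [hp, mul_assoc, mul_assoc, C.zbc]
        rw [h3, h5] at h4
        calc p * w = w * (w⁻¹ * p * w) := by group
          _ = w * p * zC z := by rw [h4]; group
    have h3 : p * (w * w) = w * w * p := by
      rcases h2 with h2 | h2
      · rw [← mul_assoc, h2, mul_assoc, h2, ← mul_assoc]
      · calc p * (w * w) = (p * w) * w := by group
          _ = w * p * (zC z * w) := by rw [h2]; group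
          _ = w * (p * w) * zC z := by rw [← C.zc w]; group
          _ = w * w * p * (zC z * zC z) := by rw [h2]; group
          _ = w * w * p := by rw [C.zz, mul_one]
    have h4 : w * w * w * w = w ^ 4 := by simp only [pow_succ, pow_zero, one_mul]
    have h5 : w * w * w * w * w = w ^ 5 := by simp only [pow_succ, pow_zero, one_mul]
    have a2 := hw.mul C Q hw
    have a3 := a2.mul C Q hw
    have a4 := a3.mul C Q hw
    have a5 := a4.mul C Q hw
    rw [h5_pow5] at a5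
    have h6 := SS_pow C Q (MM_le_SS C Q (mem_MM_of_act C Q a5))
    -- `w ^ (5 * 32) = 1`; take `u = w ^ 96` (`96 = 1 mod 5`, `= 0 mod 32`)
    have h7 : w ^ 160 = 1 := by
      rw [h5, ← pow_mul] at h6
      exact h6
    have h8 : w ^ 96 ≠ 1 := by
      intro h9
      -- then `w ^ gcd(96, 160) = w ^ 32 = 1`; `w^4` acts nontrivially
      have h10 : w ^ 32 = 1 := by
        have : w ^ 192 = 1 := by rw [show 192 = 96 * 2 by norm_num, pow_mul, h9, one_pow]
        rw [show 192 = 160 + 32 by norm_num, pow_add, h7, one_mul] at this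
        exact this
      -- `w ^ 35 = w ^ 3` acts trivially together with `w ^ 5`: so does `w`
      have hM5 : w ^ 5 ∈ MM C Q := by rw [← h5]; exact mem_MM_of_act C Q a5
      have hM32 : w ^ 32 ∈ MM C Q := by rw [h10]; exact one_mem _
      have hM35 : w ^ 35 ∈ MM C Q := by
        rw [show 35 = 5 * 7 by norm_num, pow_mul]; exact pow_mem hM5 7
      have hM3 : w ^ 3 ∈ MM C Q := by
        have : w ^ 3 = (w ^ 32)⁻¹ * w ^ 35 := by
          rw [eq_inv_mul_iff_mul_eq, ← pow_add]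
        rw [this]
        exact mul_mem (inv_mem hM32) hM35
      have hM9 : w ^ 9 ∈ MM C Q := by
        rw [show 9 = 3 * 3 by norm_num, pow_mul]; exact pow_mem hM3 3
      have hM4 : w ^ 4 ∈ MM C Q := by
        have : w ^ 4 = (w ^ 5)⁻¹ * w ^ 9 := by
          rw [eq_inv_mul_iff_mul_eq, ← pow_add]
        rw [this]
        exact mul_mem (inv_mem hM5) hM9
      have a4' := MM_act C Q hM4
      rw [← h4] at a4'
      exact h5_pow4 (a4.uniq C Q (mulM_lt h5_lt) idM_lt a4')
    refine ⟨k, hkS, (w ^ 96 : Cz z), ?_, ?_, ?_, ?_⟩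
    · have : (w ^ 96) ^ 5 = 1 := by
        rw [← pow_mul, show 96 * 5 = 160 * 3 by norm_num, pow_mul, h7, one_pow]
      exact congrArg Subtype.val this
    · intro h9
      exact h8 (Subtype.ext h9)
    · exact mem_Cz.1 (w ^ 96).2
    · have h9 : p * w ^ 96 = w ^ 96 * p := by
        have h10 : Commute p (w * w) := h3
        have h11 := h10.pow_right 48
        rw [← pow_two, ← pow_mul] at h11
        exact h11
      have h10 : (w ^ 96) * (k⁻¹ * (ph (WL D.toBase.wC) v * zb (zC z) b) * k) =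
          (k⁻¹ * (ph (WL D.toBase.wC) v * zb (zC z) b) * k) * (w ^ 96) := by
        rw [h1, h9]
      exact congrArg Subtype.val h10
  · right; right
    intro A hA hAd
    choose! r hr using D.real
    set W : Finset ℕ := (RL.map (fun m => ap m v)).toFinset with hW
    have hWc : 9 ≤ W.card := h.trans (cnt_le _ _ (fun a ha => List.mem_toFinset.2 ha))
    have hWm : ∀ w : W, ∃ m ∈ SL, ap m v = w := by
      rintro ⟨w, hw⟩
      rw [hW, List.mem_toFinset, List.mem_map] at hw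
      obtain ⟨m, hm, h1⟩ := hw
      exact ⟨m, RL_mem m hm, h1⟩
    choose μ hμ1 hμ2 using hWm
    set d₀ : Cz z := ph (WL D.toBase.wC) v * zb (zC z) b with hd0
    have hA' : ∀ a : A, ∃ a' : Cz z, (a' : G) = a ∧ a' * d₀ = d₀ * a' ∧ a' ∈ SS C Q := by
      rintro ⟨a, ha⟩
      obtain ⟨a', h1, h2⟩ := D.mem_SG.1 (hA ha)
      refine ⟨a', h2, Subtype.ext ?_, h1⟩
      change (a' : G) * (d₀ : G) = d₀ * a'
      rw [h2]
      exact hAd a ha
    choose α hα1 hα2 hα3 using hA'
    have hx1 : D.toBase.wC 1 ∈ SS C Q := MM_le_SS C Q (D.wC_mem (by norm_num))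
    let xb : Bool → Cz z := fun c => if c then D.toBase.wC 1 else 1
    have hxb : ∀ c, (xb c)⁻¹ * d₀ * xb c = d₀ * zb (zC z) c := by
      intro c
      cases c
      · simp [xb, zb]
      · change (D.toBase.wC 1)⁻¹ * d₀ * D.toBase.wC 1 = d₀ * zC z
        have h1 : d₀ * D.toBase.wC 1 = D.toBase.wC 1 * d₀ * zC z := by
          rw [hxd, mul_assoc (d₀ * D.toBase.wC 1), C.zz, mul_one]
        rw [mul_assoc, h1]
        group
    let f : (W × Bool) × A → SS C Q := fun p =>
      ⟨α p.2 * xb p.1.2 * r (μ p.1.1), mul_mem (mul_mem (hα3 _) (by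
        cases p.1.2
        · exact one_mem _
        · exact hx1)) ⟨_, hμ1 _, hr _ (hμ1 _)⟩⟩
    have hfc : ∀ p, ∃ c : Bool, (f p : Cz z)⁻¹ * d₀ * f p = ph (WL D.toBase.wC) p.1.1 * zb (zC z) c ∧
        (f p : Cz z)⁻¹ * d₀ * f p = ((r (μ p.1.1))⁻¹ * d₀ * r (μ p.1.1)) * zb (zC z) p.1.2 := by
      rintro ⟨⟨w, c⟩, a⟩
      have h1 : (α a * xb c * r (μ w))⁻¹ * d₀ * (α a * xb c * r (μ w)) =
          ((r (μ w))⁻¹ * d₀ * r (μ w)) * zb (zC z) c := by
        calc (α a * xb c * r (μ w))⁻¹ * d₀ * (α a * xb c * r (μ w))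
            = (r (μ w))⁻¹ * ((xb c)⁻¹ * ((α a)⁻¹ * (d₀ * α a)) * xb c) * r (μ w) := by group
          _ = (r (μ w))⁻¹ * ((xb c)⁻¹ * d₀ * xb c) * r (μ w) := by rw [← hα2]; group
          _ = (r (μ w))⁻¹ * d₀ * (zb (zC z) c * r (μ w)) := by rw [hxb]; group
          _ = _ := by rw [← C.zbc]; group
      obtain ⟨b', h2⟩ := hconj (r (μ w)) (μ w) (hr _ (hμ1 _))
      rw [hμ2] at h2
      refine ⟨xor b' c, ?_, h1⟩
      change (α a * xb c * r (μ w))⁻¹ * d₀ * (α a * xb c * r (μ w)) = _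
      rw [h1, h2, zb_xor C.zz, mul_assoc]
    have hf : Function.Injective f := by
      intro p q hpq
      obtain ⟨c, hp1, hp2⟩ := hfc p
      obtain ⟨c', hq1, hq2⟩ := hfc q
      have h1 : (p.1.1 : ℕ) = q.1.1 := by
        have hlt : ∀ w : W, (w : ℕ) < 1024 := fun w => by
          rw [← hμ2 w]; exact ap_lt (SL_getlt (hμ1 w)) v
        apply C.injW Q _ (hlt _) _ (hlt _)
        have h2 : piz z ((f p : Cz z)⁻¹ * d₀ * f p) = piz z ((f q : Cz z)⁻¹ * d₀ * f q) := by rw [hpq]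
        rw [hp1, hq1, Q.zb, Q.zb, map_ph, map_ph] at h2
        exact h2
      have h1' : p.1.1 = q.1.1 := Subtype.ext h1
      have h2 : p.1.2 = q.1.2 := by
        have h3 : (f p : Cz z)⁻¹ * d₀ * f p = (f q : Cz z)⁻¹ * d₀ * f q := by rw [hpq]
        rw [hp2, hq2, h1'] at h3
        have h4 := mul_left_cancel h3
        cases h5 : p.1.2 <;> cases h6 : q.1.2
        · rfl
        · rw [h5, h6] at h4; exact absurd h4.symm (by simpa [zb] using C.z1)
        · rw [h5, h6] at h4; exact absurd h4 (by simpa [zb] using C.z1)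
        · rfl
      have h3 : α p.2 * xb p.1.2 * r (μ p.1.1) = α q.2 * xb q.1.2 * r (μ q.1.1) := congrArg Subtype.val hpq
      rw [h1', h2] at h3
      have h4 : α p.2 = α q.2 := mul_right_cancel (mul_right_cancel h3)
      have h5 : p.2 = q.2 := Subtype.ext (by rw [← hα1, ← hα1, h4])
      exact Prod.ext (Prod.ext h1' h2) h5
    have h1 := Nat.card_le_card_of_injective f hf
    rw [Nat.card_prod, Nat.card_prod, Nat.card_eq_fintype_card (α := W), Fintype.card_coe,
      Nat.card_eq_fintype_card (α := Bool), Fintype.card_bool, D.card_SS] at h1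
    refine le_trans (Nat.mul_le_mul_right _ ?_) h1
    omega


/-- (iv): the index is odd. -/
theorem Data.idx (D : Data t x z e s n x') :
    D.SG.relIndex (centralizer ({t} : Set G) ⊓ centralizer ({z} : Set G)) % 2 = 1 := by
  set C0 : Subgroup G := centralizer ({t} : Set G) ⊓ centralizer ({z} : Set G) with hC0
  by_contra hne
  have heven : 2 ∣ D.SG.relIndex C0 := by omega
  have h1 : Nat.card (D.SG.subgroupOf C0) * D.SG.relIndex C0 = Nat.card C0 := Subgroup.card_mul_index _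
  have h2 : Nat.card (D.SG.subgroupOf C0) = Nat.card D.TG := by
    have hle : D.TG ≤ C0 := by
      intro g hg
      obtain ⟨h3, h4⟩ := D.mem_TG.1 hg
      exact Subgroup.mem_inf.2 ⟨mem_centralizer_singleton_iff.2 h4, mem_centralizer_singleton_iff.2 (D.SG_comm h3)⟩
    have h3 : D.SG.subgroupOf C0 = D.TG.subgroupOf C0 := by
      ext g
      rw [mem_subgroupOf, mem_subgroupOf, D.mem_TG]
      exact ⟨fun h => ⟨h, mem_centralizer_singleton_iff.1 (Subgroup.mem_inf.1 g.2).1⟩, fun h => h.1⟩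
    rw [h3]
    exact Nat.card_congr (Subgroup.subgroupOfEquivOfLe hle).toEquiv
  have : Fact (Nat.Prime 2) := ⟨Nat.prime_two⟩
  obtain ⟨k, hk⟩ := IsPGroup.iff_card.1 D.TG_pgroup
  have hk14 : 14 ≤ k := by
    have := D.card_TG
    rw [hk] at this
    exact (Nat.pow_le_pow_iff_right (by norm_num)).1 this
  apply D.cardC
  have h3 : Nat.card C0 ∣ Nat.card (centralizer ({t} : Set G)) := Subgroup.card_dvd_of_le inf_le_left
  refine dvd_trans ?_ h3
  rw [← h1, h2, hk]
  calc 2 ^ 15 = 2 ^ 14 * 2 := by norm_num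
    _ ∣ 2 ^ k * D.SG.relIndex C0 := Nat.mul_dvd_mul (pow_dvd_pow 2 hk14) heven

theorem Data.UG_conj (D : Data t x z e s n x') {u τ : G} (hu : u ∈ D.UG) (hτ : τ ∈ D.TG) : u⁻¹ * τ * u ∈ D.TG := by
  obtain ⟨h1, h2⟩ := D.mem_TG.1 hτ
  refine D.mem_TG.2 ⟨D.SG.mul_mem (D.SG.mul_mem (D.SG.inv_mem hu.1) h1) hu.1, ?_⟩
  have h3 : τ * (u * t * u⁻¹) = (u * t * u⁻¹) * τ := by
    have hz := D.SG_comm hu.1
    rcases hu.2 with h | h
    · have : u * t * u⁻¹ = t := by rw [← h]; group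
      rw [this, h2]
    · have : u * t * u⁻¹ = t * z := by
        calc u * t * u⁻¹ = u * t * (z * z) * u⁻¹ := by rw [D.zz, mul_one]
          _ = (u * t * z) * z * u⁻¹ := by group
          _ = t * (u * z) * u⁻¹ := by rw [← h]; group
          _ = t * z := by rw [hz]; group
      rw [this]
      calc τ * (t * z) = (τ * t) * z := by group
        _ = t * (τ * z) := by rw [h2]; group
        _ = t * z * τ := by rw [D.SG_comm h1]; group
  calc u⁻¹ * τ * u * t = u⁻¹ * (τ * (u * t * u⁻¹)) * u := by group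
    _ = t * (u⁻¹ * τ * u) := by rw [h3]; group

/-- **The Fi22.2 shadow.** -/
theorem main (D : Data t x z e s n x') : ∃ m : G →* ℤˣ, m t = -1 := by
  refine StdSpSix.TR.exists_hom_of_fixed D.lam D.tt D.TG D.TG_pgroup (fun y hy => (D.mem_TG.1 hy).2) ?_
  set C0 : Subgroup G := centralizer ({t} : Set G) ⊓ centralizer ({z} : Set G) with hC0
  have hC0m : ∀ g, g ∈ C0 ↔ g * t = t * g ∧ g * z = z * g := by
    intro g
    rw [hC0, Subgroup.mem_inf, mem_centralizer_singleton_iff, mem_centralizer_singleton_iff]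
  have hTfix : ∀ g : G, (∀ τ ∈ D.TG, τ • (g : G ⧸ D.SG) = (g : G ⧸ D.SG)) → g * z = z * g :=
    fun g h => D.stepA (fixed_iff.1 h)
  -- the first parity
  have hB := parity D.UG_pgroup (S := D.SG)
    (fun q => StdSpSix.TR.Bad D.lam t q ∧ ∀ τ ∈ D.TG, τ • q = q) (by
      rintro u hu q ⟨⟨g, rfl, h, hl⟩, hfix⟩
      have hgz := hTfix g hfix
      rw [fixed_iff] at hfix
      have hux : u • (g : G ⧸ D.SG) = ((u * g : G) : G ⧸ D.SG) := rfl
      rw [hux]
      constructor
      · have hc : (u * g)⁻¹ * t * (u * g) = g⁻¹ * t * g ∨ (u * g)⁻¹ * t * (u * g) = g⁻¹ * t * g * z := by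
          rcases hu.2 with h1 | h1
          · left
            calc (u * g)⁻¹ * t * (u * g) = g⁻¹ * (u⁻¹ * (t * u)) * g := by group
              _ = g⁻¹ * t * g := by rw [h1]; group
          · right
            calc (u * g)⁻¹ * t * (u * g) = g⁻¹ * (u⁻¹ * (t * u)) * g := by group
              _ = g⁻¹ * t * (z * g) := by rw [h1]; group
              _ = g⁻¹ * t * g * z := by rw [← hgz]; group
        rw [D.lam_eq] at hl
        change x * (g⁻¹ * t * g) ≠ (g⁻¹ * t * g) * x at hl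
        rcases hc with hc | hc
        · refine ⟨u * g, rfl, by rw [hc]; exact h, ?_⟩
          rw [D.lam_eq]
          change x * ((u * g)⁻¹ * t * (u * g)) ≠ ((u * g)⁻¹ * t * (u * g)) * x
          rw [hc]
          exact hl
        · refine ⟨u * g, rfl, by rw [hc]; exact D.SG.mul_mem h (D.MG_le D.z_mem), ?_⟩
          rw [D.lam_eq]
          change x * ((u * g)⁻¹ * t * (u * g)) ≠ ((u * g)⁻¹ * t * (u * g)) * x
          rw [hc]
          intro h'
          apply hl
          apply mul_right_cancel (b := z)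
          calc x * (g⁻¹ * t * g) * z = x * (g⁻¹ * t * g * z) := by group
            _ = g⁻¹ * t * g * (z * x) := by rw [h']; group
            _ = g⁻¹ * t * g * x * z := by rw [D.zx]; group
      · rw [fixed_iff]
        intro τ hτ
        have h1 := hfix _ (D.UG_conj hu hτ)
        have h2 : (u * g)⁻¹ * τ * (u * g) = g⁻¹ * (u⁻¹ * τ * u) * g := by group
        rw [h2]
        exact h1)
  -- the second parity
  have hY := parity D.UG_pgroup (S := D.SG) (fun q => ∃ c ∈ C0, (c : G ⧸ D.SG) = q) (by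
      rintro u hu q ⟨c, hc, rfl⟩
      obtain ⟨hct, hcz⟩ := (hC0m c).1 hc
      have huz := D.SG_comm hu.1
      rcases hu.2 with h1 | h1
      · exact ⟨u * c, (hC0m _).2 ⟨by rw [mul_assoc, hct, ← mul_assoc, ← h1, mul_assoc],
          by rw [mul_assoc, hcz, ← mul_assoc, huz, mul_assoc]⟩, rfl⟩
      · have hux : (u * x) * t = t * (u * x) := by
          calc (u * x) * t = u * (x * t) := by group
            _ = u * t * (x * z) := by rw [D.toBase.xt]; group
            _ = (u * t * z) * x := by rw [← D.zx]; group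
            _ = t * (u * x) := by rw [← h1]; group
        have huxz : (u * x) * z = z * (u * x) := by
          rw [mul_assoc, ← D.zx, ← mul_assoc, huz, mul_assoc]
        refine ⟨u * x * c, (hC0m _).2 ⟨by rw [mul_assoc, hct, ← mul_assoc, hux, mul_assoc],
          by rw [mul_assoc, hcz, ← mul_assoc, huxz, mul_assoc]⟩, ?_⟩
        change ((u * x * c : G) : G ⧸ D.SG) = ((u * c : G) : G ⧸ D.SG)
        rw [eq_comm, QuotientGroup.eq]
        have h2 : (u * c)⁻¹ * (u * x * c) = c⁻¹ * x * c := by group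
        rw [h2]
        rcases D.conj_x hct hcz with h3 | h3
        · rw [h3]; exact D.MG_le D.x_mem
        · rw [h3]; exact D.SG.mul_mem (D.MG_le D.x_mem) (D.MG_le D.z_mem))
  have hcong : Nat.card {q : G ⧸ D.SG // (StdSpSix.TR.Bad D.lam t q ∧ ∀ τ ∈ D.TG, τ • q = q) ∧ ∀ u ∈ D.UG, u • q = q} =
      Nat.card {q : G ⧸ D.SG // (∃ c ∈ C0, (c : G ⧸ D.SG) = q) ∧ ∀ u ∈ D.UG, u • q = q} := by
    apply Nat.card_congr
    apply Equiv.subtypeEquivRight
    intro q
    constructor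
    · rintro ⟨⟨⟨g, rfl, h, hl⟩, hfix⟩, hU⟩
      refine ⟨?_, hU⟩
      have hgz := hTfix g hfix
      rw [fixed_iff] at hfix hU
      rw [D.lam_eq] at hl
      change x * (g⁻¹ * t * g) ≠ (g⁻¹ * t * g) * x at hl
      have hM := D.weakG hgz (fun a ha => hU a (D.MG_le_UG ha))
      have hd := hM t D.t_mem
      have hdd : (g⁻¹ * t * g) * (g⁻¹ * t * g) = 1 := by
        calc (g⁻¹ * t * g) * (g⁻¹ * t * g) = g⁻¹ * (t * t) * g := by group
          _ = 1 := by rw [D.tt]; group
      rcases D.stepC hd hdd hl with ⟨k, hk, h1⟩ | ⟨k, hk, w, h1, h2, h3, h4⟩ | h1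
      · have hkz := D.SG_comm hk
        refine ⟨g * k, (hC0m _).2 ⟨?_, ?_⟩, ?_⟩
        · calc g * k * t = g * k * (k⁻¹ * (g⁻¹ * t * g) * k) := by rw [h1]
            _ = t * (g * k) := by group
        · rw [mul_assoc, hkz, ← mul_assoc, hgz, mul_assoc]
        · rw [eq_comm, QuotientGroup.eq, inv_mul_cancel_left]
          exact hk
      · exfalso
        have hkz := D.SG_comm hk
        apply h2
        have h5 : (g * k) * w * (g * k)⁻¹ = 1 := by
          apply D.five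
          · calc (g * k) * w * (g * k)⁻¹ * t = (g * k) * (w * (k⁻¹ * (g⁻¹ * t * g) * k)) * (g * k)⁻¹ := by group
              _ = t * ((g * k) * w * (g * k)⁻¹) := by rw [h4]; group
          · have h6 : (g * k) * z = z * (g * k) := by rw [mul_assoc, hkz, ← mul_assoc, hgz, mul_assoc]
            calc (g * k) * w * (g * k)⁻¹ * z = (g * k) * w * ((g * k)⁻¹ * (z * (g * k))) * (g * k)⁻¹ := by group
              _ = (g * k) * (w * z) * (g * k)⁻¹ := by rw [← h6]; group
              _ = ((g * k) * z) * w * (g * k)⁻¹ := by rw [h3]; group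
              _ = z * ((g * k) * w * (g * k)⁻¹) := by rw [h6]; group
          · rw [conj_pow, h1]; group
        calc w = (g * k)⁻¹ * ((g * k) * w * (g * k)⁻¹) * (g * k) := by group
          _ = 1 := by rw [h5]; group
      · exfalso
        have h2 := h1 (D.TG.map (MulAut.conj g⁻¹).toMonoidHom) (by
          rintro _ ⟨τ, hτ, rfl⟩
          have := hfix τ hτ
          simpa only [_root_.map_inv, _root_.MulEquiv.toMonoidHom_eq_coe, _root_.MonoidHom.coe_coe, _root_.MulAut.inv_apply, _root_.MulAut.conj_symm_apply] using this) (by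
          rintro _ ⟨τ, hτ, rfl⟩
          have h3 := (D.mem_TG.1 hτ).2
          change g⁻¹ * τ * g⁻¹⁻¹ * (g⁻¹ * t * g) = (g⁻¹ * t * g) * (g⁻¹ * τ * g⁻¹⁻¹)
          calc g⁻¹ * τ * g⁻¹⁻¹ * (g⁻¹ * t * g) = g⁻¹ * (τ * t) * g := by group
            _ = _ := by rw [h3]; group)
        rw [Subgroup.card_map_of_injective (MulEquiv.injective _)] at h2
        have h3 := D.card_TG
        omega
    · rintro ⟨⟨c, hc, rfl⟩, hU⟩
      obtain ⟨hct, hcz⟩ := (hC0m c).1 hc
      refine ⟨⟨?_, fun τ hτ => hU τ (D.TG_le_UG hτ)⟩, hU⟩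
      have h1 : c⁻¹ * t * c = t := by rw [mul_assoc, ← hct, inv_mul_cancel_left]
      refine ⟨c, rfl, by rw [h1]; exact D.MG_le D.t_mem, ?_⟩
      rw [D.lam_eq]
      change x * (c⁻¹ * t * c) ≠ (c⁻¹ * t * c) * x
      rw [h1, D.tx]
      intro h
      exact D.z_ne (mul_left_cancel (h.symm.trans (mul_one _).symm))
  rw [Nat.odd_iff, hB, hcong, ← hY, card_cosets]
  exact D.idx

end Cfsg.Agent.StdO8.Shadow
end

private theorem dce_c316cae10929 : _root_.True := by
  try have : _root_.True := by simp only [_root_.Cfsg.Agent.StdO8.Shadow.orb1.eq_1]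
  try have : _root_.True := by simp only [_root_.Cfsg.Agent.StdO8.Shadow.mn.eq_3]
  try have : _root_.True := by simp only [_root_.Cfsg.Agent.StandardComponent.FiRedVec.pp.eq_1]
  try have : _root_.True := by simp only [_root_.Cfsg.Agent.StdO8.Shadow.mn.eq_2]
  try have : _root_.True := by simp only [_root_.Cfsg.Agent.StdO8.Shadow.ms.eq_1]
  try have : _root_.True := by simp only [_root_.Cfsg.Agent.StdO8.InstRel.Eleven.eq_1]
  try have : _root_.True := by simp only [_root_.Cfsg.Agent.StdO8.Shadow.mn.eq_1]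
  try have : _root_.True := by simp only [_root_.Cfsg.Agent.StdO8.Shadow.ms.eq_2]
  try have : _root_.True := by simp only [_root_.Cfsg.Agent.StdO8.Shadow.ms.eq_3]
  try have : _root_.True := by simp only [_root_.Cfsg.Agent.StdO8.Shadow.Data.SG.congr_simp]
  try have : _root_.True := by simp only [_root_.Cfsg.Agent.StdO8.Shadow.Base.wC.congr_simp]
  exact _root_.True.intro
end

-- part: StdO8/EvenLin
section
prune_inst 0x101045000500000000180000200004603000000200430000414007020240204320010e01b8201512003084440004002802540000402000000a000000011c018000000202d0c90000000000000800000000000000000000000000000000000000000000000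
set_option linter.all false
open scoped Cfsg.Agent.FastGrp

-- part: StdO8/Triality
section
/-!
# Triality of `Ω₈⁺(2)`: the automorphism

`tri : MulAut Om`, `tri (xm s) = xm (rho s)` for `s` in `D4`.
-/

set_option autoImplicit false

namespace Cfsg.Agent.StdO8.Tri

open Cfsg.Agent.StdO8.Model (V q B X O8 Om)
open Cfsg.Agent.StdO8.D4Root (E ip roots Φ)
open Cfsg.Agent.StdO8.Bas
open Cfsg.Agent.StdO8.DataOf (xm)

/-- Related triples. -/
def Rel (g g2 g3 : V ≃ₗ[ZMod 2] V) : Prop := ∀ v w : Dc.V, th g (pr v w) = pr (th g2 v) (th g3 w)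

theorem Rel.one : Rel 1 1 1 := fun v w => by rw [th_one, th_one, th_one]

theorem Rel.mul {g g2 g3 h h2 h3 : V ≃ₗ[ZMod 2] V} (hg : Rel g g2 g3) (hh : Rel h h2 h3) : Rel (g * h) (g2 * h2) (g3 * h3) :=
  fun v w => by rw [th_mul, th_mul, th_mul, hh, hg]

theorem th_inv_left (g : V ≃ₗ[ZMod 2] V) (v : Dc.V) : th g⁻¹ (th g v) = v := by
  rw [← th_mul, inv_mul_cancel, th_one]

theorem th_inv_right (g : V ≃ₗ[ZMod 2] V) (v : Dc.V) : th g (th g⁻¹ v) = v := by
  rw [← th_mul, mul_inv_cancel, th_one]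

theorem Rel.inv {g g2 g3 : V ≃ₗ[ZMod 2] V} (hg : Rel g g2 g3) : Rel g⁻¹ g2⁻¹ g3⁻¹ := fun v w => by
  have h1 := hg (th g2⁻¹ v) (th g3⁻¹ w)
  rw [th_inv_right, th_inv_right] at h1
  rw [← h1, th_inv_left]

theorem th_add (g : V ≃ₗ[ZMod 2] V) (v w : Dc.V) : th g (v + w) = th g v + th g w := by
  unfold th
  rw [ofD_add, map_add, toD_add]

theorem th_smul (g : V ≃ₗ[ZMod 2] V) (a : ZMod 2) (v : Dc.V) : th g (a • v) = a • th g v := by
  unfold th
  rw [show ofD (a • v) = a • ofD v from rfl, map_smul, toD_smul]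

theorem dcV_eq (v : Dc.V) :
    v = v 0 • Dc.b 0 + (v 1 • Dc.b 1 + (v 2 • Dc.b 2 + (v 3 • Dc.b 3 + (v 4 • Dc.b 4 + (v 5 • Dc.b 5 + (v 6 • Dc.b 6 + v 7 • Dc.b 7)))))) := by
  funext k
  simp only [Pi.add_apply, Pi.smul_apply, Dc.b_apply, smul_eq_mul]
  (revert k; simp only [_root_.Fin.forall_fin_succ, Fin.isValue, _root_.mul_ite, _root_.mul_one, _root_.MulZeroClass.mul_zero, ↓reduceIte, _root_.zero_ne_one, Fin.reduceEq, _root_.add_zero, _root_.Fin.succ_ne_zero, _root_.zero_add, _root_.Fin.succ_zero_eq_one, _root_.Fin.succ_one_eq_two, Fin.reduceSucc, _root_.IsEmpty.forall_iff, _root_.and_self])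

/-- It is enough to check the relation on the basis. -/
theorem rel_of_basis {g g2 g3 : V ≃ₗ[ZMod 2] V}
    (h : ∀ k l, th g (pr (Dc.b k) (Dc.b l)) = pr (th g2 (Dc.b k)) (th g3 (Dc.b l))) : Rel g g2 g3 := by
  have h1 : ∀ k w, th g (pr (Dc.b k) w) = pr (th g2 (Dc.b k)) (th g3 w) := by
    intro k w
    rw [dcV_eq w]
    simp only [pr_add_right, pr_smul_right, th_add, th_smul, h]
  intro v w
  rw [dcV_eq v]
  simp only [pr_add_left, pr_smul_left, th_add, th_smul, h1]

theorem th_xO (s : E) (hs : s ∈ Φ) (v : Dc.V) : th (xO s) v = xf s v := th_xb (wt_hd s hs).2 v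

theorem rel_xO {s : E} (hs : s ∈ Φ) : Rel (xO s) (xO (rho s)) (xO (rhoi s)) := by
  have h := rho_mem s hs
  refine rel_of_basis fun k l => ?_
  rw [th_xO s hs, th_xO _ h.1, th_xO _ h.2.1]
  exact pr_b s hs k l

private theorem xmv11 (r : E) : ((xm r : Om) : V ≃ₗ[ZMod 2] V) = xO r := by
  unfold xm
  exact Subtype.coe_mk _ _

private theorem rel_xm11 {s : E} (hs : s ∈ Φ) :
    Rel ((xm s : Om) : V ≃ₗ[ZMod 2] V) ((xm (rho s) : Om) : V ≃ₗ[ZMod 2] V) ((xm (rhoi s) : Om) : V ≃ₗ[ZMod 2] V) := by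
  rw [xmv11, xmv11, xmv11]
  exact rel_xO hs

/-- Every element of `Om` is part of a related triple. -/
theorem exists_rel (g : Om) : ∃ g2 g3 : Om, Rel (g : V ≃ₗ[ZMod 2] V) g2 g3 := by
  have hg : g ∈ Subgroup.closure {m : Om | ∃ s ∈ Φ, m = xm s} := by rw [gen]; trivial
  induction hg using Subgroup.closure_induction with
  | mem x hx =>
    obtain ⟨s, hs, rfl⟩ := hx
    exact ⟨xm (rho s), xm (rhoi s), rel_xm11 hs⟩
  | one => exact ⟨1, 1, Rel.one⟩
  | mul x y _ _ hx hy =>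
    obtain ⟨x2, x3, hx⟩ := hx
    obtain ⟨y2, y3, hy⟩ := hy
    exact ⟨x2 * y2, x3 * y3, hx.mul hy⟩
  | inv x _ hx =>
    obtain ⟨x2, x3, hx⟩ := hx
    exact ⟨x2⁻¹, x3⁻¹, hx.inv⟩

/-- the coordinates vanishing on `b i * V` -/
def Z : Fin 8 → List (Fin 8) := fun i => (List.finRange 8).filter fun k => ∀ l : Fin 8, pr (Dc.b i) (Dc.b l) k = 0

/-- the coordinates vanishing on `V * b i` -/
def Z' : Fin 8 → List (Fin 8) := fun i => (List.finRange 8).filter fun k => ∀ l : Fin 8, pr (Dc.b l) (Dc.b i) k = 0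

theorem uniq : ∀ i a : Fin 8, a ≠ i → ∃ k ∈ Z i, ∃ j : Fin 8, pr (Dc.b a) (Dc.b j) k = 1 ∧
    ∀ c : Fin 8, c ≠ a → pr (Dc.b c) (Dc.b j) k = 0 := by decide +kernel

theorem uniq' : ∀ i a : Fin 8, a ≠ i → ∃ k ∈ Z' i, ∃ j : Fin 8, pr (Dc.b j) (Dc.b a) k = 1 ∧
    ∀ c : Fin 8, c ≠ a → pr (Dc.b j) (Dc.b c) k = 0 := by decide +kernel

theorem pr_sum_left (v w : Dc.V) (k : Fin 8) : pr v w k = ∑ c : Fin 8, v c * pr (Dc.b c) w k := by
  conv_lhs => rw [dcV_eq v]
  simp only [pr_add_left, pr_smul_left, Pi.add_apply, Pi.smul_apply, smul_eq_mul]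
  simp only [Fin.sum_univ_succ, Fin.sum_univ_zero, add_zero]
  rfl

theorem pr_sum_right (v w : Dc.V) (k : Fin 8) : pr v w k = ∑ c : Fin 8, w c * pr v (Dc.b c) k := by
  conv_lhs => rw [dcV_eq w]
  simp only [pr_add_right, pr_smul_right, Pi.add_apply, Pi.smul_apply, smul_eq_mul]
  simp only [Fin.sum_univ_succ, Fin.sum_univ_zero, add_zero]
  rfl

theorem eq_b {v : Dc.V} (h0 : v ≠ 0) {i : Fin 8} (h : ∀ a, a ≠ i → v a = 0) : v = Dc.b i := by
  have h4 : v i = 1 := Dc.zmod_ne fun h1 => h0 <| funext fun l => by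
    by_cases e : l = i
    · rw [e, h1]; rfl
    · exact h l e
  funext l
  rw [Dc.b_apply]
  split_ifs with e
  · rw [e, h4]
  · exact h l e

theorem eq_one_of_basis {g : V ≃ₗ[ZMod 2] V} (h : ∀ i, th g (Dc.b i) = Dc.b i) : g = 1 := by
  apply th_inj
  intro v
  rw [dcV_eq v]
  simp only [th_add, th_smul, h, th_one]

theorem b_ne (i : Fin 8) : Dc.b i ≠ 0 := fun h => by
  have h2 := congrFun h i
  rw [Dc.b_apply, if_pos rfl] at h2
  exact absurd (show (1 : ZMod 2) = 0 from h2) (by decide)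

theorem th_ne {g : V ≃ₗ[ZMod 2] V} {v : Dc.V} (h : v ≠ 0) : th g v ≠ 0 := fun e => h (by
  have h1 := th_inv_left g v
  rw [e] at h1
  rw [← h1]
  unfold th
  show toD (g⁻¹ (ofD 0)) = 0
  rw [show ofD 0 = 0 from rfl, map_zero]
  rfl)

/-- Uniqueness. -/
theorem eq_one_of_rel {g2 g3 : V ≃ₗ[ZMod 2] V} (h : Rel 1 g2 g3) : g2 = 1 ∧ g3 = 1 := by
  constructor
  · refine eq_one_of_basis fun i => eq_b (th_ne (b_ne i)) fun a ha => ?_
    obtain ⟨k, hk, j, h1, h2⟩ := uniq i a ha
    have h3 : ∀ l : Fin 8, pr (Dc.b i) (Dc.b l) k = 0 := by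
      unfold Z at hk
      rw [List.mem_filter] at hk
      exact of_decide_eq_true hk.2
    have h4 := h (Dc.b i) (th g3⁻¹ (Dc.b j))
    rw [th_inv_right, th_one] at h4
    have h5 := congrFun h4 k
    rw [pr_sum_right (Dc.b i)] at h5
    rw [Finset.sum_eq_zero (fun c _ => by rw [h3 c, mul_zero]), pr_sum_left,
      Finset.sum_eq_single a (fun c _ hc => by rw [h2 c hc, mul_zero]) (fun h6 => absurd (Finset.mem_univ a) h6), h1, mul_one] at h5
    exact h5.symm
  · refine eq_one_of_basis fun i => eq_b (th_ne (b_ne i)) fun a ha => ?_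
    obtain ⟨k, hk, j, h1, h2⟩ := uniq' i a ha
    have h3 : ∀ l : Fin 8, pr (Dc.b l) (Dc.b i) k = 0 := by
      unfold Z' at hk
      rw [List.mem_filter] at hk
      exact of_decide_eq_true hk.2
    have h4 := h (th g2⁻¹ (Dc.b j)) (Dc.b i)
    rw [th_inv_right, th_one] at h4
    have h5 := congrFun h4 k
    rw [pr_sum_left _ (Dc.b i)] at h5
    rw [Finset.sum_eq_zero (fun c _ => by rw [h3 c, mul_zero]), pr_sum_right,
      Finset.sum_eq_single a (fun c _ hc => by rw [h2 c hc, mul_zero]) (fun h6 => absurd (Finset.mem_univ a) h6), h1, mul_one] at h5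
    exact h5.symm

theorem Rel.unique {g g2 g3 h2 h3 : V ≃ₗ[ZMod 2] V} (hg : Rel g g2 g3) (hh : Rel g h2 h3) : g2 = h2 ∧ g3 = h3 := by
  have h1 := hg.mul hh.inv
  rw [mul_inv_cancel] at h1
  obtain ⟨h4, h5⟩ := eq_one_of_rel h1
  exact ⟨mul_inv_eq_one.1 h4, mul_inv_eq_one.1 h5⟩

/-- The second component. -/
noncomputable def tau (g : Om) : Om := (exists_rel g).choose

theorem tau_spec (g : Om) : ∃ g3 : Om, Rel (g : V ≃ₗ[ZMod 2] V) (tau g) g3 := (exists_rel g).choose_spec

theorem tau_eq {g g2 g3 : Om} (h : Rel (g : V ≃ₗ[ZMod 2] V) g2 g3) : tau g = g2 := by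
  obtain ⟨h3, h1⟩ := tau_spec g
  exact Subtype.ext (h1.unique h).1

/-- Triality as an endomorphism. -/
noncomputable def tauHom : Om →* Om where
  toFun := tau
  map_one' := tau_eq (g := 1) (g2 := 1) (g3 := 1) Rel.one
  map_mul' g h := by
    obtain ⟨g3, hg⟩ := tau_spec g
    obtain ⟨h3, hh⟩ := tau_spec h
    exact tau_eq (g := g * h) (g2 := tau g * tau h) (g3 := g3 * h3) (hg.mul hh)

theorem tauHom_xm {s : E} (hs : s ∈ Φ) : tauHom (xm s) = xm (rho s) :=
  tau_eq (g := xm s) (g2 := xm (rho s)) (g3 := xm (rhoi s)) (rel_xm11 hs)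

theorem tauHom_surj : Function.Surjective tauHom := by
  rw [← MonoidHom.range_eq_top, eq_top_iff, ← gen, Subgroup.closure_le]
  rintro _ ⟨s, hs, rfl⟩
  have h := rho_mem s hs
  exact ⟨xm (rhoi s), by rw [tauHom_xm h.2.1, h.2.2.1]⟩

instance : Finite (V ≃ₗ[ZMod 2] V) := Finite.of_injective (fun g => (g : V → V)) DFunLike.coe_injective

/-- **Triality.** -/
noncomputable def tri : MulAut Om :=
  MulEquiv.ofBijective tauHom ⟨Finite.injective_iff_surjective.2 tauHom_surj, tauHom_surj⟩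

theorem tri_xm {s : E} (hs : s ∈ Φ) : tri (xm s) = xm (rho s) := tauHom_xm hs

theorem tri_symm_xm {s : E} (hs : s ∈ Φ) : tri.symm (xm s) = xm (rhoi s) := by
  have h := rho_mem s hs
  rw [MulEquiv.symm_apply_eq, tri_xm h.2.1, h.2.2.1]

/-- An endomorphism is determined by its values on the root elements. -/
theorem hom_ext {N : Type*} [Group N] {f g : Om →* N} (h : ∀ s ∈ Φ, f (xm s) = g (xm s)) : f = g := by
  apply MonoidHom.eq_of_eqOn_dense gen
  rintro _ ⟨s, hs, rfl⟩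
  exact h s hs

end Cfsg.Agent.StdO8.Tri
end

-- part: StdO8/Graph
section
/-!
# Graph automorphisms of `Ω₈⁺(2)` (fact (f8))

An automorphism of `Om` which acts on a standard `2⁶` as an orthogonal transvection is, up to an inner automorphism, the graph
automorphism on all root elements.
-/

set_option autoImplicit false

namespace Cfsg.Agent.StdO8.Graph

open Cfsg.Agent.StdO8.Model (V q B X O8 Om)
open Cfsg.Agent.StdO8.D4Root (E ip roots Φ)
open Cfsg.Agent.StdO8.Frame (Ctx)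
open Cfsg.Agent.StdO8.Bas
open Cfsg.Agent.StdO8.DataOf
open Cfsg.Agent.StdO8.Tri
open Cfsg.Agent.StdO8.DoubRoot (zr rr al ac oj gam)

/-! ### Isometries centralising the standard `2⁶` -/

/-- Linear maps are determined by the basis. -/
theorem ext_bv {g h : V ≃ₗ[ZMod 2] V} (e : ∀ i, g (bv i) = h (bv i)) : g = h := by
  apply th_inj
  intro v
  have e' : ∀ i, th g (Dc.b i) = th h (Dc.b i) := fun i => congrArg toD (e i)
  rw [dcV_eq v]
  simp only [Tri.th_add, Tri.th_smul, e']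

theorem fix_zero {N : V ≃ₗ[ZMod 2] V} (hN : N ∈ O8) (hc : ∀ j, ok 0 j → N * xb 0 j = xb 0 j * N) :
    N (bv 0) = bv 0 ∧ ∀ j, ok 0 j → ∃ c : ZMod 2, N (bv j) = bv j + c • bv 0 := by
  have inj : ∀ {i j : Fin 8}, bv i = bv j → i = j := fun {i j} h => by
    have h1 : Dc.b i = Dc.b j := by rw [← toD_bv, ← toD_bv, h]
    have h2 := congrFun h1 i
    rw [Dc.b_apply, Dc.b_apply, if_pos rfl] at h2
    by_contra hne
    rw [if_neg hne] at h2
    exact absurd h2 (by decide)
  have hne : ∀ {j : Fin 8}, ok 0 j → bv 0 ≠ bv j := fun {j} h e => h.1 (inj e).symm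
  have h1 : ∀ j, ok 0 j → (N (bv 0) = bv 0 ∨ N (bv 0) = bv j ∨ N (bv 0) = bv 0 + bv j) ∧
      (N (bv j) = bv 0 ∨ N (bv j) = bv j ∨ N (bv j) = bv 0 + bv j) := fun j hj =>
    Model.mem_of_commute hN (q_bv 0) (q_bv j) (B_ok hj) (bv_ne 0) (bv_ne j) (hne hj) (hc j hj)
  have o1 : ok 0 1 := by decide
  have o2 : ok 0 2 := by decide
  have h0 : N (bv 0) = bv 0 := by
    rcases (h1 1 o1).1 with h | h | h
    · exact h
    · rcases (h1 2 o2).1 with h' | h' | h'
      · exact h'
      · exact absurd (inj (h.symm.trans h')) (by decide)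
      · have e := congrArg (fun v => B v (bv 5)) (h.symm.trans h')
        simp only [Model.B_add_left, B_bv] at e
        exact absurd e (by decide)
    · rcases (h1 2 o2).1 with h' | h' | h'
      · exact h'
      · have e := congrArg (fun v => B v (bv 6)) (h.symm.trans h')
        simp only [Model.B_add_left, B_bv] at e
        exact absurd e (by decide)
      · have e := congrArg (fun v => B v (bv 5)) (h.symm.trans h')
        simp only [Model.B_add_left, B_bv] at e
        exact absurd e (by decide)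
  refine ⟨h0, fun j hj => ?_⟩
  rcases (h1 j hj).2 with h | h | h
  · exact absurd (N.injective (h0.trans h.symm)) (hne hj)
  · exact ⟨0, by rw [h, zero_smul, add_zero]⟩
  · exact ⟨1, by rw [h, one_smul, add_comm]⟩

theorem two_z (a : ZMod 2) : a + a = 0 := by revert a; decide

/-- The centraliser of the standard `2⁶`. -/
theorem eq_X {N : V ≃ₗ[ZMod 2] V} (hN : N ∈ O8) (hc : ∀ j, ok 0 j → N * xb 0 j = xb 0 j * N) : ∃ w, N = X (bv 0) w := by
  obtain ⟨h0, h1⟩ := fix_zero hN hc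
  set κ := B (N (bv 4)) (bv 4) with hκ
  set w := N (bv 4) + bv 4 + κ • bv 0 with hw
  have e0 : B (N (bv 4)) (bv 0) = 1 := by
    have h2 := Model.O8_B hN (bv 4) (bv 0)
    rw [h0] at h2
    rw [h2, B_bv]; decide
  have w0 : B (bv 0) w = 0 := by
    rw [hw, Model.B_comm, Model.B_add_left, Model.B_add_left, e0, Model.B_smul_left, B_bv, B_bv]
    simp only [_root_.Fin.isValue, _root_.Fin.reduceAdd, ↓ _root_.reduceIte, _root_.zero_add, _root_.Fin.reduceEq, _root_.MulZeroClass.mul_zero, _root_.add_zero]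
    decide
  have w4 : B w (bv 4) = 0 := by
    rw [hw, Model.B_add_left, Model.B_add_left, Model.B_smul_left, Model.B_self, B_bv, ← hκ]
    simp only [_root_.add_zero, _root_.Fin.isValue, _root_.zero_add, ↓ _root_.reduceIte, _root_.mul_one]
    exact two_z κ
  have qw : q w = κ := by
    rw [hw, Model.q_add, Model.q_add, Model.O8_q hN, q_bv, Model.B_add_left, Model.B_smul_right, Model.B_smul_right, e0, B_bv, ← hκ]
    have : q (κ • bv 0) = 0 := by
      rcases Model.z2 κ with h | h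
      · rw [h, zero_smul, Model.q_zero]
      · rw [h, one_smul, q_bv]
    rw [this]
    have e : (if (0 : Fin 8) = 4 + 4 then (1 : ZMod 2) else 0) = 1 := by decide
    rw [e]
    simp only [mul_one, add_zero, zero_add]
    rw [two_z, add_zero]
  refine ⟨w, ext_bv fun j => ?_⟩
  rw [Model.X_apply' (q_bv 0) w0, B_bv]
  by_cases hj4 : j = 4
  · rw [hj4, if_pos (show (4 : Fin 8) = 0 + 4 from rfl), one_smul, w4, zero_smul, add_zero, qw, mul_one, hw]
    have h6 : ∀ a b c : V, a = b + (a + b + c) + c := fun a b c => by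
      have h7 : b + (a + b + c) + c = a + (b + b) + (c + c) := by abel
      rw [h7, Model.add_self, Model.add_self, add_zero, add_zero]
    exact h6 _ _ _
  · have hj4' : j ≠ 0 + 4 := hj4
    rw [if_neg hj4', zero_smul, add_zero, mul_zero, zero_smul, add_zero]
    by_cases hj0 : j = 0
    · rw [hj0, h0, Model.B_comm w, w0, zero_smul, add_zero]
    · obtain ⟨c, hcj⟩ := h1 j ⟨hj0, hj4⟩
      rw [hcj]
      congr 2
      have e1 : B (N (bv 4)) (N (bv j)) = 0 := by
        rw [Model.O8_B hN, B_bv, if_neg (by simpa using hj0)]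
      rw [hcj, Model.B_add_right, Model.B_smul_right, e0, mul_one] at e1
      have e2 : B w (bv j) = B (N (bv 4)) (bv j) := by
        rw [hw, Model.B_add_left, Model.B_add_left, Model.B_smul_left, B_bv, B_bv]
        have : ∀ j : Fin 8, j ≠ 0 → j ≠ 4 → ((if j = 4 + 4 then (1 : ZMod 2) else 0) = 0 ∧ (if j = 0 + 4 then (1 : ZMod 2) else 0) = 0) := by
          decide
        rw [(this j hj0 hj4).1, (this j hj0 hj4).2, mul_zero, add_zero, add_zero]
      rw [e2]
      rcases Model.z2 c with h | h <;> rcases Model.z2 (B (N (bv 4)) (bv j)) with h' | h' <;> rw [h, h'] at e1 <;> rw [h, h']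
      · exact absurd e1 (by decide)
      · exact absurd e1 (by decide)

/-! ### The reflection -/

/-- The transposition of two coordinates. -/
def σ : Equiv.Perm (Fin 8) := Equiv.swap 3 7

theorem σ_bar : ∀ i, σ (i + 4) = σ i + 4 := by decide

theorem frame_σ : Dc.Frame σ := ⟨σ_bar⟩

/-- The coordinate permutation. -/
def sw : V ≃ₗ[ZMod 2] V where
  toFun v := ofD (Dc.P σ (toD v))
  map_add' v w := by rw [toD_add, frame_σ.iso.add, ofD_add]
  map_smul' a v := by rw [toD_smul, frame_σ.iso.smul]; rfl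
  invFun v := ofD (Dc.P σ (toD v))
  left_inv v := by
    show ofD (Dc.P σ (toD (ofD (Dc.P σ (toD v))))) = v
    rw [toD_ofD]
    have := Dc.P_symm σ (toD v)
    rw [show σ.symm = σ from rfl] at this
    rw [this, ofD_toD]
  right_inv v := by
    show ofD (Dc.P σ (toD (ofD (Dc.P σ (toD v))))) = v
    rw [toD_ofD]
    have := Dc.P_symm σ (toD v)
    rw [show σ.symm = σ from rfl] at this
    rw [this, ofD_toD]

theorem sw_apply (v : V) : sw v = ofD (Dc.P σ (toD v)) := rfl

theorem sw_bv (i : Fin 8) : sw (bv i) = bv (σ i) := by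
  rw [sw_apply, toD_bv, Dc.P_b]
  rfl

theorem sw_mem : sw ∈ O8 := by
  rw [Model.mem_O8]
  intro v
  rw [sw_apply, ← q_toD, toD_ofD, frame_σ.iso.isom, q_toD]

theorem sw_sq : sw * sw = 1 := by
  ext v : 1
  exact sw.left_inv v

theorem sw_inv : sw⁻¹ = sw := inv_eq_of_mul_eq_one_left sw_sq

theorem sw_xb (i j : Fin 8) : sw * xb i j * sw = xb (σ i) (σ j) := by
  have h := xb_conj sw_mem i j
  rw [sw_inv, sw_bv, sw_bv] at h
  exact h

theorem gam_hd : ∀ s ∈ roots, gam 1 2 s = wt (σ (hd s).1) + wt (σ (hd s).2) ∧ ok (σ (hd s).1) (σ (hd s).2) := by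
  decide +kernel

theorem sw_xO {s : E} (hs : s ∈ Φ) : sw * xO s * sw = xO (gam 1 2 s) := by
  obtain ⟨h1, h2⟩ := gam_hd s hs
  rw [h1, xO_wt h2]
  exact sw_xb _ _

/-! ### The case of the first `2⁶` -/

/-- the hypotheses on an automorphism -/
structure RA (α : MulAut Om) (i : Fin 3) : Prop where
  z : α (xm zr) = xm zr
  w : α (xm (al i)) = xm (al i)
  r : α (xm rr) = xm rr
  a : α (xm (rr - al (oj i))) = xm (rr - al (DoubRoot.ok i))
  b : α (xm (rr - al (DoubRoot.ok i))) = xm (rr - al (oj i))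
  c : α (xm (rr - al (oj i) - al (DoubRoot.ok i))) = xm (rr - al (oj i) - al (DoubRoot.ok i))

theorem r0 : zr = wt 0 + wt 1 ∧ al 0 = wt 0 + wt 5 ∧ rr = wt 0 + wt 2 ∧ rr - al (oj 0) = wt 0 + wt 3 ∧
    rr - al (DoubRoot.ok 0) = wt 0 + wt 7 ∧ rr - al (oj 0) - al (DoubRoot.ok 0) = wt 0 + wt 6 := by decide +kernel

theorem xm_wt {i j : Fin 8} (h : ok i j) : ((xm (wt i + wt j) : Om) : V ≃ₗ[ZMod 2] V) = xb i j := (xmv11 _).trans (xO_wt h)

theorem main_zero {α : MulAut Om} (h : RA α 0) : ∃ m : Om, ∀ s ∈ Φ, α (m * xm s * m⁻¹) = xm (gam 1 2 s) := by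
  obtain ⟨e1, e2, e3, e4, e5, e6⟩ := r0
  have hz := h.z
  have hw := h.w
  have hr := h.r
  have ha := h.a
  have hb := h.b
  have hc := h.c
  rw [e1] at hz
  rw [e2] at hw
  rw [e6] at hc
  rw [e4, e5] at ha hb
  rw [e3] at hr
  have o1 : ok 0 1 := by decide
  have o5 : ok 0 5 := by decide
  have o2 : ok 0 2 := by decide
  have o6 : ok 0 6 := by decide
  have o3 : ok 0 3 := by decide
  have o7 : ok 0 7 := by decide
  have hc2 : Cfsg.Agent.StdO8.Aut.IsC2 ((xm (wt 0 + wt 1) * xm (wt 0 + wt 5) : Om) : V ≃ₗ[ZMod 2] V) := by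
    refine ⟨bv 0, bv 1 + bv 5, q_bv 0, bv_ne 0, ?_, ?_, ?_⟩
    · rw [Model.B_add_right, B_ok o1, B_ok o5, add_zero]
    · rw [Model.q_add, q_bv, q_bv, B_bv, if_pos (by decide), zero_add, zero_add]
    · rw [Subgroup.coe_mul, xm_wt o1, xm_wt o5, xb_mul o1 o5]
  obtain ⟨M, hM⟩ := Cfsg.Agent.StdO8.Aut.mem_range_of_c2 (α := α) hc2 (by rw [map_mul, hz, hw]; exact hc2)
  have cM : ∀ i j i' j' : Fin 8, ok i j → ok i' j' → α (xm (wt i + wt j)) = xm (wt i' + wt j') →
      (M : V ≃ₗ[ZMod 2] V) * xb i j = xb i' j' * (M : V ≃ₗ[ZMod 2] V) := by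
    intro i j i' j' h1 h2 h3
    rw [← hM] at h3
    have h4 := congrArg Subtype.val h3
    rw [Cfsg.Agent.StdO8.Aut.cj_coe, xm_wt h1, xm_wt h2, mul_inv_eq_iff_eq_mul] at h4
    exact h4
  have k1 := cM 0 1 0 1 o1 o1 hz
  have k5 := cM 0 5 0 5 o5 o5 hw
  have k2 := cM 0 2 0 2 o2 o2 hr
  have k6 := cM 0 6 0 6 o6 o6 hc
  have k3 := cM 0 3 0 7 o3 o7 ha
  have k7 := cM 0 7 0 3 o7 o3 hb
  set N : V ≃ₗ[ZMod 2] V := (M : V ≃ₗ[ZMod 2] V) * sw with hN
  have hNO : N ∈ O8 := mul_mem M.2 sw_mem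
  have cs : ∀ i j i' j' : Fin 8, σ i = i' → σ j = j' → sw * xb i j = xb i' j' * sw := by
    rintro i j _ _ rfl rfl
    rw [← sw_xb, mul_assoc (sw * xb i j), sw_sq, mul_one]
  have hNc : ∀ j, ok 0 j → N * xb 0 j = xb 0 j * N := by
    intro j hj
    have hcases : ∀ j : Fin 8, ok 0 j → j = 1 ∨ j = 5 ∨ j = 2 ∨ j = 6 ∨ j = 3 ∨ j = 7 := by decide
    rcases hcases j hj with rfl | rfl | rfl | rfl | rfl | rfl
    · rw [hN, mul_assoc, cs 0 1 0 1 (by decide) (by decide), ← mul_assoc, k1, mul_assoc]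
    · rw [hN, mul_assoc, cs 0 5 0 5 (by decide) (by decide), ← mul_assoc, k5, mul_assoc]
    · rw [hN, mul_assoc, cs 0 2 0 2 (by decide) (by decide), ← mul_assoc, k2, mul_assoc]
    · rw [hN, mul_assoc, cs 0 6 0 6 (by decide) (by decide), ← mul_assoc, k6, mul_assoc]
    · rw [hN, mul_assoc, cs 0 3 0 7 (by decide) (by decide), ← mul_assoc, k7, mul_assoc]
    · rw [hN, mul_assoc, cs 0 7 0 3 (by decide) (by decide), ← mul_assoc, k3, mul_assoc]
  obtain ⟨w, hw⟩ := eq_X hNO hNc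
  let n : Om := ⟨X (bv 0) w, Model.X_mem _ _⟩
  have hMn : (M : V ≃ₗ[ZMod 2] V) = (n : V ≃ₗ[ZMod 2] V) * sw := by
    show (M : V ≃ₗ[ZMod 2] V) = X (bv 0) w * sw
    rw [← hw, hN, mul_assoc, sw_sq, mul_one]
  refine ⟨Cfsg.Agent.StdO8.Aut.cj ⟨sw, sw_mem⟩ n⁻¹, fun s hs => ?_⟩
  rw [← hM]
  apply Subtype.ext
  rw [Cfsg.Agent.StdO8.Aut.cj_coe, hMn, Subgroup.coe_mul, Subgroup.coe_mul, Subgroup.coe_inv, Cfsg.Agent.StdO8.Aut.cj_coe, xmv11, xmv11]
  show (n : V ≃ₗ[ZMod 2] V) * sw * ((sw * (n : V ≃ₗ[ZMod 2] V)⁻¹ * sw⁻¹) * xO s * (sw * (n : V ≃ₗ[ZMod 2] V)⁻¹ * sw⁻¹)⁻¹) *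
    ((n : V ≃ₗ[ZMod 2] V) * sw)⁻¹ = xO (gam 1 2 s)
  have h1 := sw_xO hs
  have h2 : (n : V ≃ₗ[ZMod 2] V) * sw * ((sw * (n : V ≃ₗ[ZMod 2] V)⁻¹ * sw⁻¹) * xO s * (sw * (n : V ≃ₗ[ZMod 2] V)⁻¹ * sw⁻¹)⁻¹) *
    ((n : V ≃ₗ[ZMod 2] V) * sw)⁻¹ = (n : V ≃ₗ[ZMod 2] V) * (sw * sw) * (n : V ≃ₗ[ZMod 2] V)⁻¹ * (sw⁻¹ * xO s * sw) * 
      ((n : V ≃ₗ[ZMod 2] V) * (sw * sw)⁻¹ * (n : V ≃ₗ[ZMod 2] V)⁻¹) := by
    group
  rw [h2, sw_inv, h1, sw_sq]
  group

/-! ### The general case -/

theorem mem_all : zr ∈ roots ∧ rr ∈ roots ∧ (∀ i : Fin 3, al i ∈ roots ∧ rr - al (oj i) ∈ roots ∧ rr - al (DoubRoot.ok i) ∈ roots ∧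
    rr - al (oj i) - al (DoubRoot.ok i) ∈ roots) := by decide +kernel

theorem rho_all : rho zr = zr ∧ rho rr = rr ∧ rho (al 0) = al 1 ∧ rho (rr - al (oj 0)) = rr - al (DoubRoot.ok 1) ∧
    rho (rr - al (DoubRoot.ok 0)) = rr - al (oj 1) ∧
    rho (rr - al (oj 0) - al (DoubRoot.ok 0)) = rr - al (oj 1) - al (DoubRoot.ok 1) := by decide +kernel

theorem rhoi_all : rhoi zr = zr ∧ rhoi rr = rr ∧ rhoi (al 0) = al 2 ∧ rhoi (rr - al (oj 0)) = rr - al (oj 2) ∧
    rhoi (rr - al (DoubRoot.ok 0)) = rr - al (DoubRoot.ok 2) ∧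
    rhoi (rr - al (oj 0) - al (DoubRoot.ok 0)) = rr - al (oj 2) - al (DoubRoot.ok 2) := by decide +kernel

theorem gam_rho : ∀ s ∈ roots, gam 1 2 s ∈ roots ∧ rho (gam 1 2 s) = gam (oj 1) (DoubRoot.ok 1) (rho s) ∧
    rhoi (gam 1 2 s) = gam (oj 2) (DoubRoot.ok 2) (rhoi s) := by decide +kernel

/-- Transport of `main_zero`. -/
theorem transport {α γ : MulAut Om} {i : Fin 3} {f f' : E → E} (hγ : ∀ s ∈ Φ, γ (xm s) = xm (f s))
    (hf : ∀ s ∈ Φ, f s ∈ Φ ∧ f' s ∈ Φ ∧ f (f' s) = s)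
    (hg : ∀ s ∈ Φ, f (gam 1 2 s) = gam (oj i) (DoubRoot.ok i) (f s)) (h : RA (γ⁻¹ * α * γ) 0) :
    ∃ m : Om, ∀ s ∈ Φ, α (m * xm s * m⁻¹) = xm (gam (oj i) (DoubRoot.ok i) s) := by
  obtain ⟨m, hm⟩ := main_zero h
  refine ⟨γ m, fun s hs => ?_⟩
  obtain ⟨h1, h2, h3⟩ := hf s hs
  have h4 := hm (f' s) h2
  have h5 : (γ⁻¹ * α * γ) (m * xm (f' s) * m⁻¹) = γ.symm (α (γ (m * xm (f' s) * m⁻¹))) := rfl
  have h6 : γ (m * xm (f' s) * m⁻¹) = γ m * xm s * (γ m)⁻¹ := by
    rw [map_mul, map_mul, map_inv, hγ _ h2, h3]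
  rw [h5, MulEquiv.symm_apply_eq, hγ _ (gam_rho _ h2).1, hg _ h2, h3, h6] at h4
  exact h4

theorem main {α : MulAut Om} {i : Fin 3} (h : RA α i) :
    ∃ m : Om, ∀ s ∈ Φ, α (m * xm s * m⁻¹) = xm (gam (oj i) (DoubRoot.ok i) s) := by
  obtain ⟨mz, mr, mi⟩ := mem_all
  have key : ∀ (γ : MulAut Om) (f : E → E), (∀ s ∈ Φ, γ (xm s) = xm (f s)) → ∀ s ∈ Φ, ∀ s' ∈ Φ,
      α (xm (f s)) = xm (f s') → (γ⁻¹ * α * γ) (xm s) = xm s' := by
    intro γ f hγ s hs s' hs' h1
    show γ.symm (α (γ (xm s))) = xm s'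
    rw [MulEquiv.symm_apply_eq, hγ s hs, hγ s' hs', h1]
  have hi : ∀ i : Fin 3, i = 0 ∨ i = 1 ∨ i = 2 := by decide
  rcases hi i with rfl | rfl | rfl
  · exact main_zero h
  · obtain ⟨r1, r2, r3, r4, r5, r6⟩ := rho_all
    have k := key tri rho (fun s hs => tri_xm hs)
    refine transport (γ := tri) (f := rho) (f' := rhoi) (fun s hs => tri_xm hs)
      (fun s hs => ⟨(rho_mem s hs).1, (rho_mem s hs).2.1, (rho_mem s hs).2.2.1⟩) (fun s hs => (gam_rho s hs).2.1) ?_
    exact ⟨k zr mz zr mz (by rw [r1]; exact h.z), k _ (mi 0).1 _ (mi 0).1 (by rw [r3]; exact h.w),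
      k rr mr rr mr (by rw [r2]; exact h.r), k _ (mi 0).2.1 _ (mi 0).2.2.1 (by rw [r4, r5]; exact h.b),
      k _ (mi 0).2.2.1 _ (mi 0).2.1 (by rw [r4, r5]; exact h.a),
      k _ (mi 0).2.2.2 _ (mi 0).2.2.2 (by rw [r6]; exact h.c)⟩
  · obtain ⟨r1, r2, r3, r4, r5, r6⟩ := rhoi_all
    have k := key tri.symm rhoi (fun s hs => tri_symm_xm hs)
    refine transport (γ := tri.symm) (f := rhoi) (f' := rho) (fun s hs => tri_symm_xm hs)
      (fun s hs => ⟨(rho_mem s hs).2.1, (rho_mem s hs).1, (rho_mem s hs).2.2.2.1⟩) (fun s hs => (gam_rho s hs).2.2) ?_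
    exact ⟨k zr mz zr mz (by rw [r1]; exact h.z), k _ (mi 0).1 _ (mi 0).1 (by rw [r3]; exact h.w),
      k rr mr rr mr (by rw [r2]; exact h.r), k _ (mi 0).2.1 _ (mi 0).2.2.1 (by rw [r4, r5]; exact h.a),
      k _ (mi 0).2.2.1 _ (mi 0).2.1 (by rw [r4, r5]; exact h.b),
      k _ (mi 0).2.2.2 _ (mi 0).2.2.2 (by rw [r6]; exact h.c)⟩

variable {G : Type*} [Group G] (C : Ctx G)

/-- **(f8)** -/
theorem f8 (i : Fin 3) (v : G) (h : DoubRefl.Fr.Refl C.t (x C zr) (DoubRoot.ta (x C) i) (x C rr) (x C (rr - al (oj i)))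
    (x C (rr - al (DoubRoot.ok i))) (x C (rr - al (oj i) - al (DoubRoot.ok i))) v) :
    ∃ v', DoubRoot.Graph C.t (x C) (oj i) (DoubRoot.ok i) v' := by
  have hvt : Commute v C.t := by
    have h1 := h.vt
    unfold DoubRefl.cj at h1
    rw [mul_inv_eq_iff_eq_mul] at h1
    exact h1
  obtain ⟨α, hα⟩ := C.norm v hvt
  have key : ∀ s s' : E, DoubRefl.cj v (x C s) = x C s' → α (xm s) = xm s' := by
    intro s s' h1
    apply C.inj
    rw [← hα]
    exact h1
  have hR : RA α i := ⟨key _ _ h.vz, key _ _ h.vw, key _ _ h.vr, key _ _ h.va, key _ _ h.vb, key _ _ h.vc⟩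
  obtain ⟨m, hm⟩ := main hR
  refine ⟨v * C.r m, ⟨?_, fun s hs => ?_⟩⟩
  · exact (hvt.mul_left (C.comm m)).eq
  · have h1 := hm s hs
    have h2 : v * C.r m * x C s * (v * C.r m)⁻¹ = v * C.r (m * xm s * m⁻¹) * v⁻¹ := by
      rw [map_mul, map_mul, map_inv]
      show v * C.r m * C.r (xm s) * (v * C.r m)⁻¹ = v * (C.r m * C.r (xm s) * (C.r m)⁻¹) * v⁻¹
      group
    rw [h2, hα, h1]
    rfl

/-- **The first eight fields of `Rel.Data`.** -/
theorem xd : DoubRoot.XD C.t C.L (x C) where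
  tt := C.tt
  tL := by
    rintro _ ⟨m, rfl⟩
    exact (C.comm m).eq.symm
  t_notMem := C.t_notMem
  xL := fun r _ => x_mem C r
  x_ne := fun r hr => x_ne C hr
  x_sq := fun r _ => x_sq C r
  x_comm := fun r hr s hs h => x_comm C hr hs h
  x_conj := fun r hr s hs h => x_conj C hr hs h

end Cfsg.Agent.StdO8.Graph
end

-- part: StdO8/EvenLin
section
/-!
# Involutions of `O₈⁺(2)` outside `Ω₈⁺(2)`

Every involution `M ∈ O8 ∖ Om` is conjugate under `Om` to the reflection `sw` or to `sw * xb 0 1` (`lin`).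
-/

set_option autoImplicit false

namespace Cfsg.Agent.StdO8.EvenLin

open Cfsg.Agent.StdO8.Model Cfsg.Agent.StdO8.Bas Cfsg.Agent.StdO8.Graph
open Cfsg.Agent.ClassicalGeometry.OrthAut1 (TS)
open Cfsg.Agent.LieClassical.OrthCore (refl refl_apply refl_mem_O refl_mul_self refl_inv refl_conj)

/-! ### The reflection -/

theorem q37 : q (bv 3 + bv 7) ≠ 0 := by
  rw [q_add, q_bv, q_bv, B_bv]
  decide

theorem refl_eq {n : V} (hn : q n ≠ 0) (v : V) : refl q n hn v = v + B n v • n := by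
  rw [refl_apply, sub_eq, (z2 (q n)).resolve_left hn, inv_one, one_mul]

theorem sw_eq : sw = refl q (bv 3 + bv 7) q37 := by
  apply ext_bv
  intro i
  rw [sw_bv, refl_eq, B_add_left, B_bv, B_bv]
  have h : i = 3 ∨ i = 7 ∨ (σ i = i ∧ ¬ i = 3 + 4 ∧ ¬ i = 7 + 4) := by revert i; decide
  rcases h with rfl | rfl | ⟨h1, h2, h3⟩
  · have e1 : σ 3 = 7 := by decide
    have e2 : ¬ ((3 : Fin 8) = 3 + 4) := by decide
    have e3 : (3 : Fin 8) = 7 + 4 := by decide
    rw [e1, if_neg e2, if_pos e3, zero_add, one_smul, ← add_assoc, add_self, zero_add]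
  · have e1 : σ 7 = 3 := by decide
    have e2 : (7 : Fin 8) = 3 + 4 := by decide
    have e3 : ¬ ((7 : Fin 8) = 7 + 4) := by decide
    rw [e1, if_pos e2, if_neg e3, add_zero, one_smul, add_comm (bv 3), ← add_assoc, add_self, zero_add]
  · rw [h1, if_neg h2, if_neg h3, add_zero, zero_smul, add_zero]

theorem sw_notMem : sw ∉ Om := by
  rw [sw_eq]
  exact Gen.refl_notMem _ _

theorem mem_or {M : V ≃ₗ[ZMod 2] V} (hM : M ∈ O8) : M ∈ Om ∨ M * sw ∈ Om := by
  rcases FactG.mem_or hM with h | h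
  · exact Or.inl h
  · right
    have h1 : FactG.rh * sw ∈ Om := by
      rw [sw_eq]
      have e1 : q (Code.dec 136) = 1 := (z2 _).resolve_left Gen.q136
      have e2 : q (bv 3 + bv 7) = 1 := (z2 _).resolve_left q37
      exact good.refl_mul_refl_mem q37 Gen.q136 (e2.trans e1.symm)
    have e : M * sw = M * FactG.rh * (FactG.rh * sw) := by
      calc M * sw = M * 1 * sw := by group
        _ = M * (FactG.rh * FactG.rh) * sw := by rw [FactG.rh_mul]
        _ = _ := by group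
    rw [e]
    exact mul_mem h h1

/-! ### Totally singular involutions -/

/-- `v ↦ M v + v` -/
def N (M : V ≃ₗ[ZMod 2] V) (v : V) : V := M v + v

theorem N_add (M : V ≃ₗ[ZMod 2] V) (v w : V) : N M (v + w) = N M v + N M w := by
  unfold N
  rw [map_add]; abel

theorem N_smul (M : V ≃ₗ[ZMod 2] V) (a : ZMod 2) (v : V) : N M (a • v) = a • N M v := by
  unfold N
  rw [map_smul, smul_add]

theorem app (M : V ≃ₗ[ZMod 2] V) (v : V) : M v = v + N M v := by
  unfold N
  rw [add_comm (M v), ← add_assoc, add_self, zero_add]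

theorem N_eq_zero {M : V ≃ₗ[ZMod 2] V} {v : V} : N M v = 0 ↔ M v = v :=
  ⟨fun h => by rw [app, h, add_zero], fun h => by unfold N; rw [h, add_self]⟩

theorem zz (a : ZMod 2) : a + a = 0 := by revert a; decide

/-- If the image of `N` is totally isotropic, `N` is self adjoint. -/
theorem symm_of {M : V ≃ₗ[ZMod 2] V} (hM : M ∈ O8) (h : ∀ v w, B (N M v) (N M w) = 0) (v w : V) :
    B v (N M w) = B (N M v) w := by
  have e := O8_B hM v w
  rw [app, app M w, B_add_left, B_add_right, B_add_right, h, add_zero] at e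
  have e2 : B v (N M w) + B (N M v) w = 0 := by
    have h3 : B v w + B v (N M w) + B (N M v) w + B v w = B v w + B v w := by rw [e]
    rw [zz] at h3
    have h4 : B v w + B v (N M w) + B (N M v) w + B v w = (B v w + B v w) + (B v (N M w) + B (N M v) w) := by ring
    rw [h4, zz, zero_add] at h3
    exact h3
  have h5 : ∀ a b : ZMod 2, a + b = 0 → a = b := by decide
  exact h5 _ _ e2

/-- The image of `N` is totally singular. -/
def TSI (M : V ≃ₗ[ZMod 2] V) : Prop := ∀ v, q (N M v) = 0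

theorem TSI.isot {M : V ≃ₗ[ZMod 2] V} (h : TSI M) (v w : V) : B (N M v) (N M w) = 0 := by
  have h1 := h (v + w)
  rw [N_add, q_add, h, h, zero_add, zero_add] at h1
  exact h1

theorem TSI.alt {M : V ≃ₗ[ZMod 2] V} (hM : M ∈ O8) (h : TSI M) (v : V) : B (N M v) v = 0 := by
  have e := O8_q hM v
  rw [app, q_add, h, add_zero] at e
  rw [B_comm]
  have h5 : ∀ a b : ZMod 2, a + b = a → b = 0 := by decide
  exact h5 _ _ e

theorem exists_one {u : V} (hu : u ≠ 0) : ∃ v, B u v = 1 := by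
  by_contra hcon
  push Not at hcon
  exact hu (Model.nondeg fun v => (z2 _).resolve_right (hcon v))

/-- `N` of a product with a root element. -/
theorem N_X {M : V ≃ₗ[ZMod 2] V} (hM : M ∈ O8) {a b : V} (ha : q a = 0) (hab : B a b = 0) (hMa : M a = a)
    (hMb : M b = b) (v : V) : N (X a b * M) v = N M v + B a v • b + B b v • a + (q b * B a v) • a := by
  have e1 : B a (M v) = B a v := by
    have := O8_B hM a v
    rwa [hMa] at this
  have e2 : B b (M v) = B b v := by
    have := O8_B hM b v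
    rwa [hMb] at this
  show X a b (M v) + v = _
  rw [X_apply' ha hab, e1, e2]
  unfold N
  abel

theorem mem_Om_of_TSI (k : ℕ) : ∀ M : V ≃ₗ[ZMod 2] V, M ∈ O8 → TSI M → ({v | M v ≠ v} : Set V).ncard ≤ k → M ∈ Om := by
  induction k with
  | zero =>
    intro M hM h hk
    have h1 : ({v | M v ≠ v} : Set V) = ∅ := by
      rw [← Set.ncard_eq_zero (Set.toFinite _)]
      omega
    have h2 : M = 1 := by
      ext v : 1
      by_contra hne
      have h3 : v ∈ ({v | M v ≠ v} : Set V) := hne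
      rw [h1] at h3
      exact h3
    rw [h2]
    exact one_mem _
  | succ k ih =>
    intro M hM h hk
    by_cases h1 : ∀ v, N M v = 0
    · have h2 : M = 1 := by
        ext v : 1
        exact N_eq_zero.1 (h1 v)
      rw [h2]
      exact one_mem _
    push Not at h1
    obtain ⟨v0, hv0⟩ := h1
    obtain ⟨w0, hw0⟩ := exists_one hv0
    have hs := symm_of hM h.isot
    have fixN : ∀ v, M (N M v) = N M v := fun v => by
      rw [← N_eq_zero]
      refine Model.nondeg fun w => ?_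
      rw [← hs, h.isot]
    have hB : B (N M w0) v0 = 1 := by rw [B_comm, hs, hw0]
    have hN := N_X hM (h v0) (h.isot v0 w0) (fixN v0) (fixN w0)
    have hN' : ∀ v, N (X (N M v0) (N M w0) * M) v = N M v + B (N M v0) v • N M w0 + B (N M w0) v • N M v0 := fun v => by
      rw [hN, h w0, zero_mul, zero_smul, add_zero]
    have hle : ∀ v, M v = v → (X (N M v0) (N M w0) * M) v = v := fun v hv => by
      rw [← N_eq_zero, hN', N_eq_zero.2 hv, ← hs, ← hs, N_eq_zero.2 hv, B_zero_right, B_zero_right, zero_smul, zero_smul,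
        add_zero, add_zero]
    have hR : X (N M v0) (N M w0) * M ∈ Om := by
      refine ih _ (mul_mem (X_mem_O8 _ _) hM) (fun v => ?_) ?_
      · rw [hN', ← N_smul, ← N_smul, ← N_add, ← N_add]
        exact h _
      · have hlt : ({v | (X (N M v0) (N M w0) * M) v ≠ v} : Set V).ncard < ({v | M v ≠ v} : Set V).ncard := by
          refine Set.ncard_lt_ncard ?_ (Set.toFinite _)
          have hsub : ({v | (X (N M v0) (N M w0) * M) v ≠ v} : Set V) ⊆ {v | M v ≠ v} := by
            intro v hv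
            have hv1 : (X (N M v0) (N M w0) * M) v ≠ v := hv
            show M v ≠ v
            exact fun hv2 => hv1 (hle v hv2)
          rw [Set.ssubset_iff_of_subset hsub]
          refine ⟨v0, fun h2 => hv0 (N_eq_zero.2 h2), fun h2 => ?_⟩
          have h2' : (X (N M v0) (N M w0) * M) v0 ≠ v0 := h2
          apply h2'
          rw [← N_eq_zero, hN', h.alt hM, hB, zero_smul, add_zero, one_smul, add_self]
        omega
    have e : M = X (N M v0) (N M w0) * (X (N M v0) (N M w0) * M) := by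
      rw [← mul_assoc, X_mul_self, one_mul]
    rw [e]
    exact mul_mem (X_mem _ _) hR

theorem TSI.mem_Om {M : V ≃ₗ[ZMod 2] V} (hM : M ∈ O8) (h : TSI M) : M ∈ Om := mem_Om_of_TSI _ M hM h le_rfl

theorem q_smul (a : ZMod 2) (w : V) : q (a • w) = a * q w := by
  rcases z2 a with h | h
  · rw [h, zero_smul, q_zero, zero_mul]
  · rw [h, one_smul, one_mul]

theorem q_comb {x y z : V} {a : ZMod 2} (hx : q x = a) (hy : q y = 1) (hz : q z = 0) (hxy : B x y = 0) (hxz : B x z = 0)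
    (hyz : B y z = 0) (b : ZMod 2) : q (x + a • y + b • z + a • z) = 0 := by
  have h1 : B (x + a • y + b • z) (a • z) = 0 := by
    rw [B_smul_right, B_add_left, B_add_left, B_smul_left, B_smul_left, hxz, hyz, B_self]
    ring
  have h2 : B (x + a • y) (b • z) = 0 := by
    rw [B_smul_right, B_add_left, B_smul_left, hxz, hyz]
    ring
  have h3 : B x (a • y) = 0 := by rw [B_smul_right, hxy, mul_zero]
  rw [q_add, h1, q_add, h2, q_add, h3, q_smul, q_smul, q_smul, hx, hy, hz]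
  have : ∀ a b : ZMod 2, a + a * 1 + 0 + b * 0 + 0 + a * 0 + 0 = 0 := by decide
  exact this a b

/-! ### Involutions -/

/-- Every linear functional is given by a vector. -/
theorem exists_vec (f : V →ₗ[ZMod 2] ZMod 2) : ∃ n, ∀ v, f v = B n v := by
  have hnd : (QuadraticMap.polarBilin q).Nondegenerate := by
    refine ⟨fun a ha => good.nondeg a ha, fun a ha => good.nondeg a fun b => ?_⟩
    rw [QuadraticMap.polar_comm]
    exact ha b
  refine ⟨(LinearMap.BilinForm.toDual (QuadraticMap.polarBilin q) hnd).symm f, fun v => ?_⟩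
  have := LinearMap.BilinForm.apply_toDual_symm_apply (B := QuadraticMap.polarBilin q) (hB := hnd) f v
  exact this.symm

/-- The data of an involution. -/
structure Inv (M : V ≃ₗ[ZMod 2] V) (n : V) : Prop where
  mem : M ∈ O8
  isot : ∀ v w, B (N M v) (N M w) = 0
  vec : ∀ v, q (N M v) = B n v

theorem exists_inv {M : V ≃ₗ[ZMod 2] V} (hM : M ∈ O8) (h2 : M * M = 1) : ∃ n, Inv M n := by
  have hMM : ∀ v, M (M v) = v := fun v => by
    show (M * M) v = v
    rw [h2]; rfl
  have hB : ∀ v w, B (M v) w = B v (M w) := fun v w => by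
    rw [← O8_B hM v (M w), hMM]
  have hi : ∀ v w, B (N M v) (N M w) = 0 := fun v w => by
    unfold N
    rw [B_add_left, B_add_right, B_add_right, O8_B hM, hB]
    have h5 : ∀ a b : ZMod 2, a + b + (b + a) = 0 := by decide
    exact h5 _ _
  let f : V →ₗ[ZMod 2] ZMod 2 :=
    { toFun := fun v => q (N M v)
      map_add' := fun v w => by rw [N_add, q_add, hi, add_zero]
      map_smul' := fun a v => by
        rw [N_smul]
        rcases z2 a with h | h
        · rw [h, zero_smul, q_zero, map_zero, zero_smul]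
        · rw [h, one_smul, map_one, one_smul] }
  obtain ⟨n, hn⟩ := exists_vec f
  exact ⟨n, hM, hi, hn⟩

namespace Inv

variable {M : V ≃ₗ[ZMod 2] V} {n : V}

theorem symm (h : Inv M n) (v w : V) : B v (N M w) = B (N M v) w := symm_of h.mem h.isot v w

theorem NN (h : Inv M n) (v : V) : N M (N M v) = 0 := by
  refine Model.nondeg fun w => ?_
  rw [← h.symm, h.isot]

theorem Nn (h : Inv M n) : N M n = 0 := by
  refine Model.nondeg fun w => ?_
  rw [← h.symm, ← h.vec, h.NN, q_zero]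

theorem fix (h : Inv M n) : M n = n := N_eq_zero.1 h.Nn

/-- The characteristic vector is nonsingular. -/
theorem qn (h : Inv M n) (hn : M ∉ Om) : q n = 1 := by
  refine (z2 _).resolve_left fun hq => hn ?_
  by_cases h0 : n = 0
  · refine TSI.mem_Om h.mem fun v => ?_
    rw [h.vec, h0, B_zero_left]
  obtain ⟨v0, hv0⟩ := exists_one h0
  have hnn : B n (N M v0) = 0 := by rw [h.symm, h.Nn, B_zero_left]
  have hN := N_X h.mem hq hnn h.fix (N_eq_zero.1 (h.NN v0))
  have hq0 : q (N M v0) = 1 := by rw [h.vec, hv0]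
  have hR : X n (N M v0) * M ∈ Om := by
    refine TSI.mem_Om (mul_mem (X_mem_O8 _ _) h.mem) fun v => ?_
    rw [hN, hq0, one_mul]
    have hvn : B (N M v) n = 0 := by rw [← h.symm, h.Nn, B_zero_right]
    have hv0 : B (N M v) (N M v0) = 0 := h.isot v v0
    have hnn' : B (N M v0) n = 0 := by rw [B_comm]; exact hnn
    have hvv : q (N M v) = B n v := h.vec v
    exact q_comb hvv hq0 hq hv0 hvn hnn' _
  have e : M = X n (N M v0) * (X n (N M v0) * M) := by rw [← mul_assoc, X_mul_self, one_mul]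
  rw [e]
  exact mul_mem (X_mem _ _) hR

end Inv

/-! ### Witt -/

theorem exists_isometry {k : ℕ} {x y : Fin k → V} (hx : LinearIndependent (ZMod 2) x) (hy : LinearIndependent (ZMod 2) y)
    (hq : ∀ i, q (x i) = q (y i)) (hB : ∀ i j, B (x i) (x j) = B (y i) (y j)) : ∃ g ∈ O8, ∀ i, g (x i) = y i := by
  have hnd : (QuadraticMap.polarBilin q).Nondegenerate := by
    refine ⟨fun a ha => good.nondeg a ha, fun a ha => good.nondeg a fun b => ?_⟩
    rw [QuadraticMap.polar_comm]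
    exact ha b
  obtain ⟨g, hg, h⟩ := Cfsg.Agent.ClassicalGeometry.WittQuad.extend_family q hnd k x y hx hy hq hB
  exact ⟨g, mem_O8.2 hg, h⟩

theorem refl_congr {n n' : V} (h : n = n') (hn : q n ≠ 0) (hn' : q n' ≠ 0) : refl q n hn = refl q n' hn' := by
  subst h
  rfl

theorem li_one {n : V} (hn : q n = 1) : LinearIndependent (ZMod 2) ![n] := by
  rw [Fintype.linearIndependent_iff]
  intro c hc i
  have hc' : c 0 • n = 0 := by simpa only [_root_.Fin.isValue, _root_.smul_eq_zero, _root_.Nat.succ_eq_add_one, _root_.Nat.reduceAdd, _root_.Finset.univ_unique, _root_.Fin.default_eq_zero, _root_.Matrix.cons_val_fin_one, _root_.Finset.sum_singleton] using hc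
  have : c 0 = 0 := by
    rcases z2 (c 0) with h | h
    · exact h
    · rw [h, one_smul] at hc'
      rw [hc', q_zero] at hn
      exact absurd hn (by decide)
  fin_cases i
  exact this

theorem li_three {n u w : V} (hn : q n = 1) (hu : q u = 0) (hw : q w = 0) (huw : B u w = 0) (hnu : B n u = 0)
    (hnw : B n w = 0) (h1 : u ≠ 0) (h2 : w ≠ 0) (h3 : u ≠ w) : LinearIndependent (ZMod 2) ![n, u, w] := by
  rw [Fintype.linearIndependent_iff]
  intro c hc
  have hc' : c 0 • n + c 1 • u + c 2 • w = 0 := by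
    have := hc
    rw [Fin.sum_univ_three] at this
    exact this
  have h0 : c 0 = 0 := by
    rcases z2 (c 0) with h | h
    · exact h
    · exfalso
      have e := congrArg q hc'
      rw [q_add, q_add, B_add_left, q_zero, q_smul, q_smul, q_smul] at e
      simp only [B_smul_left, B_smul_right, hn, hu, hw, huw, hnu, hnw, h, mul_zero, add_zero, mul_one] at e
      exact absurd e (by decide)
  rw [h0, zero_smul, zero_add] at hc'
  have h12 : c 1 = 0 ∧ c 2 = 0 := by
    rcases z2 (c 1) with h | h <;> rcases z2 (c 2) with h' | h' <;> rw [h, h'] at hc'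
    · exact ⟨h, h'⟩
    · rw [zero_smul, one_smul, zero_add] at hc'
      exact absurd hc' h2
    · rw [zero_smul, one_smul, add_zero] at hc'
      exact absurd hc' h1
    · rw [one_smul, one_smul] at hc'
      exact absurd (eq_of_add_eq_zero hc') h3
  intro i
  fin_cases i
  · exact h0
  · exact h12.1
  · exact h12.2

theorem bv_inj {i j : Fin 8} (h : bv i = bv j) : i = j := by
  have h1 : Dc.b i = Dc.b j := by rw [← toD_bv, ← toD_bv, h]
  have h2 := congrFun h1 i
  rw [Dc.b_apply, Dc.b_apply, if_pos rfl] at h2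
  by_contra hne
  rw [if_neg hne] at h2
  exact absurd h2 (by decide)

/-- Correction of the conjugating element. -/
theorem adjust {M T : V ≃ₗ[ZMod 2] V} {g : V ≃ₗ[ZMod 2] V} (hg : g ∈ O8) (h : g * M * g⁻¹ = T) (hT : sw * T * sw = T) :
    ∃ g ∈ Om, g * M * g⁻¹ = T := by
  rcases mem_or hg with h1 | h1
  · exact ⟨g, h1, h⟩
  · refine ⟨sw * g, ?_, ?_⟩
    · have e : sw * g = sw * (g * sw) * sw⁻¹ := by group
      rw [e]
      exact Cfsg.Agent.LieClassical.OrthCore.conj_mem_E sw_mem h1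
    · have e : sw * g * M * (sw * g)⁻¹ = sw * (g * M * g⁻¹) * sw⁻¹ := by group
      rw [e, h, sw_inv, hT]

theorem sw_z : sw * xb 0 1 = xb 0 1 * sw := by
  have h := sw_xb 0 1
  have e1 : σ 0 = 0 := by decide
  have e2 : σ 1 = 1 := by decide
  rw [e1, e2] at h
  calc sw * xb 0 1 = sw * xb 0 1 * (sw * sw) := by rw [sw_sq, mul_one]
    _ = sw * xb 0 1 * sw * sw := by group
    _ = xb 0 1 * sw := by rw [h]

/-- **Involutions outside `Om`.** -/
theorem lin {M : V ≃ₗ[ZMod 2] V} (hM : M ∈ O8) (hn : M ∉ Om) (h2 : M * M = 1) :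
    ∃ g ∈ Om, g * M * g⁻¹ = sw ∨ g * M * g⁻¹ = sw * xb 0 1 := by
  obtain ⟨n, h⟩ := exists_inv hM h2
  have hq := h.qn hn
  have hq0 : q n ≠ 0 := by rw [hq]; decide
  set R := refl q n hq0 * M with hR
  have hRO : R ∈ O8 := mul_mem (refl_mem_O _) hM
  have hMR : M = refl q n hq0 * R := by rw [hR, ← mul_assoc, refl_mul_self, one_mul]
  have hRN : ∀ v, N R v = N M v + B n v • n := fun v => by
    have e1 : B n (M v) = B n v := by
      have := O8_B hM n v
      rwa [h.fix] at this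
    show refl q n hq0 (M v) + v = _
    rw [refl_eq, e1]
    unfold N
    abel
  have hNn : ∀ v, B n (N M v) = 0 := fun v => by rw [h.symm, h.Nn, B_zero_left]
  have hTSI : TSI R := fun v => by
    have e1 : B (N M v) (B n v • n) = 0 := by rw [B_smul_right, B_comm _ n, hNn, mul_zero]
    rw [hRN, q_add, e1, q_smul, hq, h.vec, add_zero, mul_one]
    exact zz _
  have hBn : ∀ v, B n (N R v) = 0 := fun v => by
    rw [hRN, B_add_right, hNn, B_smul_right, B_self, mul_zero, add_zero]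
  -- the image
  let K : Submodule (ZMod 2) V :=
    { carrier := {w | ∃ v, N R v = w}
      zero_mem' := ⟨0, by unfold N; rw [map_zero, add_zero]⟩
      add_mem' := by
        rintro _ _ ⟨v, rfl⟩ ⟨w, rfl⟩
        exact ⟨v + w, N_add _ _ _⟩
      smul_mem' := by
        rintro a _ ⟨v, rfl⟩
        exact ⟨a • v, N_smul _ _ _⟩ }
  have hTS : TS q K := by
    rintro _ ⟨v, rfl⟩
    exact hTSI v
  have hk : Module.finrank (ZMod 2) K ≤ 3 := by
    have hnd : (QuadraticMap.polarBilin q).Nondegenerate := by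
      refine ⟨fun a ha => good.nondeg a ha, fun a ha => good.nondeg a fun b => ?_⟩
      rw [QuadraticMap.polar_comm]
      exact ha b
    have h1 := LinearMap.BilinForm.finrank_orthogonal hnd K
    rw [finrank_V] at h1
    have h2 : K < LinearMap.BilinForm.orthogonal (QuadraticMap.polarBilin q) K := by
      refine lt_of_le_of_ne ?_ ?_
      · rintro _ ⟨w, rfl⟩
        rw [LinearMap.BilinForm.mem_orthogonal_iff]
        rintro _ ⟨v, rfl⟩
        exact hTSI.isot v w
      · intro e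
        have h3 : n ∈ LinearMap.BilinForm.orthogonal (QuadraticMap.polarBilin q) K := by
          rw [LinearMap.BilinForm.mem_orthogonal_iff]
          rintro _ ⟨v, rfl⟩
          show B (N R v) n = 0
          rw [B_comm]
          exact hBn v
        rw [← e] at h3
        have h4 := hTS n h3
        rw [hq] at h4
        exact absurd h4 (by decide)
    have h3 := Submodule.finrank_lt_finrank_of_lt h2
    omega
  by_cases hR1 : R = 1
  · -- a reflection
    obtain ⟨g, hg, hgn⟩ := exists_isometry (x := ![n]) (y := ![bv 3 + bv 7]) (li_one hq)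
      (li_one ((z2 _).resolve_left q37)) (fun i => by
        fin_cases i
        show q n = q (bv 3 + bv 7)
        rw [hq, (z2 _).resolve_left q37]) (fun i j => by
        fin_cases i
        fin_cases j
        show B n n = B (bv 3 + bv 7) (bv 3 + bv 7)
        rw [B_self, B_self])
    have hgn0 : g n = bv 3 + bv 7 := hgn 0
    obtain ⟨g', hg', e⟩ := adjust (M := M) (T := sw) hg (by
      rw [hMR, hR1, mul_one, refl_conj hg hq0 (by rw [hgn0]; exact q37), sw_eq]
      exact refl_congr hgn0 _ _) (by rw [sw_sq, one_mul])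
    exact ⟨g', hg', Or.inl e⟩
  · obtain ⟨u, w, hu, hw, huw, hu0, hw0, hne, e⟩ := Root.isRoot_of_sub hTS hk hRO hR1 (fun v => ⟨v, rfl⟩)
    have hXN : ∀ v, N R v = B u v • w + B w v • u := fun v => by
      show R v + v = _
      rw [e, X_apply hu hw huw]
      calc v + B u v • w + B w v • u + v = (v + v) + (B u v • w + B w v • u) := by abel
        _ = _ := by rw [add_self, zero_add]
    obtain ⟨v1, a1, a2⟩ := exists_B hu0 hw0 hne 1 0
    obtain ⟨v2, b1, b2⟩ := exists_B hu0 hw0 hne 0 1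
    have hnw : B n w = 0 := by
      have := hBn v1
      rwa [hXN, a1, a2, one_smul, zero_smul, add_zero] at this
    have hnu : B n u = 0 := by
      have := hBn v2
      rwa [hXN, b1, b2, one_smul, zero_smul, zero_add] at this
    have k0 : B (bv 3 + bv 7) (bv 0) = 0 := by rw [B_add_left, B_bv, B_bv]; decide
    have k1 : B (bv 3 + bv 7) (bv 1) = 0 := by rw [B_add_left, B_bv, B_bv]; decide
    have k01 : B (bv 0) (bv 1) = 0 := by rw [B_bv]; decide
    obtain ⟨g, hg, hgn⟩ := exists_isometry (x := ![n, u, w]) (y := ![bv 3 + bv 7, bv 0, bv 1])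
      (li_three hq hu hw huw hnu hnw hu0 hw0 hne)
      (li_three ((z2 _).resolve_left q37) (q_bv 0) (q_bv 1) k01 k0 k1 (bv_ne 0) (bv_ne 1)
        (fun h => absurd (bv_inj h) (by decide)))
      (fun i => by
        fin_cases i
        · show q n = q (bv 3 + bv 7)
          rw [hq, (z2 _).resolve_left q37]
        · show q u = q (bv 0)
          rw [hu, q_bv]
        · show q w = q (bv 1)
          rw [hw, q_bv])
      (fun i j => by
        fin_cases i <;> fin_cases j
        · show B n n = B (bv 3 + bv 7) (bv 3 + bv 7)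
          rw [B_self, B_self]
        · show B n u = B (bv 3 + bv 7) (bv 0)
          rw [hnu, k0]
        · show B n w = B (bv 3 + bv 7) (bv 1)
          rw [hnw, k1]
        · show B u n = B (bv 0) (bv 3 + bv 7)
          rw [B_comm u, B_comm (bv 0), hnu, k0]
        · show B u u = B (bv 0) (bv 0)
          rw [B_self, B_self]
        · show B u w = B (bv 0) (bv 1)
          rw [huw, k01]
        · show B w n = B (bv 1) (bv 3 + bv 7)
          rw [B_comm w, B_comm (bv 1), hnw, k1]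
        · show B w u = B (bv 1) (bv 0)
          rw [B_comm w, B_comm (bv 1), huw, k01]
        · show B w w = B (bv 1) (bv 1)
          rw [B_self, B_self])
    have hgn0 : g n = bv 3 + bv 7 := hgn 0
    have hgu : g u = bv 0 := hgn 1
    have hgw : g w = bv 1 := hgn 2
    obtain ⟨g', hg', e'⟩ := adjust (M := M) (T := sw * xb 0 1) hg (by
      have e2 : g * M * g⁻¹ = (g * refl q n hq0 * g⁻¹) * (g * X u w * g⁻¹) := by
        rw [hMR, ← e]; group
      rw [e2, refl_conj hg hq0 (by rw [hgn0]; exact q37), X_conj hg, hgu, hgw, sw_eq, refl_congr hgn0 _ q37]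
      rfl) (by
        rw [← mul_assoc, sw_sq, one_mul, ← sw_z])
    exact ⟨g', hg', Or.inr e'⟩

end Cfsg.Agent.StdO8.EvenLin
end
end

-- part: StdO8/Even
section
prune_inst 0x404122000000000082010004041c00009200230001414006000208036280002f001c20151200202a00000400481010000000000000200000004020052180021002d1890000000001003881100000000000000000000000000000000004000400000
set_option linter.all false
open scoped Cfsg.Agent.FastGrp

-- part: StdO8/EvenF
section
/-!
# The reflection in `C_G(t)` when `|C(t) : ⟨t⟩ L|` is even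

`L ≅ Ω₈⁺(2)`; involutions `y s` with `t ^ (y s) = t x_s` which centralise `C_L(x_s)` for all roots `s`. If `|C(t) : ⟨t⟩ L|` is even, there
is an involution `f` of `C(t)` which acts as the reflection `sw` on `L`, commutes with `y s` for the roots `s` fixed by the graph
automorphism, and maps `y s` into `y_{s'} ⟨x_{s'}⟩`, `s'` the image of `s`, in general (`exists_f`).
-/

set_option autoImplicit false

namespace Cfsg.Agent.StdO8.EvenF

open Cfsg.Agent.StdO8.Model (V q B X O8 Om)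
open Cfsg.Agent.StdO8.D4Root (E ip roots Φ)
open Cfsg.Agent.StdO8.Frame (Ctx Lin)
open Cfsg.Agent.StdO8.Bas
open Cfsg.Agent.StdO8.DataOf
open Cfsg.Agent.StdO8.Graph (sw sw_mem sw_sq sw_inv sw_xO)
open Cfsg.Agent.StdO8.EvenLin (sw_notMem mem_or)
open Cfsg.Agent.Doubling.Rel (Root Data)

/-- The graph automorphism of the root system. -/
def g0 (s : E) : E := DoubRoot.gam 1 2 s

theorem g0_mem : ∀ s ∈ roots, g0 s ∈ roots ∧ g0 (g0 s) = s := by decide +kernel

/-- The reflection as an element of `O8`. -/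
def swO : O8 := ⟨sw, sw_mem⟩

theorem swO_sq : swO * swO = 1 := Subtype.ext sw_sq

theorem cj_xm {s : E} (hs : s ∈ Φ) : Cfsg.Agent.StdO8.Aut.cj swO (xm s) = xm (g0 s) := by
  apply Subtype.ext
  rw [Cfsg.Agent.StdO8.Aut.cj_coe]
  show sw * xO s * sw⁻¹ = xO (g0 s)
  rw [sw_inv, sw_xO hs]
  rfl

variable {G : Type*} [Group G] (C : Ctx G)

theorem L_le_Lin : C.L ⊔ Subgroup.zpowers C.t ≤ Lin C.t C.r := by
  rw [sup_le_iff, Subgroup.zpowers_le]
  refine ⟨?_, C.mem_Lin.2 ⟨1, C.isLin_t⟩⟩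
  rintro _ ⟨m, rfl⟩
  exact C.mem_Lin.2 ⟨_, C.isLin_r m⟩

/-- Elements of `Lin` acting as elements of `Om`. -/
theorem mem_of_Om {g : G} {M : O8} (hM : C.IsLin g M) (h : (M : V ≃ₗ[ZMod 2] V) ∈ Om) : g ∈ C.L ⊔ Subgroup.zpowers C.t := by
  have hL : ∀ m, C.r m ∈ C.L ⊔ Subgroup.zpowers C.t := fun m =>
    (le_sup_left : C.L ≤ C.L ⊔ Subgroup.zpowers C.t) (C.r_mem m)
  have ht : C.t ∈ C.L ⊔ Subgroup.zpowers C.t :=
    (le_sup_right : Subgroup.zpowers C.t ≤ C.L ⊔ Subgroup.zpowers C.t) (Subgroup.mem_zpowers _)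
  rcases DataOf.eq_of_isLin C hM (m := ⟨M, h⟩) rfl with h1 | h1
  · rw [h1]; exact hL _
  · rw [h1]; exact mul_mem ht (hL _)

theorem Om_of_mem {g : G} {M : O8} (hM : C.IsLin g M) (h : g ∈ C.L ⊔ Subgroup.zpowers C.t) : (M : V ≃ₗ[ZMod 2] V) ∈ Om := by
  let S : Subgroup G :=
    { carrier := {g | ∃ m : Om, C.IsLin g (Ctx.up m)}
      one_mem' := ⟨1, by
        have e : Ctx.up (1 : Om) = 1 := rfl
        rw [e]; exact C.isLin_one⟩
      mul_mem' := by
        rintro a b ⟨m, hm⟩ ⟨n, hn⟩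
        exact ⟨m * n, (hm.mul hn :)⟩
      inv_mem' := by
        rintro a ⟨m, hm⟩
        exact ⟨m⁻¹, hm.inv⟩ }
  have hle : C.L ⊔ Subgroup.zpowers C.t ≤ S := by
    rw [sup_le_iff, Subgroup.zpowers_le]
    constructor
    · rintro _ ⟨m, rfl⟩
      exact ⟨m, C.isLin_r m⟩
    · exact ⟨1, C.isLin_t⟩
  obtain ⟨m, hm⟩ := hle h
  have := hM.unique hm
  rw [this]
  exact m.2

/-- **Existence of an element acting as the reflection.** -/
theorem exists_v [Finite G] (hev : ¬ Odd ((C.L ⊔ Subgroup.zpowers C.t).relIndex (Subgroup.centralizer {C.t}))) :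
    ∃ v, C.IsLin v swO := by
  have hne : ¬ Lin C.t C.r ≤ C.L ⊔ Subgroup.zpowers C.t := by
    intro hle
    apply hev
    rw [le_antisymm (L_le_Lin C) hle]
    exact C.odd
  obtain ⟨g, hg, hgn⟩ := Set.not_subset.1 hne
  obtain ⟨M, hM⟩ := C.mem_Lin.1 hg
  have hMO : (M : V ≃ₗ[ZMod 2] V) ∉ Om := fun h => hgn (mem_of_Om C hM h)
  have h1 := (mem_or M.2).resolve_left hMO
  refine ⟨(C.r ⟨_, h1⟩)⁻¹ * g, ?_⟩
  have h2 := (C.isLin_r ⟨_, h1⟩).inv.mul hM
  have e : (Ctx.up ⟨_, h1⟩)⁻¹ * M = swO := by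
    apply Subtype.ext
    show ((M : V ≃ₗ[ZMod 2] V) * sw)⁻¹ * (M : V ≃ₗ[ZMod 2] V) = sw
    rw [mul_inv_rev, inv_mul_cancel_right, sw_inv]
  rwa [e] at h2

variable {C}

theorem v_x {v : G} (hv : C.IsLin v swO) {s : E} (hs : s ∈ Φ) : v * x C s * v⁻¹ = x C (g0 s) := by
  unfold x
  rw [hv.2, cj_xm hs]

theorem v_L {v : G} (hv : C.IsLin v swO) {l : G} (hl : l ∈ C.L) : v⁻¹ * l * v ∈ C.L := by
  obtain ⟨m, rfl⟩ := hl
  have := hv.inv.2 m
  rw [inv_inv] at this
  rw [this]
  exact C.r_mem _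

/-! ### Uniqueness of the involutions -/

theorem sep : ∀ r ∈ roots, ∃ s ∈ roots, r - s ∈ roots ∧ ip r s = 1 ∧ ip (r - s) r = 1 ∧ ip (r - s) s = -1 := by
  decide +kernel

/-- The fixed roots are connected. -/
theorem path : ∀ s ∈ roots, g0 s = s → ∃ a ∈ roots, ∃ b ∈ roots, g0 a = a ∧ g0 b = b ∧
    (DoubRoot.zr = a ∨ (g0 (a - DoubRoot.zr) = a - DoubRoot.zr ∧ a - DoubRoot.zr ∈ roots ∧ ip DoubRoot.zr (a - DoubRoot.zr) = -1)) ∧
    (a = b ∨ (g0 (b - a) = b - a ∧ b - a ∈ roots ∧ ip a (b - a) = -1)) ∧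
    (b = s ∨ (g0 (s - b) = s - b ∧ s - b ∈ roots ∧ ip b (s - b) = -1)) := by
  decide +kernel

section Data

variable {y : E → G} (D : Data ip Φ C.t C.L (x C) y)

include D

/-- The elements of `C(t)` which centralise `C_L(x_r)`. -/
theorem cent_root {r : E} (hr : r ∈ Φ) {g : G} (hg : g * C.t = C.t * g)
    (hc : ∀ h ∈ C.L, h * x C r = x C r * h → g * h = h * g) :
    ∃ τ α, (τ = 1 ∨ τ = C.t) ∧ (α = 1 ∨ α = x C r) ∧ g = τ * α := by
  obtain ⟨s, hs, hrs, h1, h2, h3⟩ := sep r hr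
  obtain ⟨τ, α, β, hτ, hα, hβ, e⟩ := D.dc r hr s hs (Or.inr h1) g hg fun h hh h1 _ => hc h hh h1
  rcases hβ with hβ | hβ
  · exact ⟨τ, α, hτ, hα, by rw [e, hβ, mul_one]⟩
  · exfalso
    have e1 := hc _ (x_mem C (r - s)) (x_comm C hrs hr (by rw [h2]; decide))
    have cτ : τ * x C (r - s) = x C (r - s) * τ := by
      rcases hτ with h | h <;> rw [h]
      · rw [one_mul, mul_one]
      · exact D.tL _ (x_mem C _)
    have cα : α * x C (r - s) = x C (r - s) * α := by
      rcases hα with h | h <;> rw [h]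
      · rw [one_mul, mul_one]
      · exact (x_comm C hrs hr (by rw [h2]; decide)).symm
    have cβ : β * x C (r - s) = x C (r - s) * β := by
      have e2 : β = (τ * α)⁻¹ * g := by rw [e]; group
      have e3 : τ * α * x C (r - s) = x C (r - s) * (τ * α) := by
        rw [mul_assoc, cα, ← mul_assoc, cτ, mul_assoc]
      have e4 : (τ * α)⁻¹ * x C (r - s) = x C (r - s) * (τ * α)⁻¹ := by
        rw [inv_mul_eq_iff_eq_mul, ← mul_assoc, e3]; group
      rw [e2, mul_assoc, e1, ← mul_assoc, e4, mul_assoc]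
    rw [hβ] at cβ
    have e5 := x_conj C hrs hs h3
    rw [cβ, mul_assoc, x_sq, mul_one, sub_add_cancel] at e5
    exact x_ne C hr (left_eq_mul.1 e5)

theorem yx_self {r : E} (hr : r ∈ Φ) : y r * x C r = x C r * y r := (D.yC r hr _ (x_mem C r) rfl).symm

/-- **Uniqueness of the involutions `y r`.** -/
theorem uniq {r : E} (hr : r ∈ Φ) {w : G} (hw : w * w = 1) (hwt : w * C.t * w = C.t * x C r)
    (hc : ∀ h ∈ C.L, h * x C r = x C r * h → w * h = h * w) : w = y r ∨ w = y r * x C r := by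
  have hy := D.y_sq r hr
  have hg : y r * w * C.t = C.t * (y r * w) := by
    have e1 : w * C.t = C.t * x C r * w := by
      calc w * C.t = w * C.t * (w * w) := by rw [hw, mul_one]
        _ = w * C.t * w * w := by group
        _ = _ := by rw [hwt]
    have e2 : y r * (C.t * x C r) = C.t * y r := by
      have e3 := D.ty r hr
      calc y r * (C.t * x C r) = y r * (y r * C.t * y r) := by rw [e3]
        _ = (y r * y r) * C.t * y r := by group
        _ = C.t * y r := by rw [hy, one_mul]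
    calc y r * w * C.t = y r * (w * C.t) := by group
      _ = y r * (C.t * x C r) * w := by rw [e1]; group
      _ = C.t * (y r * w) := by rw [e2]; group
  obtain ⟨τ, α, hτ, hα, e⟩ := cent_root D hr hg fun h hh h1 => by
    have e1 := hc h hh h1
    have e2 := D.yC r hr h hh h1
    rw [mul_assoc, e1, ← mul_assoc, ← e2, mul_assoc]
  have hwe : w = y r * τ * α := by
    calc w = (y r * y r) * w := by rw [hy, one_mul]
      _ = y r * (y r * w) := by group
      _ = y r * τ * α := by rw [e]; group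
  rcases hτ with hτ | hτ
  · rw [hτ, mul_one] at hwe
    rcases hα with hα | hα
    · left; rw [hwe, hα, mul_one]
    · right; rw [hwe, hα]
  · exfalso
    have cα : α * y r = y r * α := by
      rcases hα with h | h <;> rw [h]
      · rw [one_mul, mul_one]
      · exact (yx_self D hr).symm
    have cαt : C.t * α = α * C.t := by
      rcases hα with h | h <;> rw [h]
      · rw [one_mul, mul_one]
      · exact D.tL _ (x_mem C r)
    have αα : α * α = 1 := by
      rcases hα with h | h <;> rw [h]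
      · rw [one_mul]
      · exact x_sq C r
    rw [hwe, hτ] at hw
    have e1 : y r * C.t * α * (y r * C.t * α) = (y r * C.t * y r) * C.t * (α * α) := by
      calc y r * C.t * α * (y r * C.t * α) = y r * C.t * (α * y r) * C.t * α := by group
        _ = y r * C.t * y r * (α * C.t) * α := by rw [cα]; group
        _ = (y r * C.t * y r) * C.t * (α * α) := by rw [← cαt]; group
    rw [e1, D.ty r hr, αα, mul_one] at hw
    have e2 : C.t * x C r * C.t = x C r := by
      rw [D.tL _ (x_mem C r), mul_assoc, D.tt, mul_one]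
    rw [e2] at hw
    exact x_ne C hr hw

/-- The action of `v` on the `y s`. -/
theorem v_y {v : G} (hv : C.IsLin v swO) {s : E} (hs : s ∈ Φ) :
    v * y s * v⁻¹ = y (g0 s) ∨ v * y s * v⁻¹ = y (g0 s) * x C (g0 s) := by
  have hvt : v * C.t = C.t * v := hv.1
  refine uniq D (g0_mem s hs).1 ?_ ?_ ?_
  · calc v * y s * v⁻¹ * (v * y s * v⁻¹) = v * (y s * y s) * v⁻¹ := by group
      _ = 1 := by rw [D.y_sq s hs]; group
  · rw [← v_x hv hs]
    have e1 : v⁻¹ * C.t * v = C.t := by rw [mul_assoc, ← hvt, inv_mul_cancel_left]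
    calc v * y s * v⁻¹ * C.t * (v * y s * v⁻¹) = v * (y s * (v⁻¹ * C.t * v) * y s) * v⁻¹ := by group
      _ = v * (C.t * x C s) * v⁻¹ := by rw [e1, D.ty s hs]
      _ = (v * C.t) * x C s * v⁻¹ := by group
      _ = C.t * (v * x C s * v⁻¹) := by rw [hvt]; group
  · intro h hh h1
    rw [← v_x hv hs] at h1
    have h2 : v⁻¹ * h * v * x C s = x C s * (v⁻¹ * h * v) := by
      calc v⁻¹ * h * v * x C s = v⁻¹ * (h * (v * x C s * v⁻¹)) * v := by group
        _ = x C s * (v⁻¹ * h * v) := by rw [h1]; group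
    have h3 := D.yC s hs _ (v_L hv hh) h2
    calc v * y s * v⁻¹ * h = v * (y s * (v⁻¹ * h * v)) * v⁻¹ := by group
      _ = h * (v * y s * v⁻¹) := by rw [← h3]; group

/-- `v` is an involution. -/
theorem v_sq {v : G} (hv : C.IsLin v swO) : v * v = 1 := by
  have h1 := hv.mul hv
  rw [swO_sq] at h1
  rcases h1.eq_of_one with h2 | h2
  · exact h2
  · exfalso
    have hz : DoubRoot.zr ∈ Φ := by decide
    have hgz : g0 DoubRoot.zr = DoubRoot.zr := by decide
    set z := DoubRoot.zr with hzd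
    have h3 := v_y D hv hz
    rw [hgz] at h3
    have h4 : v * x C z * v⁻¹ = x C z := by rw [v_x hv hz, hgz]
    have h5 : v * v * y z * (v * v)⁻¹ = y z := by
      rcases h3 with h3 | h3
      · calc v * v * y z * (v * v)⁻¹ = v * (v * y z * v⁻¹) * v⁻¹ := by group
          _ = y z := by rw [h3, h3]
      · calc v * v * y z * (v * v)⁻¹ = v * (v * y z * v⁻¹) * v⁻¹ := by group
          _ = v * (y z * x C z) * v⁻¹ := by rw [h3]
          _ = (v * y z * v⁻¹) * (v * x C z * v⁻¹) := by group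
          _ = y z * (x C z * x C z) := by rw [h3, h4]; group
          _ = y z := by rw [x_sq, mul_one]
    rw [h2] at h5
    have h6 := D.ty z hz
    have h7 : y z * C.t * y z = C.t := by
      calc y z * C.t * y z = (C.t * y z * C.t⁻¹) * C.t * y z := by rw [h5]
        _ = C.t * (y z * y z) := by group
        _ = C.t := by rw [D.y_sq z hz, mul_one]
    rw [h7] at h6
    exact x_ne C hz (left_eq_mul.1 h6)

/-- Passing from one fixed root to another. -/
theorem pass {v : G} (hv : C.IsLin v swO) {a b : E} (ha : a ∈ Φ) (hb : b ∈ Φ) (gb : g0 b = b)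
    (gba : g0 (b - a) = b - a) (hba : b - a ∈ Φ) (hab : ip a (b - a) = -1) (h : v * y a * v⁻¹ = y a) :
    v * y b * v⁻¹ = y b := by
  have h1 := v_y D hv hb
  rw [gb] at h1
  rcases h1 with h1 | h1
  · exact h1
  exfalso
  obtain ⟨κ, hκ, e⟩ := D.lemA' D4Root.root ha hba hab
  have eab : a + (b - a) = b := by abel
  rw [eab] at hκ e
  have hx : ∀ {s : E}, s ∈ Φ → g0 s = s → v * x C s * v⁻¹ = x C s := fun {s} hs hg => by rw [v_x hv hs, hg]
  have vκ : v * κ * v⁻¹ = κ := by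
    rcases hκ with h | h <;> rw [h]
    · group
    · exact hx hb gb
  have e2 : v * (x C (b - a) * y a * x C (b - a)) * v⁻¹ = x C (b - a) * y a * x C (b - a) := by
    calc v * (x C (b - a) * y a * x C (b - a)) * v⁻¹ =
        (v * x C (b - a) * v⁻¹) * (v * y a * v⁻¹) * (v * x C (b - a) * v⁻¹) := by group
      _ = _ := by rw [hx hba gba, h]
  rw [e] at e2
  have e3 : v * (y b * y a * κ) * v⁻¹ = y b * x C b * y a * κ := by
    calc v * (y b * y a * κ) * v⁻¹ = (v * y b * v⁻¹) * (v * y a * v⁻¹) * (v * κ * v⁻¹) := by group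
      _ = _ := by rw [h1, h, vκ]
  rw [e3] at e2
  have e4 : y b * x C b = y b := mul_right_cancel (mul_right_cancel e2)
  exact x_ne C hb (mul_eq_left.1 e4)

theorem all_fixed {v : G} (hv : C.IsLin v swO) (h : v * y DoubRoot.zr * v⁻¹ = y DoubRoot.zr) {s : E} (hs : s ∈ Φ)
    (gs : g0 s = s) : v * y s * v⁻¹ = y s := by
  obtain ⟨a, ha, b, hb, ga, gb, h1, h2, h3⟩ := path s hs gs
  have hz : DoubRoot.zr ∈ Φ := by decide
  have hgz : g0 DoubRoot.zr = DoubRoot.zr := by decide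
  have e1 : v * y a * v⁻¹ = y a := by
    rcases h1 with h1 | ⟨h1, h1', h1''⟩
    · rw [← h1]; exact h
    · exact pass D hv hz ha ga h1 h1' h1'' h
  have e2 : v * y b * v⁻¹ = y b := by
    rcases h2 with h2 | ⟨h2, h2', h2''⟩
    · rw [← h2]; exact e1
    · exact pass D hv ha hb gb h2 h2' h2'' e1
  rcases h3 with h3 | ⟨h3, h3', h3''⟩
  · rw [← h3]; exact e2
  · exact pass D hv hb hs gs h3 h3' h3'' e2

end Data

/-- The reflection. -/
structure IsF (C : Ctx G) (y : E → G) (f : G) : Prop where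
  lin : C.IsLin f swO
  ff : f * f = 1
  fx : ∀ s ∈ Φ, f * x C s * f = x C (g0 s)
  fy : ∀ s ∈ Φ, f * y s * f = y (g0 s) ∨ f * y s * f = y (g0 s) * x C (g0 s)
  fix : ∀ s ∈ Φ, g0 s = s → f * y s * f = y s

/-- **Existence of the reflection.** -/
theorem exists_f [Finite G] {y : E → G} (D : Data ip Φ C.t C.L (x C) y)
    (hev : ¬ Odd ((C.L ⊔ Subgroup.zpowers C.t).relIndex (Subgroup.centralizer {C.t}))) : ∃ f, IsF C y f := by
  have key : ∀ v, C.IsLin v swO → v * y DoubRoot.zr * v⁻¹ = y DoubRoot.zr → IsF C y v := by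
    intro v hv h
    have hvv := v_sq D hv
    have vinv : v⁻¹ = v := inv_eq_of_mul_eq_one_left hvv
    refine ⟨hv, hvv, fun s hs => ?_, fun s hs => ?_, fun s hs gs => ?_⟩
    · have := v_x hv hs
      rwa [vinv] at this
    · have := v_y D hv hs
      rwa [vinv] at this
    · have := all_fixed D hv h hs gs
      rwa [vinv] at this
  obtain ⟨v, hv⟩ := exists_v C hev
  have hz : DoubRoot.zr ∈ Φ := by decide
  have hgz : g0 DoubRoot.zr = DoubRoot.zr := by decide
  have h1 := v_y D hv hz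
  rw [hgz] at h1
  rcases h1 with h1 | h1
  · exact ⟨v, key v hv h1⟩
  · have hv' : C.IsLin (C.t * v) swO := by
      have := C.isLin_t.mul hv
      rwa [one_mul] at this
    refine ⟨C.t * v, key _ hv' ?_⟩
    set z := DoubRoot.zr
    have e1 : C.t * y z * C.t = y z * x C z := by
      have e2 := D.ty z hz
      have e3 := D.y_sq z hz
      have e4 := D.tL _ (x_mem C z)
      have e5 := yx_self D hz
      calc C.t * y z * C.t = (y z * y z) * C.t * y z * C.t := by rw [e3, one_mul]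
        _ = y z * (y z * C.t * y z) * C.t := by group
        _ = y z * (C.t * x C z) * C.t := by rw [e2]
        _ = y z * (x C z * (C.t * C.t)) := by rw [e4]; group
        _ = y z * x C z := by rw [D.tt, mul_one]
    have tx : C.t * x C z * C.t = x C z := by rw [D.tL _ (x_mem C z), mul_assoc, D.tt, mul_one]
    calc C.t * v * y z * (C.t * v)⁻¹ = C.t * (v * y z * v⁻¹) * C.t⁻¹ := by group
      _ = C.t * (y z * x C z) * C.t := by rw [h1, C.t_inv]
      _ = C.t * y z * 1 * x C z * C.t := by group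
      _ = C.t * y z * (C.t * C.t) * x C z * C.t := by rw [D.tt]
      _ = (C.t * y z * C.t) * (C.t * x C z * C.t) := by group
      _ = y z * (x C z * x C z) := by rw [e1, tx]; group
      _ = y z := by rw [x_sq, mul_one]

end Cfsg.Agent.StdO8.EvenF
end

-- part: Doubling/Even
section
/-!
# Transfer when `|C(t) : ⟨t⟩ L|` is even

`P` is a 2-group normalised by commuting involutions `t`, `f`, every involution of `t P` is `P`-conjugate to `t`, and
`T ≤ P ⟨t, f⟩` is a Sylow 2-subgroup of `C_G(t)` generated by involutions. If no involution of `f P` which centralises `t` is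
conjugate to `t` in `G`, then there is a homomorphism `G → {±1}` with `t ↦ -1` (`exists_hom`).
-/

set_option autoImplicit false

namespace Cfsg.Agent.Doubling.Even

variable {G : Type*} [Group G]

/-! ### Adjoining an involution -/

/-- The subgroup `K ⟨a⟩`. -/
def adj (K : Subgroup G) (a : G) (haa : a * a = 1) (hn : ∀ k ∈ K, a * k * a ∈ K) : Subgroup G where
  carrier := {g | g ∈ K ∨ a * g ∈ K}
  one_mem' := Or.inl (one_mem _)
  mul_mem' := by
    rintro g h (hg | hg) (hh | hh)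
    · exact Or.inl (mul_mem hg hh)
    · right
      have h1 := mul_mem (hn g hg) hh
      have e : a * g * a * (a * h) = a * (g * h) := by
        calc a * g * a * (a * h) = a * g * (a * a) * h := by group
          _ = a * (g * h) := by rw [haa]; group
      rwa [e] at h1
    · right
      have h1 := mul_mem hg hh
      rwa [mul_assoc] at h1
    · left
      have h1 := mul_mem (hn _ hg) hh
      have e : a * (a * g) * a * (a * h) = g * h := by
        calc a * (a * g) * a * (a * h) = (a * a) * g * (a * a) * h := by group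
          _ = g * h := by rw [haa]; group
      rwa [e] at h1
  inv_mem' := by
    rintro g (hg | hg)
    · exact Or.inl (inv_mem hg)
    · right
      have h1 := hn _ (inv_mem hg)
      have ainv : a⁻¹ = a := inv_eq_of_mul_eq_one_left haa
      have e : a * (a * g)⁻¹ * a = a * g⁻¹ := by
        rw [mul_inv_rev, ainv]
        calc a * (g⁻¹ * a) * a = a * g⁻¹ * (a * a) := by group
          _ = a * g⁻¹ := by rw [haa]; group
      rwa [e] at h1

section adj

variable {K : Subgroup G} {a : G} {haa : a * a = 1} {hn : ∀ k ∈ K, a * k * a ∈ K}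

theorem self_mem : a ∈ adj K a haa hn := Or.inr (by rw [haa]; exact one_mem _)

open Classical in
/-- The sign with kernel `K`. -/
noncomputable def sign (_ha : a ∉ K) : adj K a haa hn →* ℤˣ where
  toFun g := if (g : G) ∈ K then 1 else -1
  map_one' := if_pos (one_mem _)
  map_mul' := by
    rintro ⟨g, hg⟩ ⟨h, hh⟩
    have key : ∀ g, g ∈ adj K a haa hn → g ∉ K → a * g ∈ K := fun g hg hn => hg.resolve_left hn
    simp only [MulMemClass.mk_mul_mk]
    by_cases h1 : g ∈ K <;> by_cases h2 : h ∈ K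
    · rw [if_pos h1, if_pos h2, if_pos (mul_mem h1 h2), one_mul]
    · have h3 : g * h ∉ K := fun hn => h2 (by
        have := mul_mem (inv_mem h1) hn
        rwa [inv_mul_cancel_left] at this)
      rw [if_pos h1, if_neg h2, if_neg h3, one_mul]
    · have h3 : g * h ∉ K := fun hn => h1 (by
        have := mul_mem hn (inv_mem h2)
        rwa [mul_inv_cancel_right] at this)
      rw [if_neg h1, if_pos h2, if_neg h3, mul_one]
    · have h4 := key g hg h1
      have h5 := key h hh h2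
      have h6 := mul_mem (hn _ h4) h5
      have h7 : a * (a * g) * a * (a * h) = g * h := by
        calc a * (a * g) * a * (a * h) = (a * a) * g * (a * a) * h := by group
          _ = g * h := by rw [haa]; group
      rw [h7] at h6
      rw [if_neg h1, if_neg h2, if_pos h6]
      rfl

theorem sign_apply (ha : a ∉ K) (g : adj K a haa hn) : sign ha g = -1 ↔ (g : G) ∉ K := by
  classical
  show (if (g : G) ∈ K then (1 : ℤˣ) else -1) = -1 ↔ _
  by_cases h1 : (g : G) ∈ K
  · rw [if_pos h1]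
    exact ⟨fun h => absurd h (by decide), fun h => absurd h1 h⟩
  · rw [if_neg h1]
    exact ⟨fun _ => h1, fun _ => rfl⟩

end adj

/-! ### The transfer lemma -/

open Subgroup in
/-- (TR), fifth form: only the conjugates of `t` which come from `T`-fixed cosets have to be in the class of `t`. -/
theorem exists_hom_of_fixed_class [Finite G] {H : Subgroup G} (l : H →* ℤˣ) {t : G} (ht : t * t = 1) (htH : t ∈ H)
    (hlt : l ⟨t, htH⟩ = -1) (T : Subgroup G) (hT : IsPGroup 2 T) (hTt : ∀ x ∈ T, Commute x t)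
    (hcl : ∀ g : G, ∀ h : g⁻¹ * t * g ∈ H, l ⟨g⁻¹ * t * g, h⟩ = -1 → (∀ x ∈ T, g⁻¹ * x * g ∈ H) →
      ∃ k ∈ H, g⁻¹ * t * g = k * t * k⁻¹)
    (hodd : Odd (H.relIndex (centralizer ({t} : Set G)))) : ∃ m : G →* ℤˣ, m t = -1 := by
  classical
  refine Cfsg.Agent.StdSpSix.TR.exists_hom_of_fixed l ht T hT hTt ?_
  set C : Subgroup G := centralizer ({t} : Set G) with hC
  have hmem : ∀ g, g ∈ C ↔ g * t = t * g := fun g => mem_centralizer_singleton_iff
  let S : Type _ := {q : G ⧸ H // ∃ c ∈ C, (c : G ⧸ H) = q}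
  have hcard : Nat.card S = H.relIndex C := by
    rw [relIndex, index]
    symm
    refine Nat.card_congr (Equiv.ofBijective (fun q : C ⧸ H.subgroupOf C =>
      (⟨Quotient.liftOn' q (fun c => ((c : G) : G ⧸ H)) ?_, ?_⟩ : S)) ⟨?_, ?_⟩)
    · intro a b hab
      rw [QuotientGroup.leftRel_apply, mem_subgroupOf] at hab
      rw [QuotientGroup.eq]
      exact hab
    · obtain ⟨c, rfl⟩ := QuotientGroup.mk_surjective q
      exact ⟨c, c.2, rfl⟩
    · intro q1 q2 h
      obtain ⟨c1, rfl⟩ := QuotientGroup.mk_surjective q1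
      obtain ⟨c2, rfl⟩ := QuotientGroup.mk_surjective q2
      have h1 : ((c1 : G) : G ⧸ H) = ((c2 : G) : G ⧸ H) := congrArg Subtype.val h
      rw [QuotientGroup.eq] at h1
      rw [QuotientGroup.eq, mem_subgroupOf]
      exact h1
    · rintro ⟨q, c, hc, rfl⟩
      exact ⟨((⟨c, hc⟩ : C) : C ⧸ H.subgroupOf C), rfl⟩
  let act : MulAction T S :=
    { smul := fun x q => ⟨(x : G) • (q : G ⧸ H), by
        obtain ⟨c, hc, h⟩ := q.2
        refine ⟨x * c, mul_mem ((hmem _).2 (hTt x x.2)) hc, ?_⟩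
        rw [← h, MulAction.Quotient.smul_mk, smul_eq_mul]⟩
      one_smul := fun q => Subtype.ext (one_smul G (q : G ⧸ H))
      mul_smul := fun x y q => Subtype.ext (mul_smul (x : G) (y : G) (q : G ⧸ H)) }
  have : Fact (Nat.Prime 2) := ⟨Nat.prime_two⟩
  have h1 := hT.card_modEq_card_fixedPoints S
  have h2 : Nat.card (MulAction.fixedPoints T S) =
      Nat.card {q : G ⧸ H // Cfsg.Agent.StdSpSix.TR.Bad l t q ∧ ∀ x ∈ T, x • q = q} := by
    have hfix : ∀ (q : S), q ∈ MulAction.fixedPoints T S → ∀ x ∈ T, x • (q : G ⧸ H) = q := fun q hq x hx =>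
      congrArg Subtype.val (hq ⟨x, hx⟩)
    have hbad : ∀ q : S, Cfsg.Agent.StdSpSix.TR.Bad l t (q : G ⧸ H) := by
      rintro ⟨q, c, hc, rfl⟩
      have h1 : (c : G)⁻¹ * t * c = t := by
        have := (hmem _).1 hc
        rw [mul_assoc, ← this, inv_mul_cancel_left]
      refine ⟨c, rfl, by rw [h1]; exact htH, ?_⟩
      rw [← hlt]
      congr 1
      exact Subtype.ext h1
    have hS : ∀ q : G ⧸ H, Cfsg.Agent.StdSpSix.TR.Bad l t q → (∀ x ∈ T, x • q = q) → ∃ c ∈ C, (c : G ⧸ H) = q := by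
      rintro q ⟨g, rfl, h, hg⟩ hx
      obtain ⟨k, hk, hgk⟩ := hcl g h hg (fun x hxT => by
        have h3 := hx x hxT
        rw [MulAction.Quotient.smul_mk, smul_eq_mul, eq_comm, QuotientGroup.eq, ← mul_assoc] at h3
        exact h3)
      have hc : g * k ∈ C := by
        rw [hmem]
        have : t = g * (k * t * k⁻¹) * g⁻¹ := by rw [← hgk]; group
        calc g * k * t = g * (k * t * k⁻¹) * g⁻¹ * (g * k) := by group
          _ = t * (g * k) := by rw [← this]
      refine ⟨g * k, hc, ?_⟩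
      rw [eq_comm, QuotientGroup.eq, inv_mul_cancel_left]
      exact hk
    exact Nat.card_congr ⟨fun q => ⟨q.1.1, hbad q.1, hfix q.1 q.2⟩,
      fun q => ⟨⟨q.1, hS q.1 q.2.1 q.2.2⟩, fun x => Subtype.ext (q.2.2 x x.2)⟩, fun q => rfl, fun q => rfl⟩
  rw [h2, hcard] at h1
  rw [Nat.odd_iff] at hodd ⊢
  unfold Nat.ModEq at h1
  rw [← h1, hodd]

/-! ### The abstract theorem -/

/-- The hypotheses. -/
structure Hyp (t f : G) (P : Subgroup G) (S : Set G) (y z : G) : Prop where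
  tt : t * t = 1
  ff : f * f = 1
  tf : t * f = f * t
  tP : ∀ p ∈ P, t * p * t ∈ P
  fP : ∀ p ∈ P, f * p * f ∈ P
  f_notMem : f ∉ P
  t_notMem : t ∉ P
  conj : ∀ p ∈ P, (t * p) * (t * p) = 1 → ∃ c ∈ P, t * p = c * t * c⁻¹
  sq : ∀ s ∈ S, s * s = 1
  comm : ∀ s ∈ S, s * t = t * s
  mem : ∀ s ∈ S, s ∈ P ∨ s = t ∨ s = f
  tS : t ∈ S
  yP : y ∈ P
  zP : z ∈ P
  y_ne : y ≠ 1
  z_ne : z ≠ 1
  yz_ne : y ≠ z
  zz : z * z = 1
  tz : t * z = z * t
  yc : ∀ p ∈ P, y * p = p * y
  zc : ∀ p ∈ P, z * p = p * z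
  yf : y * f = f * y
  zf : z * f = f * z
  cent : ∀ g, g * t = t * g → (∀ s ∈ S, g * s = s * g) → g = 1 ∨ g = t ∨ g = z ∨ g = t * z
  no : ∀ u ∈ P, u * t = t * u → (f * u) * (f * u) = 1 → ∀ g, g⁻¹ * t * g ≠ f * u

namespace Hyp

variable {t f : G} {P : Subgroup G} {S : Set G} {y z : G}

theorem t_inv (h : Hyp t f P S y z) : t⁻¹ = t := inv_eq_of_mul_eq_one_left h.tt
theorem f_inv (h : Hyp t f P S y z) : f⁻¹ = f := inv_eq_of_mul_eq_one_left h.ff

theorem tftf (h : Hyp t f P S y z) : (t * f) * (t * f) = 1 := by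
  calc (t * f) * (t * f) = t * (f * t) * f := by group
    _ = (t * t) * (f * f) := by rw [← h.tf]; group
    _ = 1 := by rw [h.tt, h.ff, one_mul]

theorem tfP (h : Hyp t f P S y z) : ∀ p ∈ P, (t * f) * p * (t * f) ∈ P := fun p hp => by
  have h1 := h.tP _ (h.fP p hp)
  have e : t * (f * p * f) * t = (t * f) * p * (t * f) := by
    calc t * (f * p * f) * t = (t * f) * p * (f * t) := by group
      _ = _ := by rw [← h.tf]
  rwa [e] at h1

/-- The kernel of the sign. -/
def K (h : Hyp t f P S y z) : Subgroup G := adj P (t * f) h.tftf h.tfP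

theorem tK (h : Hyp t f P S y z) : ∀ k ∈ h.K, t * k * t ∈ h.K := by
  rintro k (hk | hk)
  · exact Or.inl (h.tP k hk)
  · right
    have h1 := h.tP _ hk
    have e : t * (t * f * k) * t = t * f * (t * k * t) := by
      calc t * (t * f * k) * t = t * (t * f) * k * t := by group
        _ = t * (f * t) * k * t := by rw [h.tf]
        _ = t * f * (t * k * t) := by group
    rwa [e] at h1

/-- The whole group. -/
def H (h : Hyp t f P S y z) : Subgroup G := adj h.K t h.tt h.tK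

theorem t_notMem_K (h : Hyp t f P S y z) : t ∉ h.K := by
  rintro (hk | hk)
  · exact h.t_notMem hk
  · apply h.f_notMem
    have e : t * f * t = f := by
      calc t * f * t = f * (t * t) := by rw [h.tf]; group
        _ = f := by rw [h.tt, mul_one]
    rwa [e] at hk

theorem P_le (h : Hyp t f P S y z) : P ≤ h.H := fun _ hp => Or.inl (Or.inl hp)

/-- Membership in the four cosets. -/
theorem mem_H (h : Hyp t f P S y z) {g : G} (hg : g ∈ h.H) : g ∈ P ∨ t * f * g ∈ P ∨ t * g ∈ P ∨ f * g ∈ P := by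
  rcases hg with (hg | hg) | (hg | hg)
  · exact Or.inl hg
  · exact Or.inr (Or.inl hg)
  · exact Or.inr (Or.inr (Or.inl hg))
  · refine Or.inr (Or.inr (Or.inr ?_))
    have e : t * f * (t * g) = f * g := by
      calc t * f * (t * g) = (f * t) * (t * g) := by rw [h.tf]
        _ = f * (t * t) * g := by group
        _ = f * g := by rw [h.tt, mul_one]
    rwa [e] at hg

theorem f_mem_H (h : Hyp t f P S y z) : f ∈ h.H := by
  right
  right
  have e : t * f * (t * f) = 1 := h.tftf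
  show t * f * (t * f) ∈ P
  rw [e]
  exact one_mem _

theorem S_le (h : Hyp t f P S y z) {s : G} (hs : s ∈ S) : s ∈ h.H := by
  rcases h.mem s hs with h1 | rfl | rfl
  · exact h.P_le h1
  · exact self_mem
  · exact h.f_mem_H

/-- No `T`-fixed bad coset in `f P`. -/
theorem notMem (h : Hyp t f P S y z) {g : G} (hx : f * (g⁻¹ * t * g) ∈ P) (hS : ∀ s ∈ S, g⁻¹ * s * g ∈ h.H) : False := by
  obtain ⟨x, hxd⟩ : ∃ x, x = g⁻¹ * t * g := ⟨_, rfl⟩
  rw [← hxd] at hx
  have hxx : x * x = 1 := by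
    rw [hxd]
    calc g⁻¹ * t * g * (g⁻¹ * t * g) = g⁻¹ * (t * t) * g := by group
      _ = 1 := by rw [h.tt]; group
  by_cases hall : ∀ s ∈ S, g⁻¹ * s * g ∈ P ∨ f * (g⁻¹ * s * g) ∈ P
  · -- `y`, `z` centralise `T'`
    have key : ∀ w, (∀ p ∈ P, w * p = p * w) → w * f = f * w → ∀ k, (k ∈ P ∨ f * k ∈ P) → w * k = k * w := by
      intro w hw hwf k hk
      rcases hk with hk | hk
      · exact hw k hk
      · have e := hw _ hk
        have e2 : f * (w * k) = f * (k * w) := by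
          calc f * (w * k) = (f * w) * k := by group
            _ = w * (f * k) := by rw [← hwf]; group
            _ = f * (k * w) := by rw [e]; group
        exact mul_left_cancel e2
    have key2 : ∀ w, (∀ p ∈ P, w * p = p * w) → w * f = f * w →
        (g * w * g⁻¹ = 1 ∨ g * w * g⁻¹ = t ∨ g * w * g⁻¹ = z ∨ g * w * g⁻¹ = t * z) := by
      intro w hw hwf
      have hcs : ∀ s ∈ S, g * w * g⁻¹ * s = s * (g * w * g⁻¹) := fun s hs => by
        have e := key w hw hwf _ (hall s hs)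
        calc g * w * g⁻¹ * s = g * (w * (g⁻¹ * s * g)) * g⁻¹ := by group
          _ = s * (g * w * g⁻¹) := by rw [e]; group
      exact h.cent _ (hcs t h.tS) hcs
    have hyz : ∀ p ∈ P, y * z * p = p * (y * z) := fun p hp => by
      rw [mul_assoc, h.zc p hp, ← mul_assoc, h.yc p hp, mul_assoc]
    have hyzf : y * z * f = f * (y * z) := by
      rw [mul_assoc, h.zf, ← mul_assoc, h.yf, mul_assoc]
    have hxP : x ∉ P := fun hxP => h.f_notMem (by
      have := mul_mem hx (inv_mem hxP)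
      rwa [mul_inv_cancel_right] at this)
    have hback : ∀ w ∈ P, g * w * g⁻¹ ≠ t := fun w hw e => hxP (by
      rw [hxd, ← e]
      have : g⁻¹ * (g * w * g⁻¹) * g = w := by group
      rwa [this])
    have hne : ∀ w, w ≠ 1 → g * w * g⁻¹ ≠ 1 := fun w hw e => hw (by
      have : w = g⁻¹ * (g * w * g⁻¹) * g := by group
      rw [this, e]; group)
    have z_inv : z⁻¹ = z := inv_eq_of_mul_eq_one_left h.zz
    have hyz1 : y * z ≠ 1 := fun e => h.yz_ne (by rw [mul_eq_one_iff_eq_inv, z_inv] at e; exact e)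
    have a1 : g * y * g⁻¹ = z ∨ g * y * g⁻¹ = t * z := by
      rcases key2 y h.yc h.yf with e | e | e
      · exact absurd e (hne y h.y_ne)
      · exact absurd e (hback y h.yP)
      · exact e
    have a2 : g * z * g⁻¹ = z ∨ g * z * g⁻¹ = t * z := by
      rcases key2 z h.zc h.zf with e | e | e
      · exact absurd e (hne z h.z_ne)
      · exact absurd e (hback z h.zP)
      · exact e
    have ha12 : g * y * g⁻¹ ≠ g * z * g⁻¹ := fun e => h.yz_ne (mul_left_cancel (mul_right_cancel e))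
    have ha3 : g * (y * z) * g⁻¹ = (g * y * g⁻¹) * (g * z * g⁻¹) := by group
    have ha3' := hback _ (mul_mem h.yP h.zP)
    rw [ha3] at ha3'
    rcases a1 with a1 | a1 <;> rcases a2 with a2 | a2
    · exact ha12 (a1.trans a2.symm)
    · apply ha3'
      rw [a1, a2, h.tz, ← mul_assoc, h.zz, one_mul]
    · apply ha3'
      rw [a1, a2, mul_assoc, h.zz, mul_one]
    · exact ha12 (a1.trans a2.symm)
  · push Not at hall
    obtain ⟨s, hs, hs1, hs2⟩ := hall
    obtain ⟨j, hjd⟩ : ∃ j, j = g⁻¹ * s * g := ⟨_, rfl⟩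
    rw [← hjd] at hs1 hs2
    have hjj : j * j = 1 := by
      rw [hjd]
      calc g⁻¹ * s * g * (g⁻¹ * s * g) = g⁻¹ * (s * s) * g := by group
        _ = 1 := by rw [h.sq s hs]; group
    have hjx : j * x = x * j := by
      rw [hjd, hxd]
      calc g⁻¹ * s * g * (g⁻¹ * t * g) = g⁻¹ * (s * t) * g := by group
        _ = g⁻¹ * t * g * (g⁻¹ * s * g) := by rw [h.comm s hs]; group
    -- an involution of `t P` commuting with `x`
    have hex : ∃ i, t * i ∈ P ∧ i * i = 1 ∧ i * x = x * i := by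
      have hjH := h.mem_H (hS s hs)
      rw [← hjd] at hjH
      rcases hjH with h1 | h1 | h1 | h1
      · exact absurd h1 hs1
      · refine ⟨x * j, ?_, ?_, ?_⟩
        · have h2 := mul_mem (h.tfP _ hx) h1
          have e : t * f * (f * x) * (t * f) * (t * f * j) = t * (x * j) := by
            calc t * f * (f * x) * (t * f) * (t * f * j) = t * (f * f) * x * ((t * f) * (t * f)) * j := by group
              _ = t * (x * j) := by rw [h.ff, h.tftf]; group
          rwa [e] at h2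
        · calc x * j * (x * j) = x * (j * x) * j := by group
            _ = (x * x) * (j * j) := by rw [hjx]; group
            _ = 1 := by rw [hxx, hjj, one_mul]
        · rw [mul_assoc, hjx]
      · exact ⟨j, h1, hjj, hjx⟩
      · exact absurd h1 hs2
    obtain ⟨i, hi, hii, hix⟩ := hex
    have e1 : t * (t * i) = i := by rw [← mul_assoc, h.tt, one_mul]
    obtain ⟨c, hc, hci⟩ := h.conj _ hi (by rw [e1]; exact hii)
    rw [e1] at hci
    -- move `i` to `t`
    have hu : f * (c⁻¹ * x * c) ∈ P := by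
      have h2 := mul_mem (mul_mem (h.fP _ (inv_mem hc)) hx) hc
      have e : f * c⁻¹ * f * (f * x) * c = f * (c⁻¹ * x * c) := by
        calc f * c⁻¹ * f * (f * x) * c = f * c⁻¹ * (f * f) * x * c := by group
          _ = _ := by rw [h.ff]; group
      rwa [e] at h2
    have hxt : (c⁻¹ * x * c) * t = t * (c⁻¹ * x * c) := by
      have e : t = c⁻¹ * i * c := by rw [hci]; group
      rw [e]
      calc c⁻¹ * x * c * (c⁻¹ * i * c) = c⁻¹ * (x * i) * c := by group
        _ = c⁻¹ * i * c * (c⁻¹ * x * c) := by rw [← hix]; group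
    have e3 : f * (f * (c⁻¹ * x * c)) = c⁻¹ * x * c := by rw [← mul_assoc, h.ff, one_mul]
    refine h.no _ hu ?_ ?_ (g * c) ?_
    · calc f * (c⁻¹ * x * c) * t = f * ((c⁻¹ * x * c) * t) := by group
        _ = (f * t) * (c⁻¹ * x * c) := by rw [hxt]; group
        _ = t * (f * (c⁻¹ * x * c)) := by rw [← h.tf]; group
    · rw [e3]
      calc c⁻¹ * x * c * (c⁻¹ * x * c) = c⁻¹ * (x * x) * c := by group
        _ = 1 := by rw [hxx]; group
    · rw [e3, hxd]
      group

/-- **The theorem.** -/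
theorem exists_hom [Finite G] (h : Hyp t f P S y z) (hT : IsPGroup 2 (Subgroup.closure S))
    (hodd : Odd ((Subgroup.closure S).relIndex (Subgroup.centralizer {t}))) : ∃ m : G →* ℤˣ, m t = -1 := by
  have htH : t ∈ h.H := self_mem
  have hlt : (sign h.t_notMem_K : h.H →* ℤˣ) ⟨t, htH⟩ = -1 := (sign_apply h.t_notMem_K _).2 h.t_notMem_K
  have hTt : ∀ x ∈ Subgroup.closure S, Commute x t := fun x hx => by
    have hle : Subgroup.closure S ≤ Subgroup.centralizer {t} := by
      rw [Subgroup.closure_le]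
      intro s hs
      exact Subgroup.mem_centralizer_singleton_iff.2 (h.comm s hs)
    exact Subgroup.mem_centralizer_singleton_iff.1 (hle hx)
  have hTH : Subgroup.closure S ≤ h.H := by
    rw [Subgroup.closure_le]
    exact fun s hs => h.S_le hs
  refine exists_hom_of_fixed_class (H := h.H) (sign h.t_notMem_K) h.tt htH hlt (Subgroup.closure S) hT hTt
    (fun g hg hl hS => ?_) ?_
  · have h1 := (sign_apply h.t_notMem_K _).1 hl
    have h2 : t * (g⁻¹ * t * g) ∈ h.K := hg.resolve_left h1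
    rcases h2 with h2 | h2
    · have e1 : t * (t * (g⁻¹ * t * g)) = g⁻¹ * t * g := by rw [← mul_assoc, h.tt, one_mul]
      obtain ⟨c, hc, hcc⟩ := h.conj _ h2 (by
        rw [e1]
        calc g⁻¹ * t * g * (g⁻¹ * t * g) = g⁻¹ * (t * t) * g := by group
          _ = 1 := by rw [h.tt]; group)
      rw [e1] at hcc
      exact ⟨c, h.P_le hc, hcc⟩
    · exfalso
      have e : t * f * (t * (g⁻¹ * t * g)) = f * (g⁻¹ * t * g) := by
        calc t * f * (t * (g⁻¹ * t * g)) = (f * t) * (t * (g⁻¹ * t * g)) := by rw [h.tf]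
          _ = f * (t * t) * (g⁻¹ * t * g) := by group
          _ = _ := by rw [h.tt, mul_one]
      rw [e] at h2
      exact h.notMem h2 fun s hs => hS s (Subgroup.subset_closure hs)
  · have hle : Subgroup.closure S ≤ h.H ⊓ Subgroup.centralizer {t} :=
      le_inf hTH fun x hx => Subgroup.mem_centralizer_singleton_iff.2 (hTt x hx)
    have h1 := Subgroup.relIndex_mul_relIndex (Subgroup.closure S) (h.H ⊓ Subgroup.centralizer {t})
      (Subgroup.centralizer {t}) hle inf_le_right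
    rw [← h1, Subgroup.inf_relIndex_right] at hodd
    exact (Nat.odd_mul.1 hodd).2

end Hyp

end Cfsg.Agent.Doubling.Even
end

-- part: Doubling/GrowthCard
section
/-!
# Orders in `Growth.Dbl`

`V k ∩ W k = 1`, `|W k| = c ^ k` if all `V i` have order `c`, and lower bounds for the fixed points of an automorphism of `W n`.
-/

set_option autoImplicit false

namespace Cfsg.Agent.Doubling.Growth

variable {G : Type*} [Group G]

/-- Two subgroups with trivial intersection in a third one. -/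
theorem card_mul_le [Finite G] {A B S : Subgroup G} (hA : A ≤ S) (hB : B ≤ S) (h : ∀ b ∈ B, b ∈ A → b = 1) :
    Nat.card A * Nat.card B ≤ Nat.card S := by
  rw [← Nat.card_prod]
  refine Nat.card_le_card_of_injective (fun p : A × B => (⟨p.1 * p.2, mul_mem (hA p.1.2) (hB p.2.2)⟩ : S)) ?_
  rintro ⟨⟨a, ha⟩, ⟨b, hb⟩⟩ ⟨⟨a', ha'⟩, ⟨b', hb'⟩⟩ e
  have e1 : a * b = a' * b' := congrArg Subtype.val e
  have e2 : b * b'⁻¹ = a⁻¹ * a' := by
    rw [eq_inv_mul_iff_mul_eq, ← mul_assoc, e1, mul_inv_cancel_right]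
  have e3 : b * b'⁻¹ = 1 := h _ (mul_mem hb (inv_mem hb')) (by rw [e2]; exact mul_mem (inv_mem ha) ha')
  have e4 : b = b' := mul_inv_eq_one.1 e3
  have e5 : a = a' := by
    rw [e4] at e1
    exact mul_right_cancel e1
  subst e4
  subst e5
  rfl

namespace Dbl

variable {t : G} {V X : ℕ → Subgroup G} {n : ℕ}

/-- `V k ∩ W k = 1` -/
theorem disj (h : Dbl t V X n) {k : ℕ} (hk : k < n) {v : G} (hv : v ∈ V k) (hw : v ∈ W V k) : v = 1 := by
  have h1 := (h.main k hk.le).1
  have hX : ∀ v ∈ V k, v ∈ W V k → t * v * t = v → v = 1 := by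
    intro v hv hw hf
    have h3 : v ∈ X k ⊓ W X k := ⟨h.fix k hk v hv hf, h1 v hw hf⟩
    rw [h.indep k hk] at h3
    exact Subgroup.mem_bot.1 h3
  have hv' := h.conj k hk v hv
  have hw' := h.conj_W hk.le hw
  have hcomm : ∀ a ∈ V k, ∀ b ∈ V k, a * b = b * a := by
    intro a ha b hb
    have e1 := h.sq k hk (a * b) (mul_mem ha hb)
    have e2 := h.sq k hk a ha
    have e3 := h.sq k hk b hb
    calc a * b = a * ((a * b) * (a * b)) * b := by rw [e1, mul_one]
      _ = (a * a) * (b * a) * (b * b) := by group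
      _ = b * a := by rw [e2, e3, one_mul, mul_one]
  have e : v * (t * v * t) = 1 := by
    apply hX _ (mul_mem hv hv') (mul_mem hw hw')
    rw [h.conj_mul, h.conj_conj]
    exact hcomm _ hv' _ hv
  have e1 : t * v * t = v := by
    have e2 := h.sq k hk v hv
    exact mul_left_cancel (e.trans e2.symm)
  exact hX v hv hw e1

theorem card_succ [Finite G] (h : Dbl t V X n) {k : ℕ} (hk : k < n) :
    Nat.card (W V (k + 1)) = Nat.card (W V k) * Nat.card (V k) := by
  rw [← Nat.card_prod]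
  symm
  refine Nat.card_congr (Equiv.ofBijective (fun p : W V k × V k =>
    (⟨p.1 * p.2, mul_mem (W_mono V (Nat.le_succ k) p.1.2) (le_W V (Nat.lt_succ_self k) p.2.2)⟩ : W V (k + 1))) ⟨?_, ?_⟩)
  · rintro ⟨⟨a, ha⟩, ⟨b, hb⟩⟩ ⟨⟨a', ha'⟩, ⟨b', hb'⟩⟩ e
    have e1 : a * b = a' * b' := congrArg Subtype.val e
    have e2 : b * b'⁻¹ = a⁻¹ * a' := by
      rw [eq_inv_mul_iff_mul_eq, ← mul_assoc, e1, mul_inv_cancel_right]
    have e3 : b * b'⁻¹ = 1 := h.disj hk (mul_mem hb (inv_mem hb')) (by rw [e2]; exact mul_mem (inv_mem ha) ha')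
    have e4 : b = b' := mul_inv_eq_one.1 e3
    have e5 : a = a' := by
      rw [e4] at e1
      exact mul_right_cancel e1
    subst e4
    subst e5
    rfl
  · rintro ⟨w, hw⟩
    obtain ⟨u, hu, v, hv, e⟩ := h.mem_succ hk hw
    exact ⟨⟨⟨u, hu⟩, ⟨v, hv⟩⟩, Subtype.ext e.symm⟩

theorem card_W [Finite G] (h : Dbl t V X n) {c : ℕ} (hc : ∀ i < n, Nat.card (V i) = c) :
    ∀ k ≤ n, Nat.card (W V k) = c ^ k := by
  intro k
  induction k with
  | zero =>
    intro _
    rw [W_zero]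
    simp
  | succ k ih =>
    intro hk
    rw [h.card_succ hk, ih (Nat.le_of_succ_le hk), hc k hk, pow_succ]

/-- A fixed term. -/
theorem card_fixed [Finite G] (h : Dbl t V X n) {f : G} {k : ℕ} (hk : k < n) (hf : ∀ v ∈ V k, v * f = f * v) :
    Nat.card (W V k ⊓ Subgroup.centralizer {f} : Subgroup G) * Nat.card (V k) ≤
      Nat.card (W V (k + 1) ⊓ Subgroup.centralizer {f} : Subgroup G) := by
  refine card_mul_le (inf_le_inf_right _ (W_mono V (Nat.le_succ k))) ?_ fun b hb hb' => h.disj hk hb hb'.1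
  exact le_inf (le_W V (Nat.lt_succ_self k)) fun v hv => Subgroup.mem_centralizer_singleton_iff.2 (hf v hv)

/-- A pair of terms. -/
theorem card_pair [Finite G] (h : Dbl t V X n) {f a b : G} {k : ℕ} (hk : k + 1 < n) (ha : a ∈ V k) (hb : b ∈ V (k + 1))
    (hb1 : b ≠ 1) (hab : (a * b) * (a * b) = 1) (hf : a * b * f = f * (a * b)) :
    Nat.card (W V k ⊓ Subgroup.centralizer {f} : Subgroup G) * 2 ≤
      Nat.card (W V (k + 2) ⊓ Subgroup.centralizer {f} : Subgroup G) := by
  have hk' : k < n := Nat.lt_of_succ_lt hk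
  have hnot : a * b ∉ W V k := fun hw => hb1 (h.disj hk hb (by
    have h1 := mul_mem (inv_mem (le_W V (Nat.lt_succ_self k) ha)) (W_mono V (Nat.le_succ k) hw)
    rwa [inv_mul_cancel_left] at h1))
  have hne : a * b ≠ 1 := fun e => hnot (by rw [e]; exact one_mem _)
  have hc : Nat.card (Subgroup.zpowers (a * b)) = 2 := by
    rw [Nat.card_zpowers]
    exact orderOf_eq_prime (by rw [pow_two]; exact hab) hne
  have key : Nat.card (W V k ⊓ Subgroup.centralizer {f} : Subgroup G) * Nat.card (Subgroup.zpowers (a * b)) ≤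
      Nat.card (W V (k + 2) ⊓ Subgroup.centralizer {f} : Subgroup G) := ?_
  · rw [hc] at key
    exact key
  refine card_mul_le (inf_le_inf_right _ (W_mono V (Nat.le_add_right k 2))) ?_ fun w hw hw' => ?_
  · rw [Subgroup.zpowers_le]
    refine ⟨mul_mem (le_W V (by omega) ha) (le_W V (by omega) hb), Subgroup.mem_centralizer_singleton_iff.2 hf⟩
  · obtain ⟨j, rfl⟩ := hw
    have h2 : (a * b) ^ (2 : ℤ) = 1 := by rw [zpow_ofNat, pow_two]; exact hab
    rcases Int.even_or_odd' j with ⟨m, rfl | rfl⟩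
    · show (a * b) ^ (2 * m) = 1
      rw [zpow_mul, h2, one_zpow]
    · exfalso
      have h3 : (a * b) ^ (2 * m + 1) ∈ W V k := hw'.1
      rw [zpow_add, zpow_mul, h2, one_zpow, one_mul, zpow_one] at h3
      exact hnot h3

end Dbl

end Cfsg.Agent.Doubling.Growth
end

-- part: StdO8/Even
section
/-!
# The end of the doubling argument for `L ≅ Ω₈⁺(2)` and `|C(t) : ⟨t⟩ L|` even

Given involutions `y s` with `t ^ (y s) = t x_s` which centralise `C_L(x_s)` for all roots `s`, there is a homomorphism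
`G → {±1}` with `t ↦ -1` (`exists_hom`); the case of odd `|C(t) : ⟨t⟩ L|` is `Uni.exists_hom`.
-/

set_option autoImplicit false
set_option linter.unusedSectionVars false

namespace Cfsg.Agent.StdO8.Even

open Cfsg.Agent.StdO8.Model (V q B X O8 Om)
open Cfsg.Agent.StdO8.D4Root (E ip roots Φ)
open Cfsg.Agent.StdO8.Frame (Ctx Lin)
open Cfsg.Agent.StdO8.Bas
open Cfsg.Agent.StdO8.DataOf
open Cfsg.Agent.StdO8.Uni
open Cfsg.Agent.StdO8.EvenF
open Cfsg.Agent.StdO8.Graph (sw sw_mem sw_sq sw_inv sw_xO)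
open Cfsg.Agent.StdO8.EvenLin (sw_notMem mem_or)
open Cfsg.Agent.Doubling.Rel (Root Data)
open Cfsg.Agent.Doubling.Rel.Data (four x_mem_four y_mem_four)
open Cfsg.Agent.Doubling (Growth.W)
open Cfsg.Agent.StdO8.DoubRoot (zr)

/-! ### The root system -/

theorem seq_comm : ∀ j < 12, ∀ i < j, 0 ≤ ip (seq i) (seq j) ∨
    (ip (seq i) (seq j) = -1 ∧ ∃ k ∈ Finset.range i, seq k = seq i + seq j) := by decide +kernel

theorem zr_pos : ∀ i < 12, 0 ≤ ip zr (seq i) := by decide +kernel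

theorem g0_seq : ∀ i < 12, ∃ k ∈ Finset.range 12, seq k = g0 (seq i) := by decide +kernel

theorem seq_zero : seq 0 = zr := by decide

theorem fixed_seq : ∀ i ∈ [0, 1, 4, 5, 8, 9], g0 (seq i) = seq i := by decide +kernel

theorem swap_seq : ∀ i ∈ [2, 6, 10], g0 (seq i) = seq (i + 1) ∧ g0 (seq (i + 1)) = seq i ∧ ip (seq i) (seq (i + 1)) = 0 := by
  decide +kernel

variable {G : Type*} [Group G] {C : Ctx G} {y : E → G} (D : Data ip Φ C.t C.L (x C) y)

/-! ### The doubled group -/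

/-- The doubled root groups. -/
noncomputable def Vs (C : Ctx G) (y : E → G) (i : ℕ) : Subgroup G := four (x C) y (seq i)

/-- The root groups. -/
noncomputable def Xs (C : Ctx G) (i : ℕ) : Subgroup G := Subgroup.zpowers (x C (seq i))

include D

theorem growth : Cfsg.Agent.Doubling.Growth.Dbl C.t (Vs C y) (Xs C) 12 := by
  have T := D.dbl D4Root.root
  have hm : ∀ {i : ℕ}, i < 12 → seq i ∈ Φ := fun {i} hi => seq_mem i hi
  exact
    { tt := C.tt
      conj := fun i hi v hv => T.conj_t _ (hm hi) v hv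
      sq := fun i hi v hv => T.sq _ (hm hi) v hv
      fix := fun i hi v hv h => by
        refine (T.cent _ (hm hi) v hv).1 ?_
        calc C.t * v = C.t * v * (C.t * C.t) := by rw [C.tt, mul_one]
          _ = (C.t * v * C.t) * C.t := by group
          _ = v * C.t := by rw [h]
      X_le := fun i hi => T.XW _ (hm hi)
      X_fix := fun i hi v hv => by
        have h := (T.cent _ (hm hi) v (T.XW _ (hm hi) hv)).2 hv
        rw [h, mul_assoc, C.tt, mul_one]
      free := fun i hi v hv => by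
        obtain ⟨w, hw, h⟩ := T.surj _ (hm hi) v hv
        have hww := T.sq _ (hm hi) w hw
        have hwi : w⁻¹ = w := inv_eq_of_mul_eq_one_left hww
        have htw := T.conj_t _ (hm hi) w hw
        have htt2 := T.sq _ (hm hi) _ htw
        refine ⟨w, hw, ?_⟩
        have hvv := T.sq _ (hm hi) v (T.XW _ (hm hi) hv)
        have hvi : v⁻¹ = v := inv_eq_of_mul_eq_one_left hvv
        have hti : (C.t * w * C.t)⁻¹ = C.t * w * C.t := inv_eq_of_mul_eq_one_left htt2
        calc v = v⁻¹ := hvi.symm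
          _ = (w⁻¹ * (C.t * w * C.t))⁻¹ := by rw [h]
          _ = (C.t * w * C.t)⁻¹ * w := by group
          _ = (C.t * w * C.t) * w := by rw [hti]
          _ = C.t * w * C.t * w⁻¹ := by rw [hwi]
      comm := fun i j hij hj v hv w hw => by
        rcases seq_comm j hj i hij with h | ⟨h, k, hk, e⟩
        · have h1 := T.pos _ (hm (hij.trans hj)) _ (hm hj) h v hv w hw
          have h2 : v * w * v⁻¹ * w⁻¹ = 1 := by rw [h1]; group
          rw [h2]
          exact one_mem _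
        · have h1 := T.neg _ (hm (hij.trans hj)) _ (hm hj) h v hv w hw
          rw [← e] at h1
          exact Cfsg.Agent.Doubling.Growth.le_W (Vs C y) (Finset.mem_range.1 hk) h1
      indep := fun k hk => by
        rw [eq_bot_iff]
        intro g hg
        rw [Subgroup.mem_bot]
        rcases Uni.mem_zpowers C hg.1 with h | h
        · exact h
        · exfalso
          apply not_mem_Us C hk
          rw [← h]
          exact hg.2 }

/-- The doubled group. -/
noncomputable def P (C : Ctx G) (y : E → G) : Subgroup G := Growth.W (Vs C y) 12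

theorem four_le {i : ℕ} (hi : i < 12) : four (x C) y (seq i) ≤ P C y :=
  Cfsg.Agent.Doubling.Growth.le_W (Vs C y) hi

/-- `C_P(t) ≤ L` -/
theorem mem_L {u : G} (hu : u ∈ P C y) (ht : u * C.t = C.t * u) : u ∈ Uni.U C := by
  have h := (growth D).mem_U_iff (k := 12) le_rfl (w := u)
  rw [Uni.U_eq]
  refine h.2 ⟨hu, ?_⟩
  rw [mul_assoc, ht, ← mul_assoc, C.tt, one_mul]

theorem t_notMem_P : C.t ∉ P C y := fun h => C.t_notMem (U_le C (mem_L D h rfl))

variable {f : G} (F : IsF C y f)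

include F

theorem ft : f * C.t = C.t * f := F.lin.1

theorem f_notMem_L : f ∉ C.L ⊔ Subgroup.zpowers C.t := fun h => sw_notMem (Om_of_mem C F.lin h)

theorem f_notMem_P : f ∉ P C y := fun h =>
  f_notMem_L D F ((le_sup_left : C.L ≤ C.L ⊔ Subgroup.zpowers C.t) (U_le C (mem_L D h (ft D F))))

theorem f_inv : f⁻¹ = f := inv_eq_of_mul_eq_one_left F.ff

theorem f_four {s : E} (hs : s ∈ Φ) : ∀ v ∈ four (x C) y s, f * v * f ∈ four (x C) y (g0 s) := by
  have hle : four (x C) y s ≤ (four (x C) y (g0 s)).comap (MulAut.conj f).toMonoidHom := by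
    unfold four
    rw [Subgroup.closure_le]
    intro v hv
    show f * v * f⁻¹ ∈ four (x C) y (g0 s)
    rw [f_inv D F]
    rcases hv with rfl | hv
    · rw [F.fx s hs]
      exact x_mem_four _ _ _
    · rw [Set.mem_singleton_iff] at hv
      subst hv
      rcases F.fy s hs with h | h <;> rw [h]
      · exact y_mem_four _ _ _
      · exact mul_mem (y_mem_four _ _ _) (x_mem_four _ _ _)
  intro v hv
  have h1 : f * v * f⁻¹ ∈ four (x C) y (g0 s) := hle hv
  rwa [f_inv D F] at h1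

theorem f_P : ∀ p ∈ P C y, f * p * f ∈ P C y := by
  have hle : P C y ≤ (P C y).comap (MulAut.conj f).toMonoidHom := by
    refine iSup₂_le fun i hi v hv => ?_
    show f * v * f⁻¹ ∈ P C y
    rw [f_inv D F]
    have h1 := f_four D F (seq_mem i hi) v hv
    obtain ⟨k, hk, e⟩ := g0_seq i hi
    rw [← e] at h1
    exact four_le D (Finset.mem_range.1 hk) h1
  intro v hv
  have h1 : f * v * f⁻¹ ∈ P C y := hle hv
  rwa [f_inv D F] at h1

theorem f_fix {s : E} (hs : s ∈ Φ) (gs : g0 s = s) : ∀ v ∈ four (x C) y s, v * f = f * v := by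
  have hle : four (x C) y s ≤ Subgroup.centralizer {f} := by
    unfold four
    rw [Subgroup.closure_le]
    have key : ∀ v, f * v * f = v → v ∈ Subgroup.centralizer {f} := fun v h => by
      rw [Subgroup.mem_centralizer_singleton_iff]
      calc v * f = f * v * f * f := by rw [h]
        _ = f * v * (f * f) := by group
        _ = f * v := by rw [F.ff, mul_one]
    intro v hv
    rcases hv with rfl | hv
    · exact key _ (by rw [F.fx s hs, gs])
    · rw [Set.mem_singleton_iff] at hv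
      subst hv
      exact key _ (F.fix s hs gs)
  intro v hv
  exact Subgroup.mem_centralizer_singleton_iff.1 (hle hv)

/-! ### Orders -/

omit F in
theorem card_four [Finite G] {s : E} (hs : s ∈ Φ) : Nat.card (four (x C) y s) = 4 := by
  have hy : y s ∉ C.L := D.y_mem D4Root.root hs
  have hx1 : x C s ≠ 1 := x_ne C hs
  have hys : y s * y s = 1 := D.y_sq s hs
  have h1 : Nat.card (Subgroup.zpowers (x C s) ⊔ Subgroup.zpowers (y s) : Subgroup G) = 2 * Nat.card (Subgroup.zpowers (x C s)) := by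
    refine card_sup hys (fun h hh => ?_) (fun h => ?_)
    · have e : y s * h * y s = h := by
        rcases Uni.mem_zpowers C hh with e | e <;> rw [e]
        · rw [mul_one, hys]
        · rw [yx_self D hs, mul_assoc, hys, mul_one]
      rw [e]
      exact hh
    · rcases Uni.mem_zpowers C h with e | e
      · exact hy (by rw [e]; exact one_mem _)
      · exact hy (by rw [e]; exact x_mem C s)
  have h2 : Nat.card (Subgroup.zpowers (x C s)) = 2 := by
    rw [Nat.card_zpowers]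
    exact orderOf_eq_prime (by rw [pow_two]; exact x_sq C s) hx1
  have h3 : four (x C) y s = Subgroup.zpowers (x C s) ⊔ Subgroup.zpowers (y s) := by
    unfold four
    rw [Subgroup.zpowers_eq_closure, Subgroup.zpowers_eq_closure, ← Subgroup.closure_union]
    rfl
  rw [h3, h1, h2]

omit F in
theorem card_P [Finite G] : Nat.card (P C y) = 4 ^ 12 :=
  (growth D).card_W (fun i hi => card_four D (seq_mem i hi)) 12 le_rfl

/-- The centraliser of the reflection in the doubled group. -/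
theorem card_fix [Finite G] : 2 ^ 15 ≤ Nat.card (P C y ⊓ Subgroup.centralizer {f} : Subgroup G) := by
  have T := growth D
  let c : ℕ → ℕ := fun k => Nat.card (Growth.W (Vs C y) k ⊓ Subgroup.centralizer {f} : Subgroup G)
  have hfix : ∀ k ∈ [0, 1, 4, 5, 8, 9], k < 12 → c k * 4 ≤ c (k + 1) := by
    intro k hk hk12
    have h1 := T.card_fixed (f := f) hk12 (f_fix D F (seq_mem k hk12) (fixed_seq k hk))
    have h2 : Nat.card (Vs C y k) = 4 := card_four D (seq_mem k hk12)
    rw [h2] at h1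
    exact h1
  have hsw : ∀ k ∈ [2, 6, 10], k + 1 < 12 → c k * 2 ≤ c (k + 2) := by
    intro k hk hk12
    obtain ⟨e1, e2, e3⟩ := swap_seq k hk
    have m1 : seq k ∈ Φ := seq_mem k (by omega)
    have m2 : seq (k + 1) ∈ Φ := seq_mem (k + 1) hk12
    have hc : x C (seq k) * x C (seq (k + 1)) = x C (seq (k + 1)) * x C (seq k) := x_comm C m1 m2 (by rw [e3])
    refine T.card_pair (f := f) hk12 (a := x C (seq k)) (b := x C (seq (k + 1))) (x_mem_four _ _ _) (x_mem_four _ _ _)
      (x_ne C m2) ?_ ?_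
    · calc x C (seq k) * x C (seq (k + 1)) * (x C (seq k) * x C (seq (k + 1))) =
          x C (seq k) * (x C (seq (k + 1)) * x C (seq k)) * x C (seq (k + 1)) := by group
        _ = (x C (seq k) * x C (seq k)) * (x C (seq (k + 1)) * x C (seq (k + 1))) := by rw [← hc]; group
        _ = 1 := by rw [x_sq, x_sq, one_mul]
    · have h1 := F.fx _ m1
      have h2 := F.fx _ m2
      rw [e1] at h1
      rw [e2] at h2
      calc x C (seq k) * x C (seq (k + 1)) * f = x C (seq (k + 1)) * x C (seq k) * f := by rw [hc]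
        _ = (f * x C (seq k) * f) * (f * x C (seq (k + 1)) * f) * f := by rw [h1, h2]
        _ = f * x C (seq k) * (f * f) * x C (seq (k + 1)) * (f * f) := by group
        _ = f * (x C (seq k) * x C (seq (k + 1))) := by rw [F.ff]; group
  have h0 : c 0 = 1 := by
    show Nat.card (Growth.W (Vs C y) 0 ⊓ Subgroup.centralizer {f} : Subgroup G) = 1
    rw [Cfsg.Agent.Doubling.Growth.W_zero, bot_inf_eq]
    simp only [_root_.Subgroup.mem_bot, _root_.Nat.card_eq_fintype_card, _root_.Fintype.card_unique]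
  have s0 := hfix 0 (by decide) (by decide)
  have s1 := hfix 1 (by decide) (by decide)
  have s2 := hsw 2 (by decide) (by decide)
  have s4 := hfix 4 (by decide) (by decide)
  have s5 := hfix 5 (by decide) (by decide)
  have s6 := hsw 6 (by decide) (by decide)
  have s8 := hfix 8 (by decide) (by decide)
  have s9 := hfix 9 (by decide) (by decide)
  have s10 := hsw 10 (by decide) (by decide)
  have h12 : (2 : ℕ) ^ 15 ≤ c 12 := by
    norm_num only [] at s0 s1 s2 s4 s5 s6 s8 s9 s10 ⊢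
    omega
  exact h12

omit F in
/-- The highest root element is central in the doubled group. -/
theorem central {w : G} (hw : w ∈ four (x C) y zr) : ∀ p ∈ P C y, w * p = p * w := by
  have hle : P C y ≤ Subgroup.centralizer {w} := by
    refine iSup₂_le fun i hi v hv => ?_
    rw [Subgroup.mem_centralizer_singleton_iff]
    exact (D.four_comm D4Root.root (by decide) (seq_mem i hi) (zr_pos i hi) w hw v hv).symm
  intro p hp
  exact (Subgroup.mem_centralizer_singleton_iff.1 (hle hp)).symm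

omit F in
/-- Elements whose centraliser contains a large 2-group are not conjugate to `t`. -/
theorem no_conj [Finite G] {w g : G} {R : Subgroup G} (hR : R ≤ P C y) (hc : 2 ^ 15 ≤ Nat.card R)
    (hRw : ∀ p ∈ R, p * w = w * p) (h : g⁻¹ * C.t * g = w) : False := by
  have h1 : Nat.card R ∣ 2 ^ 24 := by
    have := Subgroup.card_dvd_of_le hR
    rw [card_P D] at this
    have e : (4 : ℕ) ^ 12 = 2 ^ 24 := by norm_num
    rwa [e] at this
  obtain ⟨j, -, hj⟩ := (Nat.dvd_prime_pow Nat.prime_two).1 h1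
  have h2 : 15 ≤ j := by
    rw [hj] at hc
    exact (Nat.pow_le_pow_iff_right (by norm_num)).1 hc
  have h3 : 2 ^ 15 ∣ Nat.card R := by
    rw [hj]
    exact pow_dvd_pow 2 h2
  apply CardC.cardC C
  refine h3.trans ?_
  have h4 : Nat.card (R.map (MulAut.conj g).toMonoidHom) = Nat.card R :=
    (Nat.card_congr (R.equivMapOfInjective (MulAut.conj g).toMonoidHom (MulAut.conj g).injective).toEquiv).symm
  rw [← h4]
  refine Subgroup.card_dvd_of_le ?_
  rintro _ ⟨p, hp, rfl⟩
  rw [Subgroup.mem_centralizer_singleton_iff]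
  show g * p * g⁻¹ * C.t = C.t * (g * p * g⁻¹)
  have e : C.t = g * w * g⁻¹ := by rw [← h]; group
  rw [e]
  calc g * p * g⁻¹ * (g * w * g⁻¹) = g * (p * w) * g⁻¹ := by group
    _ = g * w * g⁻¹ * (g * p * g⁻¹) := by rw [hRw p hp]; group

/-- Linear elements acting as `sw` or `sw z` in `f L`. -/
theorem eq_of {w l : G} {M : O8} (hw : C.IsLin w M) (hl : l ∈ C.L) (hwl : w = f * l) {m : Om} (hM : M = swO * Ctx.up m) :
    w = f * C.r m := by
  have h1 := F.lin.mul (C.isLin_r m)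
  rw [← hM] at h1
  rcases hw.eq_or h1 with h | h
  · exact h
  · exfalso
    apply C.t_notMem
    have e1 : f * l = C.t * (f * C.r m) := by rw [← hwl, h]
    have e2 : C.t = l * (C.r m)⁻¹ := by
      have e3 : f * l = f * (C.t * C.r m) := by
        rw [e1, ← mul_assoc, ← ft D F, mul_assoc]
      rw [mul_left_cancel e3, mul_inv_cancel_right]
    rw [e2]
    exact mul_mem hl (inv_mem (C.r_mem m))

/-- **(ORD)**: the involutions of `f U` are not conjugate to `t`. -/
theorem no [Finite G] {u : G} (hu : u ∈ P C y) (hut : u * C.t = C.t * u) (h2 : (f * u) * (f * u) = 1) (g : G) :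
    g⁻¹ * C.t * g ≠ f * u := by
  intro hg
  obtain ⟨m, hm⟩ := U_le C (mem_L D hu hut)
  have hlin : C.IsLin (f * u) (swO * Ctx.up m) := by
    rw [← hm]
    exact F.lin.mul (C.isLin_r m)
  have hsq : (swO * Ctx.up m) * (swO * Ctx.up m) = 1 := by
    have h3 := hlin.mul hlin
    rw [h2] at h3
    exact h3.unique C.isLin_one
  have hnot : ((swO * Ctx.up m : O8) : V ≃ₗ[ZMod 2] V) ∉ Om := fun h => sw_notMem (by
    have h3 : sw * (m : V ≃ₗ[ZMod 2] V) ∈ Om := h
    exact (Subgroup.mul_mem_cancel_right Om m.2).1 h3)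
  obtain ⟨k, hk, hk2⟩ := EvenLin.lin (swO * Ctx.up m).2 hnot (congrArg Subtype.val hsq)
  set l : G := C.r ⟨k, hk⟩ with hl
  have hlL : l ∈ C.L := C.r_mem _
  have hlin2 : C.IsLin (l * (f * u) * l⁻¹) (Ctx.up ⟨k, hk⟩ * (swO * Ctx.up m) * (Ctx.up ⟨k, hk⟩)⁻¹) :=
    ((C.isLin_r ⟨k, hk⟩).mul hlin).mul (C.isLin_r ⟨k, hk⟩).inv
  have hfl : l * (f * u) * l⁻¹ = f * ((f⁻¹ * l * f) * u * l⁻¹) := by group
  have hflL : (f⁻¹ * l * f) * u * l⁻¹ ∈ C.L :=
    mul_mem (mul_mem (v_L F.lin hlL) (by rw [← hm]; exact C.r_mem m)) (inv_mem hlL)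
  have hR : ∀ w, (w = f ∨ w = f * x C zr) → ∀ p ∈ (P C y ⊓ Subgroup.centralizer {f} : Subgroup G), p * w = w * p := by
    intro w hw p hp
    have h4 : p * f = f * p := Subgroup.mem_centralizer_singleton_iff.1 hp.2
    have h5 : p * x C zr = x C zr * p := (central D (x_mem_four _ _ _) p hp.1).symm
    rcases hw with hw | hw <;> rw [hw]
    · exact h4
    · rw [← mul_assoc, h4, mul_assoc, h5, mul_assoc]
  have hw : l * (f * u) * l⁻¹ = f ∨ l * (f * u) * l⁻¹ = f * x C zr := by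
    rcases hk2 with hk2 | hk2
    · left
      have := eq_of D F hlin2 hflL hfl (m := 1) (Subtype.ext (by
        show k * (sw * (m : V ≃ₗ[ZMod 2] V)) * k⁻¹ = sw * 1
        rw [mul_one]
        exact hk2))
      rw [map_one, mul_one] at this
      exact this
    · right
      have e0 : zr = wt 0 + wt 1 := by decide
      exact eq_of D F hlin2 hflL hfl (m := xm zr) (Subtype.ext (by
        show k * (sw * (m : V ≃ₗ[ZMod 2] V)) * k⁻¹ = sw * xO zr
        rw [e0, xO_wt (by decide)]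
        exact hk2))
  refine no_conj D (R := P C y ⊓ Subgroup.centralizer {f}) inf_le_left (card_fix D F) (hR _ hw) (g := g * l⁻¹) ?_
  rw [← hg]
  group

/-! ### The Sylow subgroup -/

/-- The generators of the Sylow 2-subgroup of `C(t)`. -/
def S (C : Ctx G) (f : G) : Set G := {s | (∃ i < 12, s = x C (seq i)) ∨ s = C.t ∨ s = f}

omit D in
omit F in
theorem closure_S : Subgroup.closure (S C f) = (Uni.U C ⊔ Subgroup.zpowers C.t) ⊔ Subgroup.zpowers f := by
  apply le_antisymm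
  · rw [Subgroup.closure_le]
    rintro s (⟨i, hi, rfl⟩ | rfl | rfl)
    · refine (le_sup_left.trans le_sup_left : Uni.U C ≤ _) ?_
      rw [Uni.U_eq]
      exact mem_Us C hi
    · exact (le_sup_right.trans le_sup_left : Subgroup.zpowers C.t ≤ _) (Subgroup.mem_zpowers _)
    · exact (le_sup_right : Subgroup.zpowers s ≤ _) (Subgroup.mem_zpowers _)
  · refine sup_le (sup_le ?_ ?_) ?_
    · rw [Uni.U_eq]
      refine iSup₂_le fun i hi => ?_
      rw [Subgroup.zpowers_le]
      exact Subgroup.subset_closure (Or.inl ⟨i, hi, rfl⟩)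
    · rw [Subgroup.zpowers_le]
      exact Subgroup.subset_closure (Or.inr (Or.inl rfl))
    · rw [Subgroup.zpowers_le]
      exact Subgroup.subset_closure (Or.inr (Or.inr rfl))

theorem f_Us : ∀ p ∈ Uni.U C, f * p * f ∈ Uni.U C := by
  intro p hp
  have h1 : p ∈ P C y := by
    rw [Uni.U_eq] at hp
    exact (growth D).U_le (k := 12) le_rfl hp
  have h2 : p * C.t = C.t * p := by
    obtain ⟨m, rfl⟩ := U_le C hp
    exact (C.comm m).eq
  refine mem_L D (f_P D F p h1) ?_
  have h3 := ft D F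
  calc f * p * f * C.t = f * p * (f * C.t) := by group
    _ = f * (p * C.t) * f := by rw [h3]; group
    _ = (f * C.t) * p * f := by rw [h2]; group
    _ = C.t * (f * p * f) := by rw [h3]; group

theorem card_S [Finite G] : Nat.card (Subgroup.closure (S C f)) = 2 ^ 14 := by
  have h1 : Nat.card (Uni.U C ⊔ Subgroup.zpowers C.t : Subgroup G) = 2 ^ 13 := by
    rw [card_sup C.tt (t_conj C (U_le C)) (fun h => C.t_notMem (U_le C h)), card_U]
    norm_num
  rw [closure_S, card_sup F.ff ?_ ?_, h1]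
  · norm_num
  · have hle : Uni.U C ⊔ Subgroup.zpowers C.t ≤
        (Uni.U C ⊔ Subgroup.zpowers C.t).comap (MulAut.conj f).toMonoidHom := by
      refine sup_le (fun p hp => ?_) ?_
      · show f * p * f⁻¹ ∈ Uni.U C ⊔ Subgroup.zpowers C.t
        rw [f_inv D F]
        exact (le_sup_left : Uni.U C ≤ Uni.U C ⊔ Subgroup.zpowers C.t) (f_Us D F p hp)
      · rw [Subgroup.zpowers_le]
        show f * C.t * f⁻¹ ∈ Uni.U C ⊔ Subgroup.zpowers C.t
        rw [ft D F, mul_inv_cancel_right]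
        exact (le_sup_right : Subgroup.zpowers C.t ≤ Uni.U C ⊔ Subgroup.zpowers C.t) (Subgroup.mem_zpowers _)
    intro p hp
    have h2 : f * p * f⁻¹ ∈ Uni.U C ⊔ Subgroup.zpowers C.t := hle hp
    rwa [f_inv D F] at h2
  · exact fun h => f_notMem_L D F (sup_le_sup_right (U_le C) _ h)

theorem odd_S [Finite G] : Odd ((Subgroup.closure (S C f)).relIndex (Subgroup.centralizer {C.t})) := by
  have hle : Subgroup.closure (S C f) ≤ Subgroup.centralizer {C.t} := by
    rw [Subgroup.closure_le]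
    rintro s (⟨i, hi, rfl⟩ | rfl | rfl)
    · exact Subgroup.mem_centralizer_singleton_iff.2 (D.tL _ (x_mem C _)).symm
    · exact Subgroup.mem_centralizer_singleton_iff.2 rfl
    · exact Subgroup.mem_centralizer_singleton_iff.2 (ft D F)
  rw [← Nat.not_even_iff_odd]
  intro hev
  apply CardC.cardC C
  have h1 := Subgroup.card_mul_index ((Subgroup.closure (S C f)).subgroupOf (Subgroup.centralizer {C.t}))
  rw [Nat.card_congr (Subgroup.subgroupOfEquivOfLe hle).toEquiv, card_S D F] at h1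
  rw [← h1]
  obtain ⟨j, hj⟩ := even_iff_two_dvd.1 hev
  have hj' : ((Subgroup.closure (S C f)).subgroupOf (Subgroup.centralizer {C.t})).index = 2 * j := hj
  rw [hj']
  exact ⟨j, by ring⟩

/-! ### The end -/

theorem hyp [Finite G] : Cfsg.Agent.Doubling.Even.Hyp C.t f (P C y) (S C f) (y zr) (x C zr) := by
  have hz : zr ∈ Φ := by decide
  have hgz : g0 zr = zr := by decide
  have hy : y zr ∉ C.L := D.y_mem D4Root.root hz
  have hzP : four (x C) y zr ≤ P C y := by
    rw [← seq_zero]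
    exact four_le D (by norm_num)
  exact
    { tt := C.tt
      ff := F.ff
      tf := (ft D F).symm
      tP := fun p hp => (growth D).conj_W le_rfl hp
      fP := f_P D F
      f_notMem := f_notMem_P D F
      t_notMem := t_notMem_P D
      conj := fun p hp h => (growth D).exists_conj hp h
      sq := by
        rintro s (⟨i, hi, rfl⟩ | rfl | rfl)
        · exact x_sq C _
        · exact C.tt
        · exact F.ff
      comm := by
        rintro s (⟨i, hi, rfl⟩ | rfl | rfl)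
        · exact (D.tL _ (x_mem C _)).symm
        · rfl
        · exact ft D F
      mem := by
        rintro s (⟨i, hi, rfl⟩ | rfl | rfl)
        · exact Or.inl (four_le D hi (x_mem_four _ _ _))
        · exact Or.inr (Or.inl rfl)
        · exact Or.inr (Or.inr rfl)
      tS := Or.inr (Or.inl rfl)
      yP := hzP (y_mem_four _ _ _)
      zP := hzP (x_mem_four _ _ _)
      y_ne := fun h => hy (by rw [h]; exact one_mem _)
      z_ne := x_ne C hz
      yz_ne := fun h => hy (by rw [h]; exact x_mem C _)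
      zz := x_sq C _
      tz := D.tL _ (x_mem C _)
      yc := central D (y_mem_four _ _ _)
      zc := central D (x_mem_four _ _ _)
      yf := f_fix D F hz hgz _ (y_mem_four _ _ _)
      zf := f_fix D F hz hgz _ (x_mem_four _ _ _)
      cent := fun g hg h => by
        refine FactK.cent_pos C hg fun s hs hs2 => ?_
        obtain ⟨i, hi, rfl⟩ := seq_surj s hs hs2
        exact h _ (Or.inl ⟨i, Finset.mem_range.1 hi, rfl⟩)
      no := fun u hu h1 h2 g => no D F hu h1 h2 g }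

end Cfsg.Agent.StdO8.Even

namespace Cfsg.Agent.StdO8.Even

open Cfsg.Agent.StdO8.D4Root (E ip roots Φ)
open Cfsg.Agent.StdO8.Frame (Ctx)
open Cfsg.Agent.StdO8.DataOf

variable {G : Type*} [Group G] (C : Ctx G)

/-- **The end of the doubling argument** for `L ≅ Ω₈⁺(2)` and `|C(t) : ⟨t⟩ L|` even. -/
theorem exists_hom [Finite G] {y : E → G} (y_sq : ∀ r ∈ Φ, y r * y r = 1) (ty : ∀ r ∈ Φ, y r * C.t * y r = C.t * x C r)
    (yC : ∀ r ∈ Φ, ∀ g ∈ C.L, g * x C r = x C r * g → g * y r = y r * g)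
    (hev : ¬ Odd ((C.L ⊔ Subgroup.zpowers C.t).relIndex (Subgroup.centralizer {C.t}))) :
    ∃ m : G →* ℤˣ, m C.t = -1 := by
  have D := data C y_sq ty yC
  obtain ⟨f, F⟩ := EvenF.exists_f D hev
  refine (hyp D F).exists_hom ?_ (odd_S D F)
  exact IsPGroup.of_card (card_S D F)

/-- Both cases. -/
theorem exists_hom' [Finite G] {y : E → G} (y_sq : ∀ r ∈ Φ, y r * y r = 1) (ty : ∀ r ∈ Φ, y r * C.t * y r = C.t * x C r)
    (yC : ∀ r ∈ Φ, ∀ g ∈ C.L, g * x C r = x C r * g → g * y r = y r * g) : ∃ m : G →* ℤˣ, m C.t = -1 := by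
  by_cases h : Odd ((C.L ⊔ Subgroup.zpowers C.t).relIndex (Subgroup.centralizer {C.t}))
  · exact Uni.exists_hom C y_sq ty yC h
  · exact exists_hom C y_sq ty yC h

end Cfsg.Agent.StdO8.Even
end
end
end
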