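import Cfsg.Agent.TwoFusion.TransferIndex
import Cfsg.Agent.FastGrp
import Cfsg.Agent.Prune
set_option linter.all false
prune_inst 0x7f00000000000000000000000000000000000000000000000000000000000000000000000000000000000000000000000000000000000000000000000000000000000000000000000000000000000000003fffffffffffffffffffffffffffbeffbdffffffff
open scoped Cfsg.Agent.FastGrp

/-!
# A transfer argument for functions defined on centralizers of involutions

`z` is an element of the centre of the Sylow `p`-subgroup `S`, `χ` a function on `G` whose restriction to `C_G(z)` is a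
homomorphism to an abelian group. If the values seen from two commuting conjugates of `z` agree, then a simple
non-abelian group has `χ = 1` on `S`.
-/

set_option autoImplicit false

namespace Cfsg.Agent.StandardComponent.LocalTransfer

open Subgroup
open scoped Pointwise

variable {G : Type*} [Group G] [Finite G] {p : ℕ} [Fact p.Prime]

omit [Finite G] [Fact p.Prime] in
/-- A `p`-element of `G` commuting elementwise with a `p`-subgroup generates with it a `p`-group. -/
theorem isPGroup_sup_zpowers (P : Subgroup G) (hP : IsPGroup p P) (w : G) (hw : ∃ k, w ^ p ^ k = 1)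
    (hc : ∀ x ∈ P, x * w = w * x) : IsPGroup p ↥(P ⊔ zpowers w) := by
  have hZ : IsPGroup p (zpowers w) := by
    rintro ⟨y, hy⟩
    obtain ⟨m, rfl⟩ := mem_zpowers_iff.mp hy
    obtain ⟨k, hk⟩ := hw
    refine ⟨k, ?_⟩
    apply Subtype.ext
    show (w ^ m) ^ p ^ k = 1
    rw [← zpow_natCast, ← zpow_mul, mul_comm, zpow_mul, zpow_natCast, hk, one_zpow]
  apply hP.to_sup_of_normal_right' hZ
  intro y hy
  have hyz : ∀ m : ℤ, y * w ^ m * y⁻¹ = w ^ m := by
    intro m
    have h1 : Commute y w := hc y hy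
    rw [(h1.zpow_right m).eq, mul_inv_cancel_right]
  have hle : ∀ u ∈ zpowers w, y * u * y⁻¹ ∈ zpowers w := by
    intro u hu
    obtain ⟨m, rfl⟩ := mem_zpowers_iff.mp hu
    rw [hyz]
    exact hu
  rw [mem_normalizer_iff]
  intro u
  constructor
  · exact hle u
  · intro hu
    obtain ⟨m, hm⟩ := mem_zpowers_iff.mp hu
    have h1 : u = w ^ m := by
      have h2 : u = y⁻¹ * (y * u * y⁻¹) * y := by group
      rw [h2, ← hm]
      have h3 := hyz m
      rw [mul_inv_eq_iff_eq_mul] at h3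
      rw [mul_assoc, ← h3, inv_mul_cancel_left]
    rw [h1]
    exact ⟨m, rfl⟩

/-- The local hypothesis propagates to all conjugates of `z` commuting with `x`. -/
theorem propagate {A : Type*} (S : Sylow p G) {z : G} (hzS : z ∈ S)
    (hzc : ∀ s ∈ S, s * z = z * s) (χ : G → A)
    (hloc : ∀ g : G, g * z * g⁻¹ * z = z * (g * z * g⁻¹) → ∀ x, (∃ k, x ^ p ^ k = 1) →
      x * z = z * x → x * (g * z * g⁻¹) = g * z * g⁻¹ * x → χ (g⁻¹ * x * g) = χ x)
    (g x : G) (hx : ∃ k, x ^ p ^ k = 1) (hxz : x * z = z * x)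
    (hxu : x * (g * z * g⁻¹) = g * z * g⁻¹ * x) : χ (g⁻¹ * x * g) = χ x := by
  classical
  set C : Subgroup G := centralizer ({x} : Set G) with hC
  have hmemC : ∀ y, y ∈ C ↔ y * x = x * y := fun y => mem_centralizer_singleton_iff
  have hzp : ∃ k, z ^ p ^ k = 1 := by
    obtain ⟨k, hk⟩ := S.2 ⟨z, hzS⟩
    exact ⟨k, congrArg Subtype.val hk⟩
  have hconjp : ∀ g y : G, (∃ k, y ^ p ^ k = 1) → ∃ k, (g * y * g⁻¹) ^ p ^ k = 1 := by
    rintro g y ⟨k, hk⟩
    exact ⟨k, by rw [conj_pow, hk]; group⟩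
  have hzC : z ∈ C := (hmemC z).2 hxz.symm
  have hzpow : IsPGroup p (zpowers (⟨z, hzC⟩ : C)) := by
    rintro ⟨y, hy⟩
    obtain ⟨m, rfl⟩ := mem_zpowers_iff.mp hy
    obtain ⟨k, hk⟩ := hzp
    refine ⟨k, ?_⟩
    apply Subtype.ext
    apply Subtype.ext
    show (z ^ m) ^ p ^ k = 1
    rw [← zpow_natCast, ← zpow_mul, mul_comm, zpow_mul, zpow_natCast, hk, one_zpow]
  obtain ⟨P, hP⟩ := hzpow.exists_le_sylow
  have hzP : (⟨z, hzC⟩ : C) ∈ P := hP (mem_zpowers _)
  -- the image of P in G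
  set P' : Subgroup G := (P : Subgroup C).map C.subtype with hP'
  have hP'p : IsPGroup p P' := P.2.map C.subtype
  have hzP' : z ∈ P' := ⟨⟨z, hzC⟩, hzP, rfl⟩
  have hP'C : P' ≤ C := by
    rintro _ ⟨y, -, rfl⟩
    exact y.2
  -- P' lies in a conjugate of S
  obtain ⟨T, hT⟩ := hP'p.exists_le_sylow
  obtain ⟨k, hk⟩ := MulAction.exists_smul_eq G S T
  have hPk : ∀ y ∈ P', k⁻¹ * y * k ∈ S := by
    intro y hy
    have h1 : y ∈ (T : Subgroup G) := hT hy
    rw [← hk] at h1
    have h2 : y ∈ (MulAut.conj k • (S : Subgroup G)) := h1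
    obtain ⟨s, hs, hsy⟩ := h2
    have h3 : k * s * k⁻¹ = y := hsy
    rw [← h3]
    have h4 : k⁻¹ * (k * s * k⁻¹) * k = s := by group
    rw [h4]
    exact hs
  -- w := k z k⁻¹ centralizes P'
  have hwP : ∀ y ∈ P', y * (k * z * k⁻¹) = k * z * k⁻¹ * y := by
    intro y hy
    have h1 := hzc _ (hPk y hy)
    calc y * (k * z * k⁻¹) = k * (k⁻¹ * y * k * z) * k⁻¹ := by group
      _ = k * (z * (k⁻¹ * y * k)) * k⁻¹ := by rw [h1]
      _ = k * z * k⁻¹ * y := by group
  -- a p-element of C commuting with P' lies in P'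
  have hmax : ∀ w ∈ C, (∃ k, w ^ p ^ k = 1) → (∀ y ∈ P', y * w = w * y) → w ∈ P' := by
    intro w hwC hwp hwc
    have h1 : IsPGroup p ↥((P : Subgroup C) ⊔ zpowers (⟨w, hwC⟩ : C)) := by
      apply isPGroup_sup_zpowers _ P.2
      · obtain ⟨j, hj⟩ := hwp
        exact ⟨j, Subtype.ext hj⟩
      · intro y hy
        exact Subtype.ext (hwc _ ⟨y, hy, rfl⟩)
    have h2 := P.3 h1 le_sup_left
    have h3 : (⟨w, hwC⟩ : C) ∈ (P : Subgroup C) := by
      rw [← h2]
      exact (le_sup_right : zpowers (⟨w, hwC⟩ : C) ≤ _) (mem_zpowers _)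
    exact ⟨_, h3, rfl⟩
  have hxP' : x ∈ P' := by
    apply hmax x ((hmemC x).2 rfl) hx
    intro y hy
    exact (hmemC y).1 (hP'C hy)
  -- u is conjugate in C into P'
  have huC : g * z * g⁻¹ ∈ C := (hmemC _).2 hxu.symm
  have hupow : IsPGroup p (zpowers (⟨g * z * g⁻¹, huC⟩ : C)) := by
    rintro ⟨y, hy⟩
    obtain ⟨m, rfl⟩ := mem_zpowers_iff.mp hy
    obtain ⟨k, hk⟩ := hconjp g z hzp
    refine ⟨k, ?_⟩
    apply Subtype.ext
    apply Subtype.ext
    show ((g * z * g⁻¹) ^ m) ^ p ^ k = 1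
    rw [← zpow_natCast, ← zpow_mul, mul_comm, zpow_mul, zpow_natCast, hk, one_zpow]
  obtain ⟨Q, hQ⟩ := hupow.exists_le_sylow
  obtain ⟨c, hc⟩ := MulAction.exists_smul_eq C Q P
  have huP : (c : G) * (g * z * g⁻¹) * (c : G)⁻¹ ∈ P' := by
    have h1 : (⟨g * z * g⁻¹, huC⟩ : C) ∈ (Q : Subgroup C) := hQ (mem_zpowers _)
    have h2 : c * ⟨g * z * g⁻¹, huC⟩ * c⁻¹ ∈ (P : Subgroup C) := by
      rw [← hc]
      exact ⟨_, h1, rfl⟩
    exact ⟨_, h2, rfl⟩
  -- first step: from z to w
  have e1 : χ (k⁻¹ * x * k) = χ x := by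
    apply hloc k _ x hx hxz
    · exact hwP x hxP'
    · exact (hwP z hzP').symm
  -- second step: from w to the conjugate of u
  have hcx : (c : G)⁻¹ * x * c = x := by
    have h1 : (c : G) * x = x * c := (hmemC c).1 c.2
    rw [mul_assoc, ← h1, inv_mul_cancel_left]
  have e2 : χ ((k⁻¹ * c * g)⁻¹ * (k⁻¹ * x * k) * (k⁻¹ * c * g)) = χ (k⁻¹ * x * k) := by
    have hwu := hwP _ huP
    have hconj : k⁻¹ * c * g * z * (k⁻¹ * c * g)⁻¹ = k⁻¹ * ((c : G) * (g * z * g⁻¹) * (c : G)⁻¹) * k := by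
      group
    apply hloc (k⁻¹ * c * g)
    · rw [hconj]
      calc k⁻¹ * ((c : G) * (g * z * g⁻¹) * (c : G)⁻¹) * k * z
          = k⁻¹ * ((c : G) * (g * z * g⁻¹) * (c : G)⁻¹ * (k * z * k⁻¹)) * k := by group
        _ = k⁻¹ * (k * z * k⁻¹ * ((c : G) * (g * z * g⁻¹) * (c : G)⁻¹)) * k := by rw [hwu]
        _ = _ := by group
    · obtain ⟨j, hj⟩ := hx
      refine ⟨j, ?_⟩
      have := conj_pow (i := p ^ j) (a := k⁻¹) (b := x)
      rw [inv_inv] at this
      rw [this, hj]; group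
    · have h1 := hwP x hxP'
      calc k⁻¹ * x * k * z = k⁻¹ * (x * (k * z * k⁻¹)) * k := by group
        _ = k⁻¹ * (k * z * k⁻¹ * x) * k := by rw [h1]
        _ = z * (k⁻¹ * x * k) := by group
    · rw [hconj]
      have h1 : x * ((c : G) * (g * z * g⁻¹) * (c : G)⁻¹) = (c : G) * (g * z * g⁻¹) * (c : G)⁻¹ * x :=
        ((hmemC _).1 (hP'C huP)).symm
      calc k⁻¹ * x * k * (k⁻¹ * ((c : G) * (g * z * g⁻¹) * (c : G)⁻¹) * k)
          = k⁻¹ * (x * ((c : G) * (g * z * g⁻¹) * (c : G)⁻¹)) * k := by group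
        _ = k⁻¹ * ((c : G) * (g * z * g⁻¹) * (c : G)⁻¹ * x) * k := by rw [h1]
        _ = _ := by group
  have e3 : (k⁻¹ * c * g)⁻¹ * (k⁻¹ * x * k) * (k⁻¹ * c * g) = g⁻¹ * x * g := by
    calc (k⁻¹ * c * g)⁻¹ * (k⁻¹ * x * k) * (k⁻¹ * c * g) = g⁻¹ * ((c : G)⁻¹ * x * c) * g := by group
      _ = g⁻¹ * x * g := by rw [hcx]
  rw [e3] at e2
  rw [e2, e1]

/-- **Local transfer.** If `χ` is a homomorphism on `C_G(z)`, `z ∈ Z(S)`, and its values seen from commuting
conjugates of `z` agree, then `G` has a normal subgroup `K` with `K ∩ S = {s ∈ S | χ s = 1}` of the index of the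
latter in `S`. -/
theorem exists_normal {A : Type*} [CommGroup A] (S : Sylow p G) {z : G} (hzS : z ∈ S)
    (hzc : ∀ s ∈ S, s * z = z * s) (χ : G → A)
    (hmul : ∀ x y, x * z = z * x → y * z = z * y → χ (x * y) = χ x * χ y)
    (hloc : ∀ g : G, g * z * g⁻¹ * z = z * (g * z * g⁻¹) → ∀ x, (∃ k, x ^ p ^ k = 1) →
      x * z = z * x → x * (g * z * g⁻¹) = g * z * g⁻¹ * x → χ (g⁻¹ * x * g) = χ x) :
    ∃ (K D : Subgroup G), K.Normal ∧ D ≤ S ∧ (∀ s, s ∈ D ↔ s ∈ S ∧ χ s = 1) ∧ K.index = D.relIndex S ∧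
      K ⊓ S = D := by
  have hone : χ 1 = 1 := by
    have := hmul 1 1 (by simp) (by simp)
    rw [mul_one] at this
    exact (mul_eq_left.mp this.symm)
  let D : Subgroup G :=
    { carrier := {s | s ∈ S ∧ χ s = 1}
      mul_mem' := by
        rintro a b ⟨ha, ha1⟩ ⟨hb, hb1⟩
        refine ⟨mul_mem ha hb, ?_⟩
        rw [hmul a b (hzc a ha) (hzc b hb), ha1, hb1, mul_one]
      one_mem' := ⟨one_mem _, hone⟩
      inv_mem' := by
        rintro a ⟨ha, ha1⟩
        refine ⟨inv_mem ha, ?_⟩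
        have h1 := hmul a a⁻¹ (hzc a ha) (hzc _ (inv_mem ha))
        rw [mul_inv_cancel, hone, ha1, one_mul] at h1
        exact h1.symm }
  have hD : ∀ s, s ∈ D ↔ s ∈ S ∧ χ s = 1 := fun s => Iff.rfl
  obtain ⟨K, hK, hKi, hKS⟩ := Cfsg.Agent.TwoFusion.TransferIndex.exists_normal_of_fusion S D
    (fun s hs => hs.1) (by
      intro s hs g hgs
      refine ⟨mul_mem (inv_mem hs) hgs, ?_⟩
      rw [hmul _ _ (hzc _ (inv_mem hs)) (hzc _ hgs)]
      -- χ (g s g⁻¹) = χ s
      have h1 : χ (g⁻¹ * (g * s * g⁻¹) * g) = χ (g * s * g⁻¹) := by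
        apply propagate S hzS hzc χ hloc g (g * s * g⁻¹)
        · obtain ⟨k, hk⟩ := S.2 ⟨_, hgs⟩
          exact ⟨k, congrArg Subtype.val hk⟩
        · exact hzc _ hgs
        · have h2 := hzc s hs
          calc g * s * g⁻¹ * (g * z * g⁻¹) = g * (s * z) * g⁻¹ := by group
            _ = g * (z * s) * g⁻¹ := by rw [h2]
            _ = _ := by group
      have h3 : g⁻¹ * (g * s * g⁻¹) * g = s := by group
      rw [h3] at h1
      rw [← h1, ← hmul _ _ (hzc _ (inv_mem hs)) (hzc _ hs), inv_mul_cancel, hone])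
  exact ⟨K, D, hK, fun s hs => hs.1, hD, hKi, hKS⟩

/-- A finite simple group which is a `p`-group is commutative. -/
theorem commutative_of_isPGroup [IsSimpleGroup G] (hG : IsPGroup p G) : IsMulCommutative G := by
  have : Nontrivial (center G) := hG.center_nontrivial
  rcases (inferInstance : (center G).Normal).eq_bot_or_eq_top with h | h
  · exact absurd h ((Subgroup.nontrivial_iff_ne_bot _).1 this)
  · refine ⟨⟨fun a b => ?_⟩⟩
    have ha : b ∈ center G := by rw [h]; trivial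
    exact mem_center_iff.1 ha a

/-- In a non-abelian simple group the local homomorphism is trivial on the Sylow subgroup. -/
theorem eq_one_of_simple [IsSimpleGroup G] (hG : ¬ IsMulCommutative G) {A : Type*} [CommGroup A]
    (S : Sylow p G) {z : G} (hzS : z ∈ S)
    (hzc : ∀ s ∈ S, s * z = z * s) (χ : G → A)
    (hmul : ∀ x y, x * z = z * x → y * z = z * y → χ (x * y) = χ x * χ y)
    (hloc : ∀ g : G, g * z * g⁻¹ * z = z * (g * z * g⁻¹) → ∀ x, (∃ k, x ^ p ^ k = 1) →
      x * z = z * x → x * (g * z * g⁻¹) = g * z * g⁻¹ * x → χ (g⁻¹ * x * g) = χ x) :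
    ∀ s ∈ S, χ s = 1 := by
  obtain ⟨K, D, hK, hDS, hD, hKi, hKS⟩ := exists_normal S hzS hzc χ hmul hloc
  rcases hK.eq_bot_or_eq_top with h | h
  · exfalso
    apply hG
    apply commutative_of_isPGroup (p := p)
    -- |G| = |S|
    rw [h] at hKi
    rw [index_bot] at hKi
    have h1 : D.relIndex S ≤ Nat.card S := by
      rw [relIndex]
      exact Nat.le_of_dvd Nat.card_pos (index_dvd_card _)
    have h2 : Nat.card S ≤ Nat.card G := card_le_card_group _
    have h3 : Nat.card S = Nat.card G := le_antisymm h2 (by rw [hKi]; exact h1)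
    rw [IsPGroup.iff_card]
    rw [← h3]
    exact IsPGroup.iff_card.1 S.2
  · intro s hs
    have h1 : s ∈ K ⊓ (S : Subgroup G) := ⟨by rw [h]; trivial, hs⟩
    rw [hKS] at h1
    exact ((hD s).1 h1).2

/-- In a non-abelian simple group a local homomorphism to a group of exponent `p` is trivial on
the whole centralizer of `z`. -/
theorem eq_one_of_simple' [IsSimpleGroup G] (hG : ¬ IsMulCommutative G) {A : Type*} [CommGroup A]
    (hA : ∀ a : A, a ^ p = 1) (S : Sylow p G) {z : G} (hzS : z ∈ S)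
    (hzc : ∀ s ∈ S, s * z = z * s) (χ : G → A)
    (hmul : ∀ x y, x * z = z * x → y * z = z * y → χ (x * y) = χ x * χ y)
    (hloc : ∀ g : G, g * z * g⁻¹ * z = z * (g * z * g⁻¹) → ∀ x, (∃ k, x ^ p ^ k = 1) →
      x * z = z * x → x * (g * z * g⁻¹) = g * z * g⁻¹ * x → χ (g⁻¹ * x * g) = χ x) :
    ∀ x, x * z = z * x → χ x = 1 := by
  classical
  have hS := eq_one_of_simple hG S hzS hzc χ hmul hloc
  have hone : χ 1 = 1 := hS 1 (one_mem _)
  -- the restriction to the centralizer of z as a homomorphism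
  set C : Subgroup G := centralizer ({z} : Set G) with hC
  have hmemC : ∀ y, y ∈ C ↔ y * z = z * y := fun y => mem_centralizer_singleton_iff
  let f : C →* A :=
    { toFun := fun x => χ x
      map_one' := hone
      map_mul' := fun x y => hmul x y ((hmemC x).1 x.2) ((hmemC y).1 y.2) }
  have hSC : (S : Subgroup G) ≤ C := fun s hs => (hmemC s).2 (hzc s hs)
  let S' : Sylow p C := S.subtype hSC
  have hker : ((S' : Subgroup C)) ≤ f.ker := by
    intro s hs
    have h1 : (s : G) ∈ S := hs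
    exact hS _ h1
  have hidx : f.ker.index = 1 := by
    have h1 : f.ker.index ∣ (S' : Subgroup C).index := index_dvd_of_le hker
    have h2 : ¬ p ∣ (S' : Subgroup C).index := S'.not_dvd_index
    have h3 : ¬ p ∣ f.ker.index := fun h => h2 (h.trans h1)
    by_contra hne
    -- the quotient has exponent p, so its order is divisible only by p
    obtain ⟨q, hq, hqd⟩ := Nat.exists_prime_and_dvd hne
    have hcard : f.ker.index = Nat.card f.range := index_ker f
    rw [hcard] at hqd h3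
    have := Fact.mk hq
    have : Finite f.range := Finite.of_surjective f.rangeRestrict f.rangeRestrict_surjective
    obtain ⟨y, hy⟩ := exists_prime_orderOf_dvd_card' q hqd
    have h5 : y ^ p = 1 := Subtype.ext (hA y)
    have h6 : q ∣ p := by rw [← hy]; exact orderOf_dvd_of_pow_eq_one h5
    have h7 : q = p := (Nat.prime_dvd_prime_iff_eq hq (Fact.out : p.Prime)).1 h6
    rw [h7] at hqd
    exact h3 hqd
  rw [index_eq_one] at hidx
  intro x hx
  have h1 : (⟨x, (hmemC x).2 hx⟩ : C) ∈ f.ker := by rw [hidx]; trivial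
  exact h1

end Cfsg.Agent.StandardComponent.LocalTransfer
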